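import Cfsg.Agent.N2.Ex.Loc.Defs
import Cfsg.Agent.N2.Ex.K.Base
import Cfsg.Agent.DS.Nt.JBox

/-!
# N2, exceptional groups, the local case: the vectors fixed by `E` are fixed by `J z` (helper75)

`boxFJ2 : BoxFJ2`, `boxFJ3 : BoxFJ3`.
-/

set_option autoImplicit false
set_option linter.unusedSectionVars false

namespace Cfsg.Agent.N2.Ex.Loc

open CoxeterSystem Cfsg Cfsg.Lie Cfsg.Lie.ChevalleyDatum
open Cfsg.Agent.ChevalleyStructure Cfsg.Agent.ChevalleyStructure.Elts Cfsg.Agent.ChevalleyStructure.CoxeterGeom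
  Cfsg.Agent.ChevalleyStructure.CoxeterGeomTypes Cfsg.Agent.ChevalleyStructure.RootVec
open Cfsg.Agent.Tits.Roots Cfsg.Agent.Tits.Core Cfsg.Agent.Nodes Cfsg.Agent.Nodes.RGDChev Cfsg.Agent.Nodes.Coroot
open Cfsg.Agent.KFacts.RgdField Cfsg.Agent.KFacts.RgdChevCoord
open Cfsg.Agent.H469.Exc Cfsg.Agent.H469.Exc.SigFr Cfsg.Agent.H129.TorusChar Cfsg.Agent.DS.Ex
open Cfsg.Agent.H81.TorOrth Cfsg.Agent.H605.MX Cfsg.Agent.DS.Nt Cfsg.Agent.DS.Nt.JL
open Cfsg.Agent.Nodes.RGDFoldSL Cfsg.Agent.TitsThree.KExcRT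
open Matrix.SpecialLinearGroup (transvection)
open Module (finrank)
open Module.End (eigenspace)
open scoped commutatorElement

namespace Fj

section Lin

variable {K L G : Type*} [Field K] [AddCommGroup L] [Module K L] [FiniteDimensional K L]

theorem fr_comap (W Y : Submodule K L) : finrank K (Y.comap W.subtype) = finrank K ↥(W ⊓ Y) := by
  rw [← Submodule.map_comap_subtype, Submodule.finrank_map_subtype_eq]

theorem le_ker {N : Type*} [AddCommGroup N] [Module K N] [FiniteDimensional K N] (f : L →ₗ[K] N) (W : Submodule K L) :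
    finrank K W ≤ finrank K ↥(W ⊓ LinearMap.ker f) + finrank K N := by
  have h1 := LinearMap.finrank_range_add_finrank_ker (f.domRestrict W)
  rw [LinearMap.ker_domRestrict, fr_comap] at h1
  have h2 := Submodule.finrank_le (LinearMap.range (f.domRestrict W))
  omega

variable [IsAlgClosed K] [Group G] (ρ : G →* Module.End K L) {E : Subgroup G} {r : ℕ} (hr : r.Prime) (hK : (r : K) ≠ 0)
  (hc : ∀ x ∈ E, ∀ y ∈ E, x * y = y * x) (hx : ∀ x ∈ E, x ^ r = 1)

include hr hK hc hx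

theorem dim_W [Fintype E] {W : Submodule K L} (hW : ∀ e ∈ E, ∀ v ∈ W, ρ e v ∈ W) {X : Submodule K L}
    (hX : ∀ v, v ∈ X ↔ ∀ e ∈ E, ρ e v = v) : (r : ℤ) * ∑ e : E, (finrank K ↥(W ⊓ eigenspace (ρ e) 1) : ℤ) =
      Fintype.card E * (finrank K W + (r - 1) * (finrank K ↥(W ⊓ X) : ℤ)) := by
  let ρ' : E →* Module.End K W :=
    { toFun := fun e => (ρ e).restrict (hW e e.2)
      map_one' := LinearMap.ext fun v => Subtype.ext (by
        show ρ ((1 : E) : G) v = v
        rw [Subgroup.coe_one, map_one, Module.End.one_apply])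
      map_mul' := fun a b => LinearMap.ext fun v => Subtype.ext (by
        show ρ ((a * b : E) : G) v = ρ a (ρ b v)
        rw [Subgroup.coe_mul, map_mul, Module.End.mul_apply]) }
  have h := DS.NT.dim_one' ρ' hr hK (fun x y => Subtype.ext (hc x x.2 y y.2)) (fun x => Subtype.ext (hx x x.2))
    (X.comap W.subtype) fun v => (hX v).trans
      ⟨fun h e => Subtype.ext (h e e.2), fun h e he => congrArg Subtype.val (h ⟨e, he⟩)⟩
  rw [fr_comap] at h
  rw [← h]
  congr 1
  refine Finset.sum_congr rfl fun e _ => ?_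
  rw [← fr_comap, DS.NT.ev]
  refine congrArg (fun Y : Submodule K W => (finrank K Y : ℤ)) (Submodule.ext fun v => ?_)
  rw [Submodule.mem_comap, Module.End.mem_eigenspace_iff, Module.End.mem_eigenspace_iff, Subtype.ext_iff]
  rfl

theorem fix_le [Finite E] {C : Subgroup G} (hi : C.relIndex E = r ^ 2) {F V : Submodule K L} (hFV : F ≤ V)
    (hF : ∀ e ∈ E, ∀ v ∈ F, ρ e v ∈ F) (hV : ∀ e ∈ E, ∀ v ∈ V, ρ e v ∈ V) (hu : finrank K F + (r * r - r) ≤ finrank K V)
    (he : ∀ e ∈ E, e ∉ C → finrank K ↥(V ⊓ eigenspace (ρ e) 1) ≤ finrank K ↥(F ⊓ eigenspace (ρ e) 1) + (r - 1))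
    {X : Submodule K L} (hX : ∀ v, v ∈ X ↔ ∀ e ∈ E, ρ e v = v) : V ⊓ X ≤ F := by
  classical
  have := Fintype.ofFinite E
  have h1 := dim_W ρ hr hK hc hx hF hX
  have h2 := dim_W ρ hr hK hc hx hV hX
  have h3 : ∑ e : E, (finrank K ↥(V ⊓ eigenspace (ρ e) 1) : ℤ) ≤ ∑ e : E, ((finrank K ↥(F ⊓ eigenspace (ρ e) 1) : ℤ) +
      if (e : G) ∈ C then (finrank K V : ℤ) - finrank K F else r - 1) := Finset.sum_le_sum fun e _ => by
    split_ifs with h
    · have h4 := Submodule.finrank_sup_add_finrank_inf_eq (V ⊓ eigenspace (ρ e) 1) F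
      have h5 := Submodule.finrank_mono (sup_le inf_le_left hFV : V ⊓ eigenspace (ρ e) 1 ⊔ F ≤ V)
      have h6 := Submodule.finrank_mono (le_inf inf_le_right (inf_le_left.trans inf_le_right) :
        V ⊓ eigenspace (ρ e) 1 ⊓ F ≤ F ⊓ eigenspace (ρ e) 1)
      omega
    · have h4 := he e e.2 h
      have := hr.pos
      omega
  rw [Finset.sum_add_distrib, Finset.sum_ite, Finset.sum_const, Finset.sum_const, nsmul_eq_mul, nsmul_eq_mul] at h3
  have h4 := Finset.card_filter_add_card_filter_not (s := (Finset.univ : Finset E)) fun e => (e : G) ∈ C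
  have h5 := (C.subgroupOf E).card_mul_index
  have h6 : Nat.card (C.subgroupOf E) = (Finset.univ.filter fun e : E => (e : G) ∈ C).card := by
    rw [← Fintype.card_subtype, ← Nat.card_eq_fintype_card]
    rfl
  have h7 : 0 < Nat.card (C.subgroupOf E) := Nat.card_pos
  rw [show (C.subgroupOf E).index = r ^ 2 from hi, Nat.card_eq_fintype_card (α := E), h6] at h5
  rw [Finset.card_univ] at h4
  rw [h6] at h7
  generalize (Finset.univ.filter fun e : E => (e : G) ∈ C).card = c at *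
  generalize (Finset.univ.filter fun e : E => ¬ (e : G) ∈ C).card = c' at *
  refine (Submodule.eq_of_le_of_finrank_le (inf_le_inf_right X hFV) (not_lt.1 fun h8 => ?_)).ge.trans inf_le_left
  obtain ⟨m, rfl⟩ := Nat.exists_eq_add_of_le hr.two_le
  have h9 : (finrank K F : ℤ) + (2 + m) * (1 + m) ≤ finrank K V := by
    rw [show (2 + m) * (2 + m) - (2 + m) = (2 + m) * (1 + m) from Nat.sub_eq_of_eq_add (by ring)] at hu
    exact_mod_cast hu
  have h10 : (finrank K ↥(F ⊓ X) : ℤ) + 1 ≤ finrank K ↥(V ⊓ X) := by exact_mod_cast h8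
  have h11 : (c' : ℤ) = c * ((2 + m) ^ 2 - 1) := by
    have h12 : (c : ℤ) + c' = c * (2 + m) ^ 2 := by exact_mod_cast h4.trans h5.symm
    linear_combination h12
  rw [← h5] at h1 h2
  push_cast at h1 h2 h3
  have h12 : (0 : ℤ) < c * (2 + m) * (1 + m) := by positivity
  have h13 := mul_le_mul_of_nonneg_left h3 (by positivity : (0 : ℤ) ≤ 2 + m)
  have h14 := mul_le_mul_of_nonneg_left h9 h12.le
  have h15 := mul_le_mul_of_nonneg_left h10 (by positivity : (0 : ℤ) ≤ c * (2 + m) * (1 + m) * (2 + m))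
  rw [h11] at h13
  nlinarith

end Lin

/-- a diagonal member of a Heisenberg pair is regular -/
theorem reg {k : Type*} [Field k] {r : ℕ} (hr : r.Prime) {j w : Matrix.SpecialLinearGroup (Fin r) k}
    (hc : ⁅j, w⁆ ∈ Subgroup.center _) (h1 : ⁅j, w⁆ ≠ 1) {κ : Fin r → Fin r → k}
    (h : ∀ a b (hab : a ≠ b), j * transvection hab 1 * j⁻¹ = transvection hab (κ a b)) {a b : Fin r} (hab : a ≠ b) :
    κ a b ≠ 1 := by
  have : Nontrivial (Fin r) := ⟨a, b, hab⟩
  have h2 : ∀ a b, a ≠ b → (j : Matrix (Fin r) (Fin r) k) * Matrix.single a b (1 : k) =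
      Matrix.single a b (κ a b) * (j : Matrix (Fin r) (Fin r) k) := fun a b hab => by
      have h3 : (j : Matrix (Fin r) (Fin r) k) * (1 + Matrix.single a b (1 : k)) =
          (1 + Matrix.single a b (κ a b)) * (j : Matrix (Fin r) (Fin r) k) :=
        congrArg (fun u : Matrix.SpecialLinearGroup (Fin r) k => (u : Matrix (Fin r) (Fin r) k))
          (mul_inv_eq_iff_eq_mul.1 (h a b hab))
      rwa [mul_add, add_mul, mul_one, one_mul, add_right_inj] at h3
  have h3 : ∀ x a, x ≠ a → j x a = 0 := fun x a hx => by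
    obtain ⟨b, hb⟩ := exists_ne a
    have h4 := congrFun (congrFun (h2 a b hb.symm) x) b
    rwa [Matrix.mul_single_apply_same, Matrix.single_mul_apply_of_ne _ _ _ _ _ hx, mul_one] at h4
  have h4 : (j : Matrix (Fin r) (Fin r) k) = Matrix.diagonal fun a => j a a := by
    ext x y
    rw [Matrix.diagonal_apply]
    split_ifs with e
    · rw [e]
    · exact h3 x y e
  have h5 : ∀ (u : Matrix.SpecialLinearGroup (Fin r) k) a, ∃ b, u b a ≠ 0 := fun u a => by
    by_contra h6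
    push Not at h6
    exact mulVec_ne_zero u (v := Pi.single a 1) (by simp) (funext fun b => by simpa using h6 b)
  obtain ⟨ω, hω, e⟩ := scalar_of_mem_center hc
  have hprim := prim_of hr hω (by
    rintro rfl
    exact h1 (Subtype.ext (by rw [e, one_smul]; rfl)))
  have h6 : (j : Matrix (Fin r) (Fin r) k) * w = ω • ((w : Matrix (Fin r) (Fin r) k) * j) := by
    have h7 := congrArg Subtype.val (show j * w = ⁅j, w⁆ * (w * j) by rw [commutatorElement_def]; group)
    rwa [Matrix.SpecialLinearGroup.coe_mul, Matrix.SpecialLinearGroup.coe_mul, Matrix.SpecialLinearGroup.coe_mul, e,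
      Matrix.smul_mul, Matrix.one_mul] at h7
  choose f hf using h5 w
  have h7 : ∀ a, j (f a) (f a) = ω * j a a := fun a => by
    have h8 := congrFun (congrFun h6 (f a)) a
    rw [h4, Matrix.diagonal_mul, Matrix.smul_apply, Matrix.mul_diagonal, smul_eq_mul, mul_comm (w _ _), ← mul_assoc] at h8
    exact mul_right_cancel₀ (hf a) h8
  have h8 : ∀ n, j (f^[n] a) (f^[n] a) = ω ^ n * j a a := fun n => by
    induction n with
    | zero => rw [pow_zero, one_mul]; rfl
    | succ n ih => rw [Function.iterate_succ_apply', h7, ih, pow_succ', mul_assoc]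
  have h9 : j a a ≠ 0 := by
    obtain ⟨x, hx⟩ := h5 j a
    rwa [of_not_not fun e => hx (h3 x a e)] at hx
  have h10 : ∀ m n : Fin r, j (f^[m] a) (f^[m] a) = j (f^[n] a) (f^[n] a) → m = n := fun m n e => by
    rw [h8, h8] at e
    exact Fin.ext (hprim.pow_inj m.2 n.2 (mul_right_cancel₀ h9 e))
  have h11 := Finite.surjective_of_injective (f := fun m : Fin r => f^[m] a) fun m n e => h10 m n (by rw [show f^[m] a = f^[n] a from e])
  intro h12
  have h13 := congrFun (congrFun (h2 a b hab) a) b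
  rw [Matrix.mul_single_apply_same, Matrix.single_mul_apply_same, h12, mul_one, one_mul] at h13
  obtain ⟨m, hm⟩ := h11 a
  obtain ⟨n, hn⟩ := h11 b
  have h14 := h10 m n (by rw [show f^[m] a = a from hm, show f^[n] a = b from hn]; exact h13)
  exact hab (hm.symm.trans (h14 ▸ hn))

/-- the additional tables -/
def TabE (D : ChevalleyDatum) (r i : ℕ) (ρ : Fin r → Fin r → ℕ) : Prop :=
  (∀ q < D.nroots, (r : ℤ) ∣ rt D q i → InS ρ q ∨ ∀ a b, a ≠ b → ∀ e ∈ (D.chain.getD (ρ a b) #[]).toList, e.1 ≠ q) ∧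
  (Finset.univ.filter fun s : Fin D.nroots => InS ρ s).card = r * r - r ∧
  ∃ o : Fin r, ∀ a b, a ≠ b → ∀ j < D.rank,
    rt D (ρ a b) j = (if b = o then 0 else rt D (ρ o b) j) - if a = o then 0 else rt D (ρ o a) j

instance instDecTabE (D : ChevalleyDatum) (r i : ℕ) (ρ : Fin r → Fin r → ℕ) : Decidable (TabE D r i ρ) := by
  unfold TabE; infer_instance

variable {D : ChevalleyDatum} {l : ℕ} {M : CoxeterMatrix (Fin l)} {hp : IsType D l M} {p : ℕ} [Fact p.Prime]

theorem fx_ins (A : Set (YY D p)) (e : YY D p) : Fx p A ⊓ eigenspace (ad D p e) 1 = Fx p (insert e A) := by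
  ext v
  rw [Submodule.mem_inf, Module.End.mem_eigenspace_iff, one_smul, mem_Fx, mem_Fx, Set.forall_mem_insert, and_comm]

theorem fx_inv {A : Set (YY D p)} {e : YY D p} (h : ∀ y ∈ A, e⁻¹ * y * e ∈ A) {v : D.Idx → KK p} (hv : v ∈ Fx p A) :
    ad D p e v ∈ Fx p A := fun y hy => by
  rw [← ad_mul, show y * e = e * (e⁻¹ * y * e) by group, ad_mul, hv _ (h y hy)]

theorem coord_zero {t : YY D p} (ht : t ∈ TT D (KK p)) {v : D.Idx → KK p} (hv : ad D p t v = v) {s : Fin D.nroots}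
    (h : cX hp t (vec D l s) ≠ 1) : v (Sum.inr s) = 0 := by
  have h1 := congrFun hv (Sum.inr s)
  rw [K.ad_eq, K.mx_T hp ht, Matrix.mulVec_diagonal] at h1
  exact of_not_not fun e => h ((mul_eq_right₀ e).1 h1)

variable {r : ℕ} {i : Fin l} {ρ : Fin r → Fin r → ℕ} {cf : List (ℕ × ℤ)}
  {ψ : Matrix.SpecialLinearGroup (Fin r) (KK p) →* YY D p} (J : JD hp p r i ρ cf ψ) (T : TabE D r i ρ)
  {ζ : KK p} (hζ : IsPrimitiveRoot ζ r) {t : YY D p} (ht : Std hp p ζ i t)

include J T hζ ht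

theorem dimA : finrank (KK p) (Fx p (ψ.range : Set (YY D p))) + (r * r - r) ≤ finrank (KK p) (Fx p {t}) := by
  classical
  have := finW hp
  let q : D.Idx → Prop := fun j => cX hp t (K.wL D l j) = 1
  let S : D.Idx → Prop := Sum.elim (fun _ => False) fun s => InS ρ s
  have h0 : ∀ v : D.Idx → KK p, ad D p t v = v ↔ ∀ j, ¬ q j → v j = 0 := fun v => by
    rw [K.ad_eq, K.mx_T hp ht.1, funext_iff]
    refine forall_congr' fun j => ?_
    rw [Matrix.mulVec_diagonal]
    exact ⟨fun h h1 => of_not_not fun e => h1 ((mul_eq_right₀ e).1 h), fun h => by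
      by_cases e : q j
      · rw [show cX hp t (K.wL D l j) = 1 from e, one_mul]
      · rw [h e, mul_zero]⟩
  have h1 := finrank_of_coord q (Fx p {t}) fun v => by rw [mem_Fx, ← h0]; simp only [Set.mem_singleton_iff, forall_eq]
  have h2 := finrank_of_coord (p := p) (fun j => q j ∧ ¬ S j) (Submodule.pi {j | ¬ (q j ∧ ¬ S j)} fun _ => ⊥) fun v => Iff.rfl
  have h3 : Fx p (ψ.range : Set (YY D p)) ≤ Submodule.pi {j | ¬ (q j ∧ ¬ S j)} fun _ => ⊥ := fun v hv j hj => by
    by_cases e : q j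
    · rcases j with j | s
      · exact (hj ⟨e, id⟩).elim
      obtain ⟨a, b, hab, e'⟩ : InS ρ s := of_not_not fun e' => hj ⟨e, e'⟩
      obtain ⟨c, hc, hc'⟩ := exists_sq_ne (k := KK p)
      refine coord_zero (hp := hp) (ps_hS_mem hp (J.tab.lt hab) hc) (hv _ (J.ps_mem hab _)) ?_
      rw [cX_hS hp M.toCoxeterSystem (locFin p) p (J.tab.lt hab) hc, e', cpr_self _ _ (isRoot_vec hp _ (J.tab.lt hab))]
      exact_mod_cast hc'
    · exact (h0 v).1 (hv t (J.std_mem hζ ht)) j e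
  have h4 := Finset.card_filter_add_card_filter_not (s := Finset.univ.filter q) S
  have h5 : (Finset.univ.filter q).filter S = Finset.univ.filter S := by
    rw [Finset.filter_filter]
    refine Finset.filter_congr fun j _ => ⟨fun h => h.2, fun h => ⟨?_, h⟩⟩
    rcases j with j | s
    · exact h.elim
    obtain ⟨a, b, hab, e⟩ : InS ρ s := h
    show cX hp t (vec D l s) = 1
    rw [ht.2, hζ.zpow_eq_one_iff_dvd]
    exact J.tab.dvd ⟨a, b, hab, by rw [e]⟩
  have h6 : (Finset.univ.filter S).card = r * r - r := by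
    rw [card_sum_filter, ← T.2.1, show (Finset.univ.filter fun a => S (Sum.inl a)) = ∅ from Finset.filter_false _,
      Finset.card_empty, zero_add]
    congr
  have h7 := Submodule.finrank_mono h3
  rw [h5, h6, Finset.filter_filter, ← h1, ← h2] at h4
  omega

theorem dimB {e : YY D p} (he : e ∈ TT D (KK p)) (hn : ∀ a b, a ≠ b → cX hp e (vec D l (ρ a b)) ≠ 1) :
    finrank (KK p) (Fx p {e, t}) ≤ finrank (KK p) (Fx p (insert e (ψ.range : Set (YY D p)))) + (r - 1) := by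
  classical
  obtain ⟨T1, -, o, T3⟩ := T
  let f : (D.Idx → KK p) →ₗ[KK p] ({b // b ≠ o} → KK p) :=
    { toFun := fun v b => K.rl hp v (vec D l (ρ o b))
      map_add' := fun v w => funext fun b => K.rl_add hp v w _
      map_smul' := fun c v => funext fun b => K.rl_smul hp c v _ }
  have h1 := le_ker f (Fx p {e, t})
  rw [Module.finrank_fintype_fun_eq_card, Fintype.card_subtype_compl, Fintype.card_fin, Fintype.card_unique] at h1
  refine h1.trans (Nat.add_le_add_right (Submodule.finrank_mono ?_) _)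
  rintro v ⟨hv, hf⟩
  have h2 : ψ.range ≤ (MulAction.stabilizer _ v).comap (ad D p).toHomUnits := J.range_le fun a b hab c => by
    show ad D p (ψ (transvection hab c)) v = v
    have h3 : ∀ x, (if x = o then 0 else K.rl hp v (vec D l (ρ o x))) = 0 := fun x => by
      split_ifs with e'
      · rfl
      · exact congrFun hf ⟨x, e'⟩
    have h4 : K.rl hp v (vec D l (ρ a b)) = 0 := by
      rw [show vec D l (ρ a b) = (if b = o then 0 else vec D l (ρ o b)) - if a = o then 0 else vec D l (ρ o a) from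
        funext fun j => (T3 a b hab j (lt_rank hp j)).trans (by split_ifs <;> rfl), map_sub, apply_ite (K.rl hp v),
        apply_ite (K.rl hp v), map_zero, h3, h3, sub_zero]
    have h5 := K.ad_xc_T hp ⟨_, J.tab.lt hab⟩ c (h := Sum.elim (fun j => v (Sum.inl j)) fun _ => 0) fun _ => rfl
    rw [show K.rl hp (Sum.elim (fun j => v (Sum.inl j)) fun _ => 0) (vec D l (ρ a b)) = 0 from h4, zero_mul, Pi.single_zero,
      sub_zero, ← xs_eq_xc hp (J.tab.lt hab)] at h5
    rw [J.tv]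
    have h6 : K.mx (xs hp.inList (ρ a b) c : YY D p) = D.xMat (KK p) ⟨_, J.tab.lt hab⟩ c := dif_pos (J.tab.lt hab)
    rw [K.ad_eq, h6] at h5 ⊢
    funext x
    have h7 := congrFun h5 x
    have h8 : ∀ s : Fin D.nroots, D.xMat (KK p) ⟨_, J.tab.lt hab⟩ c x (Sum.inr s) * v (Sum.inr s) =
        if x = Sum.inr s then v (Sum.inr s) else 0 := fun s => by
      by_cases e' : v (Sum.inr s) = 0
      · rw [e', mul_zero, ite_self]
      have a1 : ¬ InS ρ s := fun ⟨a', b', h', e''⟩ =>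
        e' (coord_zero (hp := hp) he (hv e (Or.inl rfl)) (by rw [e'']; exact hn a' b' h'))
      have a2 : (r : ℤ) ∣ rt D s i := (hζ.zpow_eq_one_iff_dvd _).1 ((ht.2 _).symm.trans
        (of_not_not fun e'' => e' (coord_zero (hp := hp) ht.1 (hv t (Or.inr rfl)) e'')))
      have a3 : s ≠ ⟨_, J.tab.lt hab⟩ := fun e'' => a1 ⟨a, b, hab, congrArg Fin.val e''⟩
      have a4 : s.val ≠ D.negIdx.getD (ρ a b) 0 := fun e'' => a1 ⟨b, a, hab.symm, e''.trans (J.tab.neg hab).symm⟩
      rcases x with j | u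
      · rw [Columns.xMat_inl_inr, if_neg a3, if_neg a4, zero_mul, if_neg Sum.inl_ne_inr]
      · have a5 : D.chainCoeff (ρ a b) s u = [] := by
          rw [chainCoeff, List.filter_eq_nil_iff.2 fun y hy => by
            simpa using (T1 s s.2 a2).resolve_left a1 a b hab y hy, List.flatMap_nil]
        rw [Columns.xMat_inr_inr, if_neg a3, if_neg a4, a5, List.map_nil, List.sum_nil, add_zero, ite_mul, one_mul, zero_mul]
        simp only [Sum.inr.injEq]
    simp only [Matrix.mulVec, dotProduct, Fintype.sum_sum_type, Sum.elim_inl, Sum.elim_inr, mul_zero, Finset.sum_const_zero,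
      add_zero] at h7
    simp only [Matrix.mulVec, dotProduct, Fintype.sum_sum_type, h7, h8]
    rcases x with j | u <;> simp
  rintro y (rfl | hy)
  exacts [hv _ (Or.inl rfl), h2 hy]

omit hζ ht in
theorem fj : FJ hp p r i (JJ hp p i ψ) := by
  intro s hs E hE hL z hz hzO hn
  have := hE.fin
  have hK : (r : KK p) ≠ 0 := by
    rw [Ne, CharP.cast_eq_zero_iff (KK p) p, Nat.prime_dvd_prime_iff_eq Fact.out J.prime]
    exact J.ne.symm
  obtain ⟨ν, hν⟩ := exists_prim (p := p) hs.1 hs.2.2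
  have h2 : r.Coprime s := (Nat.coprime_primes J.prime hs.1).2 (by have := J.le; have := hs.2.1; omega)
  have hA : ∀ {g : YY D p} {ζ : KK p}, IsPrimitiveRoot ζ r → Std hp p ζ i (g * z * g⁻¹) → ∀ y,
      g * y * g⁻¹ ∈ (ψ.range : Set (YY D p)) ↔ y ∈ (JJ hp p i ψ z : Set (YY D p)) := fun h1 h2 _ => (J.mem_JJ h1 h2).symm
  have hB : ∀ g x y : YY D p, g * y * g⁻¹ = g * x * g⁻¹ ↔ y = x := fun g x y => by rw [mul_left_inj, mul_right_inj]
  have key := fix_le (ad D p) J.prime hK hE.comm hE.pow (C := Subgroup.centralizer (JJ hp p i ψ z : Set (YY D p)))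
    (F := Fx p (JJ hp p i ψ z : Set (YY D p))) (V := Fx p {z}) (X := Fx p (E : Set (YY D p))) ?_ ?_ ?_ ?_ ?_ ?_
    fun _ => Iff.rfl
  · exact fun j hj v hv => key ⟨fun y hy => hv y (by rw [hy]; exact hz), hv⟩ j hj
  · obtain ⟨g, ζ, hζ, h⟩ := hzO
    rw [J.JJ_eq hζ h] at hn ⊢
    exact ((J.sd_conj hζ h).dich J.prime hK hs.1.one_lt h2 hν.pow_eq_one (hν.ne_one hs.1.one_lt) hE.comm hE.pow hL hz hn).2.2
  · exact fun v hv y hy => hv y (by rw [hy]; exact fun _ _ h1 h2 => J.std_mem h1 h2)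
  · refine fun e he v => fx_inv (A := (JJ hp p i ψ z : Set (YY D p))) (e := e) ?_
    intro y hy g ζ h1 h3
    rw [show g * (e⁻¹ * y * e) * g⁻¹ = g * e⁻¹ * y * (g * e⁻¹)⁻¹ by group]
    refine hy _ ζ h1 ?_
    rwa [show g * e⁻¹ * z * (g * e⁻¹)⁻¹ = g * (e⁻¹ * (z * e)) * g⁻¹ by group, hE.comm z hz e he, inv_mul_cancel_left]
  · exact fun e he v => fx_inv fun y hy => by
      rw [hy, mul_assoc, hE.comm z hz e he, inv_mul_cancel_left]
      rfl
  · obtain ⟨g, ζ, hζ, h⟩ := hzO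
    rw [← finrank_Fx_conj g (hA hζ h), ← finrank_Fx_conj g (Z := {z}) (Z' := {g * z * g⁻¹}) (hB g z)]
    exact dimA J T hζ h
  · intro e he hC
    obtain ⟨g, ζ, hζ, h, hg⟩ := exists_std_pair hzO (hE.tp z hz e he)
    rw [fx_ins, fx_ins, ← finrank_Fx_conj g (Z := insert e (JJ hp p i ψ z : Set (YY D p)))
      (Z' := insert (g * e * g⁻¹) (ψ.range : Set (YY D p))) fun y => or_congr (hB g e y) (hA hζ h y),
      ← finrank_Fx_conj g (Z := {e, z}) (Z' := {g * e * g⁻¹, g * z * g⁻¹}) fun y => or_congr (hB g e y) (hB g z y)]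
    have S := J.sd_conj hζ h
    rw [J.JJ_eq hζ h] at hn hC
    obtain ⟨x₀, hx₀, y₀, hy₀, x, y, hx, hy, hxy⟩ :=
      S.exists_pair J.prime hK hs.1.one_lt h2 hν.pow_eq_one (hν.ne_one hs.1.one_lt) hE.comm hE.pow hL hz hn
    obtain ⟨j, hj⟩ := S.fac e (hE.comm e he z hz)
    obtain ⟨w, a1, a2⟩ : ∃ w : Matrix.SpecialLinearGroup (Fin r) (KK p), ⁅j, w⁆ ∈ Subgroup.center _ ∧ ⁅j, w⁆ ≠ 1 := by
      by_contra a1
      push Not at a1
      exact hC ((hj.cen_iff S.inj).2 (heis J.prime (hx.cmt_cen S.inj hy (hE.comm _ hx₀ _ hy₀)) hxy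
        (commutatorElement_eq_one_iff_mul_comm.1 (a1 x (hj.cmt_cen S.inj hx (hE.comm _ he _ hx₀))))
        (commutatorElement_eq_one_iff_mul_comm.1 (a1 y (hj.cmt_cen S.inj hy (hE.comm _ he _ hy₀))))))
    refine dimB J T hζ h hg fun a b => reg J.prime a1 a2 (κ := fun a b => cX hp (g * e * g⁻¹) (vec D l (ρ a b)))
      fun a b hab => S.inj ((hj _).symm.trans ?_)
    show e * (g⁻¹ * ψ _ * g⁻¹⁻¹) * e⁻¹ = g⁻¹ * ψ _ * g⁻¹⁻¹
    rw [J.tv, J.tv, xs_eq_xc hp (J.tab.lt hab), xs_eq_xc hp (J.tab.lt hab), ← mul_one (cX hp _ _),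
      ← K.T_conj_xc hp hg (isRoot_vec hp _ (J.tab.lt hab))]
    group

omit J T hζ ht

theorem jd_two (hp : IsType D l M) (h2p : p ≠ 2) {i : Fin l} {cf : List (ℕ × ℤ)} (T : Tab D 2 i (rho2 D) cf)
    (T' : TabE D 2 i (rho2 D)) (h : ∀ j < D.rank, 0 ≤ rt D (D.nroots - 1) j) (h8 : D = chevE8 → Q8 hp p i) :
    ∃ J, JS hp p 2 i J ∧ FJ hp p 2 i J := by
  have h01 : (0 : Fin 2) ≠ 1 := by decide
  have hs : D.nroots - 1 < D.nroots := T.lt h01
  have h6 : ∀ a b : Fin 2, a ≠ b → (a = 0 ∧ b = 1) ∨ (a = 1 ∧ b = 0) := by decide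
  have m1 : vec D l (D.nroots - 1) ∈ SR D l (rho2 D) := ⟨0, 1, h01, rfl⟩
  have hall : ∀ x ∈ SR D l (rho2 D), x = vec D l (D.nroots - 1) ∨ x = -vec D l (D.nroots - 1) := by
    rintro _ ⟨a, b, hab, rfl⟩
    rcases h6 a b hab with ⟨rfl, rfl⟩ | ⟨rfl, rfl⟩
    · exact Or.inl rfl
    · exact Or.inr (by rw [T.neg h01]; exact vec_neg hp hs)
  have h0 : 0 ≤ vec D l (D.nroots - 1) := fun j => h j (lt_rank hp j)
  have J : JD hp p 2 i (rho2 D) cf (ps hp hs) := by
    refine ⟨Nat.prime_two, h2p.symm, by norm_num, T, fun a b hab c => ?_, 0, 1, h01, 1, by norm_num, fun g hg hpos => ?_⟩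
    · rcases h6 a b hab with ⟨rfl, rfl⟩ | ⟨rfl, rfl⟩
      · rw [tv_up, ps_up]
        rfl
      · rw [tv_lo, ps_lo, T.neg h01]
        rfl
    · have h1 : g (vec D l (D.nroots - 1)) = vec D l (D.nroots - 1) := by
        refine (hall _ (hg _ m1)).resolve_right fun e => ?_
        have h2 := hpos _ m1 h0
        rw [e] at h2
        exact (T.root hp m1).not_pos_neg h0 (neg_nonneg.1 h2)
      refine ⟨h1, fun x hx => ?_⟩
      show g x = x
      rcases hall x hx with e | e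
      · rw [e, h1]
      · rw [e, map_neg, h1]
  refine ⟨_, J.js fun hD _ ζ t hζ ht x hx hx2 => ?_, fj J T'⟩
  have h1 : (∀ a ∈ SR D l (rho2 D), cX hp x a = 1) ↔ cX hp x (vec D l (D.nroots - 1)) = 1 := by
    refine ⟨fun h => h _ m1, fun h a ha => ?_⟩
    rcases hall a ha with e | e
    · rw [e, h]
    · rw [e, (isMC_cX hp hx).neg, h, inv_one]
  rw [h1]
  exact h8 hD ζ t hζ ht x hx hx2

theorem jd_three (hp : IsType D l M) (h3p : p ≠ 3) {i : Fin l} {ρ : Fin 3 → Fin 3 → ℕ} {cf : List (ℕ × ℤ)}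
    (T : Tab D 3 i ρ cf) (T' : TabE D 3 i ρ) (hb : RTb D ρ fun _ _ => 1) (hc : RTc D ρ)
    (h : ∀ j < D.rank, 0 ≤ rt D (ρ 0 1) j ∧ 0 ≤ rt D (ρ 1 2) j ∧ rt D (ρ 0 2) j = rt D (ρ 0 1) j + rt D (ρ 1 2) j)
    (h4 : ρ 0 1 ≠ ρ 1 2) : ∃ J, JS hp p 3 i J ∧ FJ hp p 3 i J := by
  obtain ⟨ψ, hψ⟩ := exists_psi3 hp (KK p) (fun _ _ hab => T.lt hab) hb hc fun _ _ hab => T.neg hab
  have J : JD hp p 3 i ρ cf ψ := ⟨Nat.prime_three, h3p.symm, by norm_num, T, hψ, 0, 2, by decide, 2, by norm_num,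
    pos_three hp T (fun j => (h j (lt_rank hp j)).1) (fun j => (h j (lt_rank hp j)).2.1)
      (funext fun j => (h j (lt_rank hp j)).2.2) h4⟩
  exact ⟨_, J.js fun _ h => absurd h (by norm_num), fj J T'⟩

end Fj

open Fj

/-- **[FJ2]** -/
theorem boxFJ2 : BoxFJ2 := by
  intro D l M hp p _ h2 i hD
  have hne : ∀ {D : ChevalleyDatum}, D.rank ≠ 8 → D ≠ chevE8 := by
    rintro D h rfl
    exact h (by decide +kernel)
  rcases hD with ⟨rfl, hi⟩ | ⟨rfl, hi⟩ | ⟨rfl, hi⟩ | ⟨rfl, hi⟩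
  · exact jd_two hp h2 (cf := [(47, 1)]) (by rw [hi]; exact tab_F4_2) (by rw [hi]; decide +kernel) (by decide +kernel)
      fun h => absurd h (hne (by decide +kernel))
  · exact jd_two hp h2 (cf := [(71, 1)]) (by rw [hi]; exact tab_E6_2) (by rw [hi]; decide +kernel) (by decide +kernel)
      fun h => absurd h (hne (by decide +kernel))
  · exact jd_two hp h2 (cf := [(125, 1)]) (by rw [hi]; exact tab_E7_2) (by rw [hi]; decide +kernel) (by decide +kernel)
      fun h => absurd h (hne (by decide +kernel))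
  · obtain rfl := (typ_l hp).2.2.2 rfl
    obtain rfl : i = 7 := Fin.ext hi
    exact jd_two hp h2 (cf := [(239, 1)]) tab_E8_2 (by decide +kernel) (by decide +kernel) fun _ => J2.q8_E8 hp p h2

/-- **[FJ3]** -/
theorem boxFJ3 : BoxFJ3 := by
  intro D l M hp p _ h3 i hD
  rcases hD with ⟨rfl, hi⟩ | ⟨rfl, hi⟩
  · exact jd_three hp h3 (ρ := rho3 chevE7 93 124) (cf := [(93, 1), (124, 2)]) (by rw [hi]; exact tab_E7_3)
      (by rw [hi]; decide +kernel) (by decide +kernel) (by decide +kernel) (by decide +kernel) (by decide +kernel)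
  · exact jd_three hp h3 (ρ := rho3 chevE8 120 238) (cf := [(120, 1), (238, 2)]) (by rw [hi]; exact tab_E8_3)
      (by rw [hi]; decide +kernel) (by decide +kernel) (by decide +kernel) (by decide +kernel) (by decide +kernel)

end Cfsg.Agent.N2.Ex.Loc
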