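import Cfsg.Agent.N2.Ex.Loc.Defs

/-!
# N2, exceptional groups, the local case: the boxes `BoxRk`, `BoxC7` (helper75)
-/

set_option autoImplicit false
set_option linter.unusedSectionVars false

namespace Cfsg.Agent.N2.Ex.Loc

open CoxeterSystem Cfsg Cfsg.Lie Cfsg.Lie.ChevalleyDatum
open Cfsg.Agent.ChevalleyStructure Cfsg.Agent.ChevalleyStructure.Elts Cfsg.Agent.ChevalleyStructure.CoxeterGeom
  Cfsg.Agent.ChevalleyStructure.CoxeterGeomTypes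
open Cfsg.Agent.Tits.Roots Cfsg.Agent.Tits.Core Cfsg.Agent.Nodes Cfsg.Agent.Nodes.RGDChev
open Cfsg.Agent.KFacts.RgdField Cfsg.Agent.KFacts.RgdChevCoord Cfsg.Agent.BpExc.Fr Cfsg.Agent.BpExc.LangFr
open Cfsg.Agent.H469.Exc Cfsg.Agent.H129.TorusChar Cfsg.Agent.H129.WData Cfsg.Agent.DS.Ex
open Cfsg.Agent.H931.KC Cfsg.Agent.DS.Nt Cfsg.Agent.DS.Ex.Tor Cfsg.Agent.TH.Ab.ZC
open Cfsg.Agent.H92.NE (bl bl_sr)
open Cfsg.Agent.SB.Exc (XF)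

namespace Rk

variable {D : ChevalleyDatum} {l : ℕ} {M : CoxeterMatrix (Fin l)} {hp : IsType D l M} {p : ℕ} [Fact p.Prime]
  {r n : ℕ} {Bm : Mat l} {v : Fin l → ℤ} {q : ℕ} {G : Type} [Group G] [Finite G] {T : Subgroup G}

theorem exists_b (hD : Typ D) (K : KD D l r n Bm v) (hrp : r ≠ p) (F : XF hp p q T)
    (hDr : D = chevE6 ∧ r = 3 ∨ D = chevE7 ∧ r = 2) {ε : ℤˣ} {u : M.Group} (hg : ∀ a, F.m.g a = (ε : ℤ) • wa hp u a)
    (hq : (n : ℤ) ∣ ε * (p ^ F.m.e : ℕ) - 1) : ∃ (ζ : KK p) (h : (Fin l → ℤ) → YY D p) (z : YY D p) (b : (Fin l → ℤ) → T),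
      HT hp n Bm ζ h ∧ ∀ β, F.L.ι (b β) = z * h β * z⁻¹ := by
  have n67 : chevE6 ≠ chevE7 := fun e => absurd (congrArg ChevalleyDatum.rank e) (by decide)
  have hσ := F.m.frob
  have hF := F.m.fr
  rw [← F.hσ] at hσ hF
  have hpow : ∀ y, F.L.σ y = y → y ^ r ∈ F.L.ι.range := fun y hy => by
    have h1 := F.L.pow_dd y hy
    rcases F.L.hdd with h2 | ⟨h2, h3⟩ | ⟨h2, h3⟩
    · rw [h2, pow_one] at h1
      exact pow_mem h1 r
    · rcases hDr with ⟨-, rfl⟩ | ⟨h4, -⟩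
      · rwa [h3] at h1
      · exact absurd (h2.symm.trans h4) n67
    · rcases hDr with ⟨h4, -⟩ | ⟨-, rfl⟩
      · exact absurd (h4.symm.trans h2) n67
      · rwa [h3] at h1
  obtain ⟨j, hj⟩ := K.n_pow
  have : NeZero (n : KK p) := ⟨by rw [hj, Nat.cast_pow]; exact pow_ne_zero _ (cast_ne_zero K.prime hrp)⟩
  obtain ⟨ζ, hζ⟩ := HasEnoughRootsOfUnity.exists_primitiveRoot (KK p) n
  obtain ⟨h, H⟩ := exists_HT (hp := hp) (Bm := Bm) hD hζ (by have := K.n_ge; omega)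
  obtain ⟨z, hz⟩ := exists_frame hD K H F.m.he hσ hF hg hq (J := F.L.ι.range) (by
    rintro y hy _ ⟨x, rfl⟩
    exact F.L.norm y hy x) hpow
  choose b hb using hz
  exact ⟨ζ, h, z, b, H, hb⟩

theorem hasEl (K : KD D l r n Bm v) {ζ : KK p} {h : (Fin l → ℤ) → YY D p} (H : HT hp n Bm ζ h) {ι : T →* YY D p}
    (hι : Function.Injective ι) {z : YY D p} {b : (Fin l → ℤ) → T} (hb : ∀ β, ι (b β) = z * h β * z⁻¹) {m N : ℕ}
    (hm : n = m * r) (u : Fin N → Fin l → ℤ) (hu : ∀ c c', (∀ i, (r : ℤ) ∣ bl Bm (u c - u c') (sr i)) → c = c') :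
    HasEl T r N := by
  have hb1 : ∀ β β', b (β + β') = b β * b β' := fun β β' => hι (by
    rw [map_mul, hb, hb, hb, H.add K]
    group)
  let φ : Multiplicative (Fin l → ℤ) →* T := MonoidHom.mk' (fun β => b β.toAdd ^ m) fun β β' => by
    rw [toAdd_mul, hb1, (show Commute _ _ from (hb1 _ _).symm.trans ((congrArg b (add_comm _ _)).trans (hb1 _ _))).mul_pow]
  have hφ : ∀ β, ι (φ β) = z * h β.toAdd ^ m * z⁻¹ := fun β => by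
    show ι (b β.toAdd ^ m) = _
    rw [map_pow, hb, conj_pow]
  refine ⟨φ.range, ?_, ?_, ?_⟩
  · rintro _ ⟨β, rfl⟩ _ ⟨β', rfl⟩
    rw [← map_mul, mul_comm, map_mul]
  · rintro _ ⟨β, rfl⟩
    exact hι (by rw [map_pow, hφ, conj_pow, ← pow_mul, ← hm, H.pow K, map_one, mul_one, mul_inv_cancel])
  · rw [← Nat.card_fin N]
    refine Nat.card_le_card_of_injective (fun c => ⟨φ (Multiplicative.ofAdd (u c)), _, rfl⟩) fun c c' e => hu c c' fun i => ?_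
    have h1 : φ (Multiplicative.ofAdd (u c - u c')) = 1 := by
      rw [ofAdd_sub, div_eq_mul_inv, map_mul, map_inv, mul_inv_eq_one]
      exact congrArg Subtype.val e
    have h2 := hφ (Multiplicative.ofAdd (u c - u c'))
    rw [h1, map_one, eq_comm, mul_inv_eq_one, mul_eq_left] at h2
    have h3 := H.dvd_of_pow K h2 (sr i)
    rw [hm, Nat.cast_mul] at h3
    refine Int.dvd_of_mul_dvd_mul_left (Nat.cast_ne_zero.2 fun e => ?_) h3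
    have := K.n_ge
    rw [hm, e] at this
    omega

theorem cnt6 : (Finset.univ.filter fun s : Fin chevE6.nroots => ((3 : ℕ) : ℤ) ∣ bl B6 (sr 0) (vec chevE6 6 s)).card = 30 := by
  decide +kernel

theorem tab7 : ∀ c : Fin 128, n7 c = 72 → (J2.bt c 1 + J2.bt c 4 + J2.bt c 6) % 2 ≠ 0 := by decide +kernel

theorem sq_eq_one_iff_of_isDomain' {k : Type*} [Field k] {a : k} (h : a ^ 2 = 1) : a = 1 ∨ a = -1 :=
  mul_self_eq_one_iff.1 (by rwa [← pow_two])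

theorem e7_tor {M : CoxeterMatrix (Fin 7)} (hp : IsType chevE7 7 M) (h2 : 2 ≠ p) {x : YY chevE7 p}
    (hx : x ∈ TT chevE7 (KK p)) (hx2 : x ^ 2 = 1) (hd : dd p x = 63 ∨ dd p x = 79) :
    cX hp x ![0, 1, 0, 0, 1, 0, 1] = -1 := by
  refine (sq_eq_one_iff_of_isDomain' (by rw [← cX_pow hp hx, hx2, cX_one])).resolve_left ?_
  refine hd.elim (DS.Nt.e7_tor hp h2 hx hx2).2 fun hd => ?_
  obtain ⟨ζ, hζ⟩ := exists_prim (p := p) Nat.prime_two h2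
  obtain ⟨b, hb, e⟩ := J2.exists_bits (hp := hp) hζ hx hx2
  obtain ⟨c, hc⟩ := exists_byte7 b hb
  have hb' : (fun i : Fin 7 => (b i : ℤ)) = fun i : Fin 7 => (J2.bt c i : ℤ) := funext fun i => by rw [hc]
  rw [hb'] at e
  have h0 : dd p x = 7 + n7 c := by
    rw [dd_tor_zpow hp hx hζ e]
    congr 1
    exact congrArg Finset.card (Finset.filter_congr fun s _ => J2.dvd_iff_of_modEq (psi_modEq7 c s))
  have h1 : cX hp x ![0, 1, 0, 0, 1, 0, 1] = 1 ↔ (J2.bt c 1 + J2.bt c 4 + J2.bt c 6) % 2 = 0 := by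
    rw [e, hζ.zpow_eq_one_iff_dvd, psi_apply, Fin.sum_univ_seven]
    refine J2.dvd_iff_of_modEq ?_
    show (0 : ℤ) * (J2.bt c 0 : ℤ) + 1 * (J2.bt c 1 : ℤ) + 0 * (J2.bt c 2 : ℤ) + 0 * (J2.bt c 3 : ℤ) + 1 * (J2.bt c 4 : ℤ) +
      0 * (J2.bt c 5 : ℤ) + 1 * (J2.bt c 6 : ℤ) ≡ _ [ZMOD 2]
    push_cast
    simp only [zero_mul, one_mul, zero_add, add_zero]
    rfl
  rw [h1]
  exact tab7 c (by omega)

end Rk

open Rk

/-- **[C7]** -/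
theorem boxC7 : BoxC7 := by
  intro p _ h2 x y ⟨g, h3, h4⟩ hx2 hy2 hx hy
  have e1 : (g * x * g⁻¹) ^ 2 = 1 := by rw [conj_pow, hx2, mul_one, mul_inv_cancel]
  have e2 : (g * y * g⁻¹) ^ 2 = 1 := by rw [conj_pow, hy2, mul_one, mul_inv_cancel]
  have e3 : g * (x * y) * g⁻¹ = (g * x * g⁻¹) * (g * y * g⁻¹) := by group
  rw [← not_or, ← dd_conj g, e3]
  intro h5
  have h6 := Rk.e7_tor hpE7 h2.symm (mul_mem h3 h4)
    (by rw [(show Commute _ _ from BpExc.TorChev.TT_comm hpE7 _ h3 _ h4).mul_pow, e1, e2, one_mul]) h5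
  rw [cX_mul hpE7 h3 h4, Rk.e7_tor hpE7 h2.symm h3 e1 ((dd_conj g x).symm ▸ hx), Rk.e7_tor hpE7 h2.symm h4 e2 ((dd_conj g y).symm ▸ hy),
    neg_mul_neg, one_mul, eq_neg_iff_add_eq_zero, one_add_one_eq_two] at h6
  exact cast_ne_zero Nat.prime_two h2.symm (by exact_mod_cast h6)

/-- **[Rk]** -/
theorem boxRk : BoxRk := by
  intro D l M hp p _ q G _ _ T F
  obtain ⟨ε, u, hg⟩ : ∃ (ε : ℤˣ) (u : M.Group), ∀ a, F.m.g a = (ε : ℤ) • wa hp u a := by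
    obtain ⟨w, h | ⟨-, h⟩⟩ := F.gW
    · exact ⟨1, w, fun a => by rw [h, Units.val_one, one_smul]⟩
    · exact ⟨-1, w, fun a => by rw [h, Units.val_neg, Units.val_one, neg_smul, one_smul]⟩
  refine ⟨?_, ?_⟩
  · rintro rfl h2
    obtain rfl := (typ_l hp).2.2.1 rfl
    have hD : Typ chevE7 := Or.inr (Or.inr (Or.inl rfl))
    obtain ⟨ε, u, hg, hq⟩ : ∃ (ε : ℤˣ) (u : M.Group), (∀ a, F.m.g a = (ε : ℤ) • wa hp u a) ∧
        ((4 : ℕ) : ℤ) ∣ ε * (p ^ F.m.e : ℕ) - 1 := by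
      by_cases hq : ((4 : ℕ) : ℤ) ∣ ε * (p ^ F.m.e : ℕ) - 1
      · exact ⟨ε, u, hg, hq⟩
      obtain ⟨w₀, hw₀⟩ := H900.Fra.neg_E7 hp
      refine ⟨-ε, w₀ * u, fun a => ?_, ?_⟩
      · rw [hg, rep_mul_apply, hw₀, Units.val_neg, neg_smul_neg]
      · have h1 : ¬ 2 ∣ p ^ F.m.e := fun h =>
          h2 ((Nat.prime_dvd_prime_iff_eq Nat.prime_two Fact.out).1 (Nat.prime_two.dvd_of_dvd_pow h)).symm
        generalize p ^ F.m.e = q at hq h1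
        rcases Int.units_eq_one_or ε with rfl | rfl
        · simp only [Units.val_neg, Units.val_one] at hq ⊢
          omega
        · simp only [Units.val_neg, Units.val_one] at hq ⊢
          omega
    obtain ⟨ζ, h, z, b, H, hb⟩ := exists_b hD kd7 h2.symm F (Or.inr ⟨rfl, rfl⟩) hg hq
    exact hasEl kd7 H F.L.inj hb (m := 2) rfl
      (fun c => ![((c : ℕ) % 2 : ℕ), 0, ((c : ℕ) / 2 % 2 : ℕ), ((c : ℕ) / 4 : ℕ), 0, 0, 0]) (by decide +kernel)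
  · rintro rfl h3 ⟨x, y, hx, hy, hc, hn⟩
    obtain rfl := (typ_l hp).2.1 rfl
    have hq : ((3 : ℕ) : ℤ) ∣ ε * (p ^ F.m.e : ℕ) - 1 := by
      by_contra hq
      have hσ := F.m.frob
      have hF := F.m.fr
      rw [← F.hσ] at hσ hF
      exact hn (tp_of_fix kd6 h3.symm hσ hF hg hq (F.L.fix y) (F.L.fix x) (by rw [← map_pow, hy, map_one])
        (by rw [← map_pow, hx, map_one]) (by rw [← map_mul, ← map_mul, hc]))
    obtain ⟨ζ, h, z, b, H, hb⟩ := exists_b (Or.inr (Or.inl rfl)) kd6 h3.symm F (Or.inl ⟨rfl, rfl⟩) hg hq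
    refine ⟨hasEl kd6 H F.L.inj hb (m := 1) rfl
      (fun c => ![((c : ℕ) % 3 : ℕ), 0, ((c : ℕ) / 3 % 3 : ℕ), ((c : ℕ) / 9 % 3 : ℕ), ((c : ℕ) / 27 : ℕ), 0]) fun c c' h => ?_,
      b (sr 0), F.L.inj (by rw [map_pow, hb, conj_pow, H.pow kd6, map_one, mul_one, mul_inv_cancel]), ?_⟩
    · have k : ∀ (y : Fin 6 → ℤ) i, bl B6 y (sr i) = B6 i 0 * y 0 + B6 i 1 * y 1 + B6 i 2 * y 2 + B6 i 3 * y 3 +
          B6 i 4 * y 4 + B6 i 5 * y 5 := fun y i => by rw [bl_sr, Fin.sum_univ_six]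
      obtain ⟨c, hc⟩ := c
      obtain ⟨c', hc'⟩ := c'
      have a0 := h 0
      have a1 := h 1
      have a2 := h 2
      have a5 := h 5
      rw [k] at a0 a1 a2 a5
      have b0 : (3 : ℤ) ∣ 2 * ((c % 3 : ℕ) - (c' % 3 : ℕ)) + 0 * (0 - 0) + -1 * ((c / 3 % 3 : ℕ) - (c' / 3 % 3 : ℕ)) +
        0 * ((c / 9 % 3 : ℕ) - (c' / 9 % 3 : ℕ)) + 0 * ((c / 27 : ℕ) - (c' / 27 : ℕ)) + 0 * (0 - 0) := a0
      have b1 : (3 : ℤ) ∣ 0 * ((c % 3 : ℕ) - (c' % 3 : ℕ)) + 2 * (0 - 0) + 0 * ((c / 3 % 3 : ℕ) - (c' / 3 % 3 : ℕ)) +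
        -1 * ((c / 9 % 3 : ℕ) - (c' / 9 % 3 : ℕ)) + 0 * ((c / 27 : ℕ) - (c' / 27 : ℕ)) + 0 * (0 - 0) := a1
      have b2 : (3 : ℤ) ∣ -1 * ((c % 3 : ℕ) - (c' % 3 : ℕ)) + 0 * (0 - 0) + 2 * ((c / 3 % 3 : ℕ) - (c' / 3 % 3 : ℕ)) +
        -1 * ((c / 9 % 3 : ℕ) - (c' / 9 % 3 : ℕ)) + 0 * ((c / 27 : ℕ) - (c' / 27 : ℕ)) + 0 * (0 - 0) := a2
      have b3 := h 3
      rw [k] at b3
      have b4 : (3 : ℤ) ∣ 0 * ((c % 3 : ℕ) - (c' % 3 : ℕ)) + -1 * (0 - 0) + -1 * ((c / 3 % 3 : ℕ) - (c' / 3 % 3 : ℕ)) +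
        2 * ((c / 9 % 3 : ℕ) - (c' / 9 % 3 : ℕ)) + -1 * ((c / 27 : ℕ) - (c' / 27 : ℕ)) + 0 * (0 - 0) := b3
      have b5 : (3 : ℤ) ∣ 0 * ((c % 3 : ℕ) - (c' % 3 : ℕ)) + 0 * (0 - 0) + 0 * ((c / 3 % 3 : ℕ) - (c' / 3 % 3 : ℕ)) +
        0 * ((c / 9 % 3 : ℕ) - (c' / 9 % 3 : ℕ)) + -1 * ((c / 27 : ℕ) - (c' / 27 : ℕ)) + 2 * (0 - 0) := a5
      refine Fin.ext (show c = c' from ?_)
      omega
    · rw [hb, dd_conj, dd_tor_zpow hp (H.mem _) H.prim (H.chr _), cnt6]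

end Cfsg.Agent.N2.Ex.Loc
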