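import Cfsg.Agent.N2.Ex.Loc.Defs

/-!
# N2, exceptional groups, the local case: the boxes `BoxE83`, `BoxD4T` (helper75)
-/

set_option autoImplicit false
set_option linter.unusedSectionVars false

namespace Cfsg.Agent.N2.Ex.Loc

open CoxeterSystem Cfsg Cfsg.Lie Cfsg.Lie.ChevalleyDatum
open Cfsg.Agent.ChevalleyStructure Cfsg.Agent.ChevalleyStructure.Elts Cfsg.Agent.ChevalleyStructure.CoxeterGeom
  Cfsg.Agent.ChevalleyStructure.CoxeterGeomTypes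
open Cfsg.Agent.Tits.Roots Cfsg.Agent.Tits.Core Cfsg.Agent.Nodes Cfsg.Agent.Nodes.RGDChev
open Cfsg.Agent.KFacts.RgdField Cfsg.Agent.KFacts.RgdChevCoord Cfsg.Agent.BpExc.Fr Cfsg.Agent.BpExc.LangFr
open Cfsg.Agent.H469.Exc Cfsg.Agent.H129.TorusChar Cfsg.Agent.H129.WData Cfsg.Agent.DS.Ex
open Cfsg.Agent.H931.KC Cfsg.Agent.DS.Nt Cfsg.Agent.DS.Ex.Tor Cfsg.Agent.TH.Ab.ZC
open Cfsg.Agent.H92.NE (bl bl_sr bl_comm bl_rep bl_add_left FormOK)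
open Cfsg.Agent.BpExc.TorChev (TT_comm)

namespace Tab

/-- the form of `E₈` -/
def B8 : Mat 8 := ![![2, 0, -1, 0, 0, 0, 0, 0], ![0, 2, 0, -1, 0, 0, 0, 0], ![-1, 0, 2, -1, 0, 0, 0, 0],
  ![0, -1, -1, 2, -1, 0, 0, 0], ![0, 0, 0, -1, 2, -1, 0, 0], ![0, 0, 0, 0, -1, 2, -1, 0], ![0, 0, 0, 0, 0, -1, 2, -1],
  ![0, 0, 0, 0, 0, 0, -1, 2]]

/-- the fundamental weights of `E₈` -/
def W8 : Mat 8 := ![![4, 5, 7, 10, 8, 6, 4, 2], ![5, 8, 10, 15, 12, 9, 6, 3], ![7, 10, 14, 20, 16, 12, 8, 4],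
  ![10, 15, 20, 30, 24, 18, 12, 6], ![8, 12, 16, 24, 20, 15, 10, 5], ![6, 9, 12, 18, 15, 12, 8, 4],
  ![4, 6, 8, 12, 10, 8, 6, 3], ![2, 3, 4, 6, 5, 4, 3, 2]]

theorem form8 : FormOK chevE8 8 B8 := by decide +kernel

theorem dual8 : ∀ i j : Fin 8, bl B8 (W8 i) (sr j) = sr i j := by decide +kernel

theorem cnt8 : nri chevE8 8 3 0 = 84 ∧ nri chevE8 8 3 7 = 126 ∧ W8 0 0 = 4 ∧ W8 1 1 = 8 ∧ W8 6 6 = 6 ∧ W8 7 7 = 2 := by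
  decide +kernel

theorem cnt0 : (Finset.univ.filter fun _s : Fin chevE8.nroots => ((3 : ℕ) : ℤ) ∣ 0).card = 240 := by decide +kernel

theorem add_ext {l : ℕ} {f g : (Fin l → ℤ) →+ ℤ} (h : ∀ i, f (sr i) = g (sr i)) (x : Fin l → ℤ) : f x = g x := by
  rw [IsMC.eq_sum_sr x, map_sum, map_sum]
  exact Finset.sum_congr rfl fun i _ => by rw [map_zsmul, map_zsmul, h]

theorem bl_W8 (i : Fin 8) (x : Fin 8 → ℤ) : bl B8 (W8 i) x = x i := by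
  rw [← psi_sr_left i x]
  refine add_ext (fun j => ?_) x
  rw [dual8, psi_sr]

theorem exists_beta (b : (Fin 8 → ℤ) →+ ℤ) : ∃ β, ∀ x, bl B8 β x = b x := by
  refine ⟨∑ i, b (sr i) • W8 i, fun x => ?_⟩
  rw [bl_comm form8.1, map_sum]
  conv_rhs => rw [IsMC.eq_sum_sr x, map_sum]
  refine Finset.sum_congr rfl fun i _ => ?_
  rw [map_zsmul, map_zsmul, bl_comm form8.1, bl_W8, smul_eq_mul, smul_eq_mul, mul_comm]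

variable {p : ℕ} [Fact p.Prime]

theorem cls8 {ζ : KK p} (hζ : IsPrimitiveRoot ζ 3) {t : YY chevE8 p} (ht : t ∈ TT chevE8 (KK p)) {β : Fin 8 → ℤ}
    (h : ∀ x, cX hpE8 t x = ζ ^ bl B8 β x) : dd p t = 248 ∧ bl B8 β β % 3 = 0 ∨ dd p t = 92 ∧ bl B8 β β % 3 = 1 ∨
      dd p t = 80 ∧ bl B8 β β % 3 = 2 ∨ dd p t = 86 ∧ bl B8 β β % 3 = 0 ∨ dd p t = 134 ∧ bl B8 β β % 3 = 2 := by
  obtain ⟨w, c, c0, K, h1⟩ := exists_alcove hpE8 (n := 3) (by norm_num) (bl B8 β)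
  obtain ⟨γ, rfl⟩ : ∃ γ, β = wa hpE8 w γ := ⟨wa hpE8 w⁻¹ β, (rep_apply_inv _ _ w β).symm⟩
  simp only [bl_rep hpE8 form8] at h1 ⊢
  have h2 := K.sum
  rw [hrE8, Fin.sum_univ_eight] at h2
  replace h2 : (c0 : ℤ) + (2 * c 0 + 3 * c 1 + 4 * c 2 + 6 * c 3 + 5 * c 4 + 4 * c 5 + 3 * c 6 + 2 * c 7) = 3 := h2
  simp only [Fin.sum_univ_eight] at h1
  have key : ∀ f : (Fin 8 → ℤ) → ℤ, (∀ x, ((3 : ℕ) : ℤ) ∣ f x - bl B8 γ x) →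
      dd p t = 8 + (Finset.univ.filter fun s : Fin chevE8.nroots => ((3 : ℕ) : ℤ) ∣ f (vec chevE8 8 s)).card :=
    fun f hf => dd_of_kac (hp := hpE8) ht hζ (w := w) fun x => by
      rw [h, bl_rep hpE8 form8]
      exact (zpow_congr hζ three_ne_zero (hf x)).symm
  have key' : ∀ i : Fin 8, (∀ x, ((3 : ℕ) : ℤ) ∣ x i - bl B8 γ x) →
      dd p t = 8 + nri chevE8 8 3 i ∧ bl B8 γ γ % 3 = W8 i i % 3 := fun i hi => ⟨key _ hi, by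
    have a1 := hi γ
    have a2 := hi (W8 i)
    rw [bl_comm form8.1, bl_W8] at a2
    omega⟩
  obtain ⟨n1, n2, n3, n4, n5, n6⟩ := cnt8
  have h3 : c 2 = 0 ∧ c 3 = 0 ∧ c 4 = 0 ∧ c 5 = 0 := by omega
  obtain ⟨a2, a3, a4, a5⟩ := h3
  have h4 : (c 0 = 0 ∧ c 1 = 0 ∧ c 6 = 0 ∧ c 7 = 0) ∨ (c 0 = 1 ∧ c 1 = 0 ∧ c 6 = 0 ∧ c 7 = 0) ∨
      (c 0 = 0 ∧ c 1 = 1 ∧ c 6 = 0 ∧ c 7 = 0) ∨ (c 0 = 0 ∧ c 1 = 0 ∧ c 6 = 1 ∧ c 7 = 0) ∨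
      (c 0 = 0 ∧ c 1 = 0 ∧ c 6 = 0 ∧ c 7 = 1) := by omega
  rcases h4 with ⟨a0, a1, a6, a7⟩ | ⟨a0, a1, a6, a7⟩ | ⟨a0, a1, a6, a7⟩ | ⟨a0, a1, a6, a7⟩ | ⟨a0, a1, a6, a7⟩ <;>
    simp only [a0, a1, a2, a3, a4, a5, a6, a7, Nat.cast_zero, Nat.cast_one, mul_zero, mul_one, add_zero, zero_add] at h1
  · have b1 := key (fun _ => 0) h1
    have b2 := h1 γ
    exact Or.inl ⟨b1.trans (congrArg (8 + ·) cnt0), by omega⟩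
  · have b1 := key' 0 h1
    rw [n1, n3] at b1
    exact Or.inr (Or.inl b1)
  · have b1 := key' 1 h1
    rw [nri_E8.2.2.1, n4] at b1
    exact Or.inr (Or.inr (Or.inl b1))
  · have b1 := key' 6 h1
    rw [nri_E8.2.2.2.1, n5] at b1
    exact Or.inr (Or.inr (Or.inr (Or.inl b1)))
  · have b1 := key' 7 h1
    rw [n2, n6] at b1
    exact Or.inr (Or.inr (Or.inr (Or.inr b1)))

theorem tab6 : ∀ a b c d e f : Fin 4, (a : ℕ) + 2 * b + 2 * c + 3 * d + 2 * e + f ≤ 3 →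
    (Finset.univ.filter fun s : Fin chevE6.nroots => ((3 : ℕ) : ℤ) ∣ vec chevE6 6 s 0 * (a : ℕ) + vec chevE6 6 s 1 * (b : ℕ) +
      vec chevE6 6 s 2 * (c : ℕ) + vec chevE6 6 s 3 * (d : ℕ) + vec chevE6 6 s 4 * (e : ℕ) + vec chevE6 6 s 5 * (f : ℕ)).card = 24 →
      (a : ℕ) = 1 ∧ (b : ℕ) = 0 ∧ (c : ℕ) = 0 ∧ (d : ℕ) = 0 ∧ (e : ℕ) = 0 ∧ (f : ℕ) = 1 := by decide +kernel

theorem orth6 : ∀ s : Fin chevE6.nroots, ((3 : ℕ) : ℤ) ∣ vec chevE6 6 s 0 + vec chevE6 6 s 5 →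
    bl B6 ![4, 3, 5, 6, 4, 2] (vec chevE6 6 s) = 0 := by decide +kernel

theorem std6 {ζ : KK p} (hζ : IsPrimitiveRoot ζ 3) {x g : YY chevE6 p} (hg : g * x * g⁻¹ ∈ TT chevE6 (KK p))
    (hx : x ^ 3 = 1) (hd : dd p x = 30) : ∃ g : YY chevE6 p, g * x * g⁻¹ ∈ TT chevE6 (KK p) ∧
      ∀ a, cX hpE6 (g * x * g⁻¹) a = ζ ^ (a 0 + a 5) := by
  obtain ⟨w, c, c0, K, h1, -⟩ := exists_kac' hpE6 (by norm_num) hζ hg (by rw [conj_pow, hx, mul_one, mul_inv_cancel])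
  have h2 := K.sum
  rw [hrE6, Fin.sum_univ_six] at h2
  replace h2 : (c0 : ℤ) + (1 * c 0 + 2 * c 1 + 2 * c 2 + 3 * c 3 + 2 * c 4 + 1 * c 5) = 3 := h2
  simp only [Fin.sum_univ_six] at h1
  have h4 := dd_of_kac (hp := hpE6) hg hζ h1
  rw [dd_conj, hd] at h4
  obtain ⟨b0, b1, b2, b3, b4, b5⟩ : c 0 = 1 ∧ c 1 = 0 ∧ c 2 = 0 ∧ c 3 = 0 ∧ c 4 = 0 ∧ c 5 = 1 :=
    tab6 ⟨c 0, by omega⟩ ⟨c 1, by omega⟩ ⟨c 2, by omega⟩ ⟨c 3, by omega⟩ ⟨c 4, by omega⟩ ⟨c 5, by omega⟩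
      (show c 0 + 2 * c 1 + 2 * c 2 + 3 * c 3 + 2 * c 4 + c 5 ≤ 3 by omega) (Nat.add_left_cancel (n := 6) h4.symm)
  obtain ⟨k, a1, a2⟩ := exists_move (hp := hpE6) hg w
  have e1 : k * g * x * (k * g)⁻¹ = k * (g * x * g⁻¹) * k⁻¹ := by group
  refine ⟨k * g, by rw [e1]; exact a1, fun a => ?_⟩
  rw [e1, a2, h1, b0, b1, b2, b3, b4, b5]
  congr 1
  push_cast
  ring

end Tab

open Tab

/-- **[E83]** -/
theorem boxE83 : BoxE83 := by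
  intro p _ h3 x z ⟨g, hx, hz⟩ hx3 hz3 d1 d2 d3
  obtain ⟨ζ, hζ⟩ := exists_prim (p := p) Nat.prime_three h3.symm
  have h0 := hζ.ne_zero three_ne_zero
  obtain ⟨a, ha⟩ := exists_exp hpE8 three_pos hζ hx (by rw [conj_pow, hx3, mul_one, mul_inv_cancel])
  obtain ⟨b, hb⟩ := exists_exp hpE8 three_pos hζ hz (by rw [conj_pow, hz3, mul_one, mul_inv_cancel])
  obtain ⟨α, hα⟩ := exists_beta a
  obtain ⟨β, hβ⟩ := exists_beta b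
  simp only [← hα] at ha
  simp only [← hβ] at hb
  have a1 := cls8 hζ hx ha
  have a2 := cls8 hζ hz hb
  have a3 := cls8 hζ (mul_mem hx hz) (β := α + β) fun y => by
    rw [cX_mul hpE8 hx hz, ha, hb, bl_add_left form8.1, zpow_add₀ h0]
  have a4 := cls8 hζ (mul_mem (mul_mem hx hz) hz) (β := α + β + β) fun y => by
    rw [cX_mul hpE8 (mul_mem hx hz) hz, cX_mul hpE8 hx hz, ha, hb, bl_add_left form8.1, bl_add_left form8.1, zpow_add₀ h0,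
      zpow_add₀ h0]
  have e1 : g * x * g⁻¹ * (g * z * g⁻¹) = g * (x * z) * g⁻¹ := by group
  have e2 : g * (x * z) * g⁻¹ * (g * z * g⁻¹) = g * (x * z ^ 2) * g⁻¹ := by rw [pow_two]; group
  have k : ∀ y, dd p (g * y * g⁻¹) = dd p y := dd_conj g
  simp only [e1, e2, k, d1, d2, d3, map_add, bl_add_left form8.1, bl_comm form8.1 α β] at a1 a2 a3 a4
  omega

/-- **[D4T]** -/
theorem boxD4T : BoxD4T := by
  intro p _ h3 x y y' hx hy hy' hd hc h1 h2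
  have := finW hpE6
  have hD : Typ chevE6 := Or.inr (Or.inl rfl)
  obtain ⟨ζ, hζ⟩ := exists_prim (p := p) Nat.prime_three h3.symm
  obtain ⟨g₀, a1, a2⟩ := std6 hζ h1.choose_spec.1 hx hd
  obtain ⟨g, a3, ht⟩ := exists_pair hpE6 a1 h1
  rw [← a3] at a1 a2
  refine Tp.of_conj (c := g) ?_
  have b2 := h2.conj g
  have b3 := conj_comm (g := g) hc
  have k : ∀ u : YY chevE6 p, u ^ 3 = 1 → (g * u * g⁻¹) ^ 3 = 1 := fun u hu => by rw [conj_pow, hu, mul_one, mul_inv_cancel]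
  have b4 := k y hy
  have b5 := k y' hy'
  generalize g * x * g⁻¹ = s at a1 a2 b2
  generalize g * y * g⁻¹ = t at ht b3 b4 ⊢
  generalize g * y' * g⁻¹ = u at b2 b3 b5 ⊢
  have hs : ({s} : Set (YY chevE6 p)) ⊆ TT chevE6 (KK p) := Set.singleton_subset_iff.2 a1
  have hZ : ({s, t} : Set (YY chevE6 p)) ⊆ TT chevE6 (KK p) := Set.insert_subset a1 (Set.singleton_subset_iff.2 ht)
  have c1 := mem_DZ_of_tp (hp := hpE6) hD a1 b2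
  obtain ⟨m, hm, w, -, n, hn, c2, rfl⟩ := form hpE6 (Set.toFinite {s, t}) hZ (c := u) (by
    rintro a (rfl | rfl)
    exacts [DZ_comm hs c1 rfl, b3.symm])
  have c3 : ∀ a ∈ ({s, t} : Set (YY chevE6 p)), m ∈ Mz hpE6 p {a} := fun a ha => Mz_le (fun b hb => X_le_Mz
    ((mem_Ps (Set.singleton_subset_iff.2 (hZ ha))).2 ⟨((mem_Ps hZ).1 hb).1, fun c hc => hc ▸ ((mem_Ps hZ).1 hb).2 a ha⟩)) hm
  have c4 : n ∈ DZ hpE6 p {s} := (Subgroup.mul_mem_cancel_left _ (Mz_le_DZ (c3 s (Or.inl rfl)))).1 c1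
  refine tp_of_mem_DZ (hp := hpE6) Nat.prime_three h3.symm ht ⟨1, by rw [pow_one, b4]⟩
    (mul_mem (Mz_le_DZ (c3 t (Or.inr rfl))) (del kd6 h3.symm ht b4 hn (c2 t (Or.inr rfl)) ?_)) ⟨1, by rw [pow_one, b5]⟩
  have : NeZero ((27 : ℕ) : KK p) := ⟨by
    rw [show 27 = 3 ^ 3 by norm_num, Nat.cast_pow]
    exact pow_ne_zero _ (cast_ne_zero Nat.prime_three h3.symm)⟩
  obtain ⟨ξ, hξ⟩ := HasEnoughRootsOfUnity.exists_primitiveRoot (KK p) 27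
  obtain ⟨h, H⟩ := exists_HT (hp := hpE6) (Bm := B6) hD hξ (by norm_num)
  have d1 := comm_DZ (H.mem ![4, 3, 5, 6, 4, 2]) (fun a ha => by
    obtain ⟨d1, d2⟩ := (mem_Ps hs).1 ha
    obtain ⟨i, hi, rfl⟩ := (isRoot_iff hpE6 _ _).1 d1
    have d3 := d2 s rfl
    rw [a2, hζ.zpow_eq_one_iff_dvd] at d3
    rw [H.chr, orth6 ⟨i, hi⟩ d3, zpow_zero]) c4
  have d2 : ∀ a, (9 : ℤ) ∣ bl B6 (dv hpE6 3 ![4, 3, 5, 6, 4, 2] w) a := fun a => by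
    have d3 := hn.cX_of_comm (H.mem _) d1.symm (wa hpE6 w⁻¹ a)
    rw [rep_apply_inv, H.chr, H.chr, ← kd6.adjt, eq_comm, ← mul_inv_eq_one₀ (zpow_ne_zero _ H.ne), ← zpow_neg,
      ← zpow_add₀ H.ne, hξ.zpow_eq_one_iff_dvd, ← sub_eq_add_neg, ← kd6.sub_left, ← kd6.dv_spec, kd6.smul_left] at d3
    omega
  generalize dv hpE6 3 ![4, 3, 5, 6, 4, 2] w = δ at d2 ⊢
  have d3 : ∀ i, bl B6 δ (sr i) = B6 i 0 * δ 0 + B6 i 1 * δ 1 + B6 i 2 * δ 2 + B6 i 3 * δ 3 + B6 i 4 * δ 4 + B6 i 5 * δ 5 :=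
    fun i => by rw [bl_sr, Fin.sum_univ_six]
  have e0 : (9 : ℤ) ∣ 2 * δ 0 + 0 * δ 1 + -1 * δ 2 + 0 * δ 3 + 0 * δ 4 + 0 * δ 5 := d3 0 ▸ d2 (sr 0)
  have e1 : (9 : ℤ) ∣ 0 * δ 0 + 2 * δ 1 + 0 * δ 2 + -1 * δ 3 + 0 * δ 4 + 0 * δ 5 := d3 1 ▸ d2 (sr 1)
  have e2 : (9 : ℤ) ∣ -1 * δ 0 + 0 * δ 1 + 2 * δ 2 + -1 * δ 3 + 0 * δ 4 + 0 * δ 5 := d3 2 ▸ d2 (sr 2)
  have e3 : (9 : ℤ) ∣ 0 * δ 0 + -1 * δ 1 + -1 * δ 2 + 2 * δ 3 + -1 * δ 4 + 0 * δ 5 := d3 3 ▸ d2 (sr 3)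
  have e4 : (9 : ℤ) ∣ 0 * δ 0 + 0 * δ 1 + 0 * δ 2 + -1 * δ 3 + 2 * δ 4 + -1 * δ 5 := d3 4 ▸ d2 (sr 4)
  have e5 : (9 : ℤ) ∣ 0 * δ 0 + 0 * δ 1 + 0 * δ 2 + 0 * δ 3 + -1 * δ 4 + 2 * δ 5 := d3 5 ▸ d2 (sr 5)
  have e6 : ∀ i, (3 : ℤ) ∣ δ i := fun i => by
    fin_cases i
    · show (3 : ℤ) ∣ δ 0
      omega
    · show (3 : ℤ) ∣ δ 1
      omega
    · show (3 : ℤ) ∣ δ 2
      omega
    · show (3 : ℤ) ∣ δ 3
      omega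
    · show (3 : ℤ) ∣ δ 4
      omega
    · show (3 : ℤ) ∣ δ 5
      omega
  choose ε hε using e6
  rw [show δ = 3 • ε from funext fun i => by rw [hε, Pi.smul_apply, nsmul_eq_mul, Nat.cast_ofNat], (isMC_cX hpE6 ht).nsmul,
    ← cX_pow hpE6 ht, b4, cX_one]

end Cfsg.Agent.N2.Ex.Loc
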