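import Cfsg.Agent.N2.Ex.Loc.CaseC
import Cfsg.Agent.N2.Ex.Loc.FJ
import Cfsg.Agent.N2.Ex.Loc.Tab
import Cfsg.Agent.N2.Ex.Loc.Rk

/-!
# N2, exceptional groups: the local case (helper75)
-/

set_option autoImplicit false

namespace Cfsg.Agent.N2.Ex

/-- **[LOC]** -/
theorem boxLoc : BoxLoc := Loc.boxLoc_of Loc.boxFJ2 Loc.boxFJ3 Loc.boxE83 Loc.boxC7 Loc.boxD4T Loc.boxRk

end Cfsg.Agent.N2.Ex
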