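import Cfsg.Agent.N2.Ex.Loc.OutB

/-!
# N2, exceptional groups, the local case: elements of the normaliser of `E` (helper75)

* `St E U` : the pointwise stabiliser in `E` of a subspace; `AA E g` : the vectors fixed by `[E, g]`;
* `fr_St` : the bound for `dd g`; `four_le`, `five_le` : lower bounds for the order of the stabiliser;
* `exists_over` : `E` together with an element which is toral with all the elements of `E`;
* `reg_Y`, `odd_Y` : the bounds in the Jordan cases.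
-/

set_option autoImplicit false
set_option linter.unusedSectionVars false

namespace Cfsg.Agent.N2.Ex.Loc

open CoxeterSystem Cfsg Cfsg.Lie Cfsg.Lie.ChevalleyDatum
open Cfsg.Agent.ChevalleyStructure Cfsg.Agent.Nodes.RGDChev Cfsg.Agent.KFacts.RgdChevCoord
open Cfsg.Agent.H469.Exc Cfsg.Agent.H316.U6 Cfsg.Agent.DS.Ex
open Cfsg.Agent.DS.Nt
open Module (finrank)
open Cfsg.Agent.H931.KC (hr)

section Grp

variable {X : Type*} [Group X]

theorem comm_of_sq {g y : X} {s : ℕ} (hs : Odd s) (h : g ^ s * y = y * g ^ s) (h2 : g⁻¹ * (g⁻¹ * y * g) * g = y) :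
    Commute g y := by
  obtain ⟨k, rfl⟩ := hs
  have h3 : Commute (g ^ 2) y := by
    show g ^ 2 * y = y * g ^ 2
    rw [pow_two]
    conv_lhs => rw [← h2]
    group
  have h4 := (show Commute _ y from h).mul_left (h3.pow_left k).inv_left
  rwa [← pow_mul, pow_succ', mul_inv_cancel_right] at h4

theorem comm_of_conj' {g y : X} (h : g⁻¹ * y * g = y) : Commute g y := by
  show g * y = y * g
  conv_lhs => rw [← h]
  group

theorem card_ge {W : Subgroup X} [Finite W] (S : Finset X) (h : ∀ x ∈ S, x ∈ W) : S.card ≤ Nat.card W := by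
  rw [← Set.ncard_coe_finset]
  exact Set.ncard_le_ncard h (Set.toFinite _)

theorem five_le {W : Subgroup X} [Finite W] {g y e : X} {s : ℕ} (hs : Odd s) (h : g ^ s * y = y * g ^ s)
    (hy : ¬ Commute g y) (he : Commute g e) (h0 : y ∈ W) (h1 : g⁻¹ * y * g ∈ W) (h2 : g⁻¹ * (g⁻¹ * y * g) * g ∈ W)
    (h3 : e ∈ W) : 4 ≤ Nat.card W ∧ (e ≠ 1 → 5 ≤ Nat.card W) := by
  classical
  have k : ∀ x, Commute g (g⁻¹ * x * g) → Commute g x := fun x hx => by
    have h5 : x = g * (g⁻¹ * x * g) * g⁻¹ := by group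
    rw [h5]
    exact ((Commute.refl g).mul_right hx).mul_right (Commute.refl g).inv_right
  have a1 : ¬ Commute g (g⁻¹ * y * g) := fun h => hy (k _ h)
  have a2 : ¬ Commute g (g⁻¹ * (g⁻¹ * y * g) * g) := fun h => a1 (k _ h)
  have b1 : y ≠ g⁻¹ * y * g := fun h => hy (comm_of_conj' h.symm)
  have b2 : g⁻¹ * y * g ≠ g⁻¹ * (g⁻¹ * y * g) * g := fun h => a1 (comm_of_conj' h.symm)
  have b3 : y ≠ g⁻¹ * (g⁻¹ * y * g) * g := fun h' => hy (comm_of_sq hs h h'.symm)
  have c : ∀ x, Commute g x → x ∉ ({y, g⁻¹ * y * g, g⁻¹ * (g⁻¹ * y * g) * g} : Finset X) := fun x hx h => by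
    simp only [Finset.mem_insert, Finset.mem_singleton] at h
    rcases h with rfl | rfl | rfl
    exacts [hy hx, a1 hx, a2 hx]
  have d : ({y, g⁻¹ * y * g, g⁻¹ * (g⁻¹ * y * g) * g} : Finset X).card = 3 := Finset.card_eq_three.2 ⟨_, _, _, b1, b3, b2, rfl⟩
  have m : ∀ x ∈ insert e (insert 1 ({y, g⁻¹ * y * g, g⁻¹ * (g⁻¹ * y * g) * g} : Finset X)), x ∈ W := fun x h => by
    simp only [Finset.mem_insert, Finset.mem_singleton] at h
    rcases h with rfl | rfl | rfl | rfl | rfl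
    exacts [h3, one_mem _, h0, h1, h2]
  have d1 := Finset.card_insert_of_notMem (c 1 (Commute.one_right g))
  refine ⟨?_, fun h => ?_⟩
  · have := card_ge _ fun x hx => m x (Finset.mem_insert_of_mem hx)
    omega
  · have := card_ge _ m
    rw [Finset.card_insert_of_notMem fun h4 => (Finset.mem_insert.1 h4).elim h (c e he)] at this
    omega

theorem exists_sq {r : ℕ} {x : X} (h : x ^ r ≠ 1) (hx : ∃ k, x ^ r ^ k = 1) :
    ∃ j, (x ^ j) ^ r ≠ 1 ∧ (x ^ j) ^ r ^ 2 = 1 := by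
  classical
  have h2 : 2 ≤ Nat.find hx := by
    by_contra h2
    have h3 := Nat.find_spec hx
    have h4 : Nat.find hx = 0 ∨ Nat.find hx = 1 := by omega
    rcases h4 with h4 | h4 <;> rw [h4] at h3
    · rw [pow_zero, pow_one] at h3
      exact h (by rw [h3, one_pow])
    · exact h (by rwa [pow_one] at h3)
  obtain ⟨j, hj⟩ := Nat.exists_eq_add_of_le' h2
  refine ⟨r ^ j, ?_, ?_⟩
  · rw [← pow_mul, ← pow_succ]
    exact Nat.find_min hx (by omega)
  · rw [← pow_mul, ← pow_add, ← hj]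
    exact Nat.find_spec hx

end Grp

variable {D : ChevalleyDatum} {l : ℕ} {M : CoxeterMatrix (Fin l)} {hp : IsType D l M} {p : ℕ} [Fact p.Prime]
  {r : ℕ} {E : Subgroup (YY D p)}

/-- the pointwise stabiliser -/
def St (E : Subgroup (YY D p)) (U : Submodule (KK p) (D.Idx → KK p)) : Subgroup (YY D p) where
  carrier := {e | e ∈ E ∧ ∀ v ∈ U, ad D p e v = v}
  one_mem' := ⟨one_mem _, fun v _ => ad_one v⟩
  mul_mem' := fun ha hb => ⟨mul_mem ha.1 hb.1, fun v hv => by rw [ad_mul, hb.2 v hv, ha.2 v hv]⟩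
  inv_mem' := fun ha => ⟨inv_mem ha.1, fun v hv => by
    conv_lhs => rw [← ha.2 v hv]
    rw [← ad_mul, inv_mul_cancel, ad_one]⟩

theorem St_le (U : Submodule (KK p) (D.Idx → KK p)) : St E U ≤ E := fun _ h => h.1

theorem le_Fx_St (U : Submodule (KK p) (D.Idx → KK p)) : U ≤ Fx p (St E U : Set (YY D p)) := fun v hv _ he => he.2 v hv

/-- the vectors fixed by `[E, g]` -/
def AA (E : Subgroup (YY D p)) (g : YY D p) : Submodule (KK p) (D.Idx → KK p) where
  carrier := {v | ∀ e ∈ E, ad D p (g⁻¹ * e * g) v = ad D p e v}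
  zero_mem' := fun _ _ => by rw [map_zero, map_zero]
  add_mem' := fun hv hw e he => by rw [map_add, map_add, hv e he, hw e he]
  smul_mem' := fun c v hv e he => by rw [map_smul, map_smul, hv e he]

theorem EL.mono' (h : EL p r E) {A : Subgroup (YY D p)} (hA : A ≤ E) : EL p r A :=
  ⟨h.prime, h.ne, have := h.fin; Finite.of_injective _ (Subgroup.inclusion_injective hA),
    fun x hx y hy => h.comm x (hA hx) y (hA hy), fun x hx => h.pow x (hA hx)⟩

theorem cm_mem (h : EL p r E) {g : YY D p} (hg : ∀ e ∈ E, g⁻¹ * e * g ∈ E) {U : Submodule (KK p) (D.Idx → KK p)}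
    (hU : U ≤ AA E g) {x : YY D p} (hx : x ∈ E) : g⁻¹ * x * g * x⁻¹ ∈ St E U :=
  ⟨mul_mem (hg x hx) (inv_mem hx), fun v hv => by
    rw [h.comm _ (hg x hx) _ (inv_mem hx), ad_mul, hU hv x hx, ← ad_mul, inv_mul_cancel, ad_one]⟩

theorem big_St (h : EL p r E) {g : YY D p} (hg : ∀ e ∈ E, g⁻¹ * e * g ∈ E) {U : Submodule (KK p) (D.Idx → KK p)}
    (hU : U ≤ AA E g) {s : ℕ} (hs : Odd s) (hgs : ∀ e ∈ E, g ^ s * e = e * g ^ s) {x : YY D p} (hx : x ∈ E)
    (hc : ¬ Commute g (g⁻¹ * x * g * x⁻¹)) {e : YY D p} (he : Commute g e) (he' : e ∈ St E U) :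
    4 ≤ Nat.card (St E U) ∧ (e ≠ 1 → 5 ≤ Nat.card (St E U)) := by
  have := (EL.mono' h (St_le U)).fin
  have k : ∀ y, g⁻¹ * (g⁻¹ * y * g * y⁻¹) * g = g⁻¹ * (g⁻¹ * y * g) * g * (g⁻¹ * y * g)⁻¹ := fun y => by group
  refine five_le hs (hgs _ (mul_mem (hg x hx) (inv_mem hx))) hc he (cm_mem h hg hU hx) ?_ ?_ he'
  · rw [k]
    exact cm_mem h hg hU (hg x hx)
  · rw [k, k]
    exact cm_mem h hg hU (hg _ (hg x hx))

theorem fr_AA (h : EL p r E) {g : YY D p} (hg : ∀ e ∈ E, g⁻¹ * e * g ∈ E) {s : ℕ} (hs : s.Prime) (hsp : s ≠ p)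
    (hgs : ∀ e ∈ E, g ^ s * e = e * g ^ s) :
    s * dd p g + finrank (KK p) ↥(Module.End.eigenspace (ad D p (g ^ s)) 1 ⊓ AA E g) ≤
      dd p (g ^ s) + s * finrank (KK p) ↥(Module.End.eigenspace (ad D p g) 1 ⊓ AA E g) :=
  Lin.fr (ad D p) (cast_ne_zero h.prime h.ne) h.comm h.pow hg hs (cast_ne_zero hs hsp) hgs (AA E g) fun _ => Iff.rfl

theorem eig_pow (g : YY D p) (s : ℕ) : Module.End.eigenspace (ad D p g) 1 ≤ Module.End.eigenspace (ad D p (g ^ s)) 1 := by
  intro v hv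
  rw [Module.End.mem_eigenspace_iff, one_smul] at hv ⊢
  induction s with
  | zero => rw [pow_zero, ad_one]
  | succ n ih => rw [pow_succ, ad_mul, hv, ih]

/-- the bound with the stabiliser -/
theorem fr_St (h : EL p r E) {g : YY D p} (hg : ∀ e ∈ E, g⁻¹ * e * g ∈ E) {s : ℕ} (hs : s.Prime) (hsp : s ≠ p)
    (h2 : s ≠ 2) (hgs : ∀ e ∈ E, g ^ s * e = e * g ^ s) {x : YY D p} (hx : x ∈ E)
    (hc : ¬ Commute g (g⁻¹ * x * g * x⁻¹)) (he : g ^ s ∈ E) : ∃ W ≤ E, 4 ≤ Nat.card W ∧ (g ^ s ≠ 1 → 5 ≤ Nat.card W) ∧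
      s * dd p g + finrank (KK p) (Fx p (W : Set (YY D p))) ≤ dd p (g ^ s) + s * finrank (KK p) (Fx p (W : Set (YY D p))) := by
  obtain ⟨a1, a2⟩ := big_St h hg (U := Module.End.eigenspace (ad D p (g ^ s)) 1 ⊓ AA E g) inf_le_right
    (hs.odd_of_ne_two h2) hgs hx hc (Commute.self_pow g s) ⟨he, fun v hv => by
      rw [Module.End.mem_eigenspace_iff.1 hv.1, one_smul]⟩
  refine ⟨_, St_le _, a1, a2, ?_⟩
  have a3 := fr_AA h hg hs hsp hgs
  have a4 := Submodule.finrank_mono (le_Fx_St (E := E) (Module.End.eigenspace (ad D p (g ^ s)) 1 ⊓ AA E g))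
  have a5 := Submodule.finrank_mono (inf_le_inf_right (AA E g) (eig_pow g s))
  obtain ⟨t, rfl⟩ := Nat.exists_eq_succ_of_ne_zero hs.ne_zero
  have a6 := Nat.mul_le_mul_left t (a5.trans a4)
  simp only [Nat.succ_mul] at a3 ⊢
  omega

theorem ea_gen (hp : IsType D l M) (hD : Typ D) (hr : r.Prime) (hrp : r ≠ p) {S : Set (YY D p)}
    (hf : Finite (Subgroup.closure S)) (hc : ∀ x ∈ S, ∀ y ∈ S, x * y = y * x) (hx : ∀ x ∈ S, x ^ r = 1)
    (ht : ∀ x ∈ S, ∀ y ∈ S, Tp p x y) : EA p r (Subgroup.closure S) := by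
  have c1 : ∀ x ∈ S, ∀ y ∈ Subgroup.closure S, x * y = y * x := fun x hx y hy =>
    Subgroup.mem_centralizer_singleton_iff.1 ((Subgroup.closure_le (Subgroup.centralizer {x})).2
      (fun z hz => Subgroup.mem_centralizer_singleton_iff.2 (hc z hz x hx)) hy) |>.symm
  have c2 : ∀ x ∈ Subgroup.closure S, ∀ y ∈ Subgroup.closure S, x * y = y * x := fun x hx y hy =>
    Subgroup.mem_centralizer_singleton_iff.1 ((Subgroup.closure_le (Subgroup.centralizer {y})).2
      (fun z hz => Subgroup.mem_centralizer_singleton_iff.2 (c1 z hz y hy)) hx)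
  have c3 : ∀ x ∈ Subgroup.closure S, x ^ r = 1 := fun x h => by
    induction h using Subgroup.closure_induction with
    | mem x h => exact hx x h
    | one => exact one_pow r
    | mul x y h h' a b => rw [(show Commute x y from c2 x h y h').mul_pow, a, b, one_mul]
    | inv x _ a => rw [inv_pow, a, inv_one]
  have key : ∀ x ∈ Subgroup.closure S, (∀ y ∈ S, Tp p x y) → ∀ y ∈ Subgroup.closure S, Tp p x y := fun x h h1 y hy => by
    obtain ⟨K, h2, -⟩ := exists_DD hp hD hr hrp (c3 x h)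
    have h3 := fun z hz => h2 z (c2 z hz x h) ⟨1, by rw [pow_one, c3 z hz]⟩
    exact (h3 y hy).2 ((Subgroup.closure_le K).2 (fun z hz => (h3 z (Subgroup.subset_closure hz)).1 (h1 z hz)) hy)
  exact ⟨hr, hrp, hf, c2, c3, fun x h => key x h fun y hy => (key y (Subgroup.subset_closure hy) (ht y hy) x h).symm⟩

/-- an overgroup of `E` whose elements are isolated -/
theorem exists_over (hp : IsType D l M) (hD : Typ D) (hE : EA p r E)
    (h0 : ∀ y : YY D p, (∀ e ∈ E, y * e = e * y) → ∀ m : ℕ, r.Coprime m → y ^ m = 1 → y = 1) {K : Subgroup (YY D p)}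
    [Finite K] (hK : E ≤ K) {x : YY D p} (hx : x ∈ K) (hc : ∀ e ∈ E, x * e = e * x) (hxr : x ^ r = 1)
    (ht : ∀ e ∈ E, Tp p e x) : ∃ B : Subgroup (YY D p), EA p r B ∧ E ≤ B ∧ x ∈ B ∧
      ∀ e ∈ B, e ≠ 1 → ∃ i, hr D l i = r ∧ e ∈ Om hp p r i := by
  have hB : EA p r (Subgroup.closure (insert x (E : Set (YY D p)))) := by
    refine ea_gen hp hD hE.prime hE.ne (Finite.of_injective _ (Subgroup.inclusion_injective
      ((Subgroup.closure_le K).2 (Set.insert_subset hx hK)))) ?_ ?_ ?_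
    · rintro a (rfl | ha) b (rfl | hb)
      exacts [rfl, hc b hb, (hc a ha).symm, hE.comm a ha b hb]
    · rintro a (rfl | ha)
      exacts [hxr, hE.pow a ha]
    · rintro a (rfl | ha) b (rfl | hb)
      · obtain ⟨g, hg⟩ := exists_conj_T hp hE.prime hE.ne (n := 1) (by rw [pow_one, hxr])
        exact ⟨g, hg, hg⟩
      exacts [(ht b hb).symm, ht a ha, hE.tp a ha b hb]
  have hle : E ≤ Subgroup.closure (insert x (E : Set (YY D p))) := fun e he =>
    Subgroup.subset_closure (Set.mem_insert_of_mem _ he)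
  obtain ⟨s, hs, hrs⟩ := exists_Lp' p r
  exact ⟨_, hB, hle, Subgroup.subset_closure (Set.mem_insert _ _), fun e he h1 => iso_of_noL hp hD hB hs hrs
    (fun b hb hb' _ => h0 b (fun e he => hb' e (hle he)) s ((Nat.coprime_primes hE.prime hs.1).2 hrs) hb) he h1⟩

theorem cube_eq {X : Type*} [Group X] (n e : X) : (n * e) ^ 3 = n ^ 3 * (n⁻¹ * (n⁻¹ * e * n) * n * (n⁻¹ * e * n) * e) := by
  rw [pow_three, pow_three]
  group

/-- **The Jordan subgroups `3³`.** -/
theorem reg_Y (h : EL p 3 E) {d δ : ℕ} (hd : ∀ e ∈ E, e ≠ 1 → dd p e = d) (h27 : Nat.card E = 27)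
    (h0 : Fx p (E : Set (YY D p)) = ⊥) (hW : ∀ W ≤ E, 4 ≤ Nat.card W → finrank (KK p) (Fx p (W : Set (YY D p))) ≤ δ)
    {n : YY D p} (hn : ∀ e ∈ E, n⁻¹ * e * n ∈ E) (hn' : ∀ e ∈ E, n * e * n⁻¹ ∈ E) (h3 : ∀ e ∈ E, n ^ 3 * e = e * n ^ 3)
    {x : YY D p} (hx : x ∈ E) (hc : ¬ Commute n (n⁻¹ * x * n * x⁻¹)) :
    (∃ e ∈ E, 3 * dd p (n * e) ≤ d + 2 * δ) ∨ ∃ e ∈ E, (n * e) ^ 3 ∉ E ∧ 3 * dd p (n * e) ≤ dd p ((n * e) ^ 3) + δ := by
  have := h.fin
  have c1 : ∀ e ∈ E, ∀ y ∈ E, (n * e)⁻¹ * y * (n * e) = n⁻¹ * y * n := fun e he y hy => by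
    calc (n * e)⁻¹ * y * (n * e) = e⁻¹ * (n⁻¹ * y * n * e) := by group
      _ = _ := by rw [h.comm _ (hn y hy) e he, inv_mul_cancel_left]
  have c2 : ∀ e ∈ E, n⁻¹ * (n⁻¹ * e * n) * n * (n⁻¹ * e * n) * e ∈ E := fun e he =>
    mul_mem (mul_mem (hn _ (hn e he)) (hn e he)) he
  have c3 : ∀ e ∈ E, ∀ y ∈ E, (n * e) ^ 3 * y = y * (n * e) ^ 3 := fun e he y hy => by
    rw [cube_eq, mul_assoc (n ^ 3), h.comm _ (c2 e he) y hy, ← mul_assoc, h3 y hy, mul_assoc]
  have c4 : ∀ e ∈ E, ∀ y ∈ E, (n * e)⁻¹ * y * (n * e) ∈ E := fun e he y hy => c1 e he y hy ▸ hn y hy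
  by_cases hE : n ^ 3 ∈ E
  · obtain ⟨e, he, h1⟩ : ∃ e ∈ E, (n * e) ^ 3 ≠ 1 := by
      by_cases h1 : n ^ 3 = 1
      · refine ⟨x, hx, fun h2 => hc (comm_of_conj' ?_)⟩
        rw [cube_eq, h1, one_mul] at h2
        have a1 := h.pow _ (hn x hx)
        have a2 := h.comm _ (hn x hx) x hx
        have e1 : n⁻¹ * (n⁻¹ * x * n * x⁻¹) * n = n⁻¹ * (n⁻¹ * x * n) * n * (n⁻¹ * x * n)⁻¹ := by group
        rw [e1]
        generalize n⁻¹ * (n⁻¹ * x * n) * n = a at h2 ⊢
        generalize n⁻¹ * x * n = b at h2 a1 a2 ⊢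
        have a3 : a = b ^ 3 * (b * x)⁻¹ := by rw [a1, one_mul, eq_inv_iff_mul_eq_one, ← mul_assoc, h2]
        rw [a3]
        calc b ^ 3 * (b * x)⁻¹ * b⁻¹ = b * b * b * (b * x)⁻¹ * b⁻¹ := by rw [pow_three']
          _ = b * b * b * (x * b)⁻¹ * b⁻¹ := by rw [a2]
          _ = b * b * (b * x)⁻¹ := by group
          _ = b * b * (x * b)⁻¹ := by rw [a2]
          _ = _ := by group
      · exact ⟨1, one_mem _, by rwa [mul_one]⟩
    have h2 : (n * e) ^ 3 ∈ E := cube_eq n e ▸ mul_mem hE (c2 e he)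
    obtain ⟨W, a1, a2, -, a3⟩ := fr_St h (c4 e he) Nat.prime_three h.ne (by norm_num) (c3 e he) hx (fun h4 => hc (by
      rw [c1 e he x hx] at h4
      have h5 := h4.mul_left (show Commute e⁻¹ _ from h.comm _ (inv_mem he) _ (mul_mem (hn x hx) (inv_mem hx)))
      rwa [mul_inv_cancel_right] at h5)) h2
    have a4 := hW W a1 a2
    rw [hd _ h2 h1] at a3
    exact Or.inl ⟨e, he, by omega⟩
  · have a1 := (big_St h hn (U := AA E n) le_rfl (by decide : Odd 3) h3 hx hc (Commute.one_right n) (one_mem _)).1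
    have a2 : finrank (KK p) (AA E n) ≤ δ := (Submodule.finrank_mono (le_Fx_St _)).trans (hW _ (St_le _) a1)
    obtain ⟨e, he, h1⟩ : ∃ e ∈ E, ∀ v ∈ AA E n, ad D p e v = v → v = 0 := by
      by_cases h1 : E ≤ St E (AA E n)
      · exact ⟨1, one_mem _, fun v hv _ => (Submodule.mem_bot (KK p)).1 (h0.le fun e he => (h1 he).2 v hv)⟩
      obtain ⟨e, he, h2⟩ := SetLike.not_le_iff_exists.1 h1
      refine ⟨e, he, fun v hv h4 => (Submodule.mem_bot (KK p)).1 (h0.le fun y hy => ?_)⟩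
      have b1 : St E (AA E n) < St E (Submodule.span (KK p) {v}) := by
        have k : ∀ y ∈ E, ad D p y v = v → y ∈ St E (Submodule.span (KK p) {v}) := fun y hy h5 => ⟨hy, fun w hw => by
          obtain ⟨c, rfl⟩ := Submodule.mem_span_singleton.1 hw
          rw [map_smul, h5]⟩
        exact lt_of_le_of_ne (fun y hy => k y hy.1 (hy.2 v hv)) fun h5 => h2 (h5 ▸ k e he h4)
      obtain ⟨i, hi⟩ := (EL.mono' h (St_le (AA E n))).exists_card
      obtain ⟨j, hj⟩ := (EL.mono' h (St_le (Submodule.span (KK p) {v}))).exists_card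
      have := (EL.mono' h (St_le (Submodule.span (KK p) {v}))).fin
      have b2 : Nat.card (St E (AA E n)) < Nat.card (St E (Submodule.span (KK p) {v})) :=
        lt_of_le_of_ne (Subgroup.card_le_of_le b1.le) fun h5 => b1.ne (Subgroup.eq_of_le_of_card_ge b1.le h5.ge)
      rw [hi] at a1
      rw [hi, hj, Nat.pow_lt_pow_iff_right (by norm_num)] at b2
      have b3 : 2 ≤ i := by
        by_contra b3
        have : i = 0 ∨ i = 1 := by omega
        rcases this with rfl | rfl <;> omega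
      have b4 := Subgroup.eq_of_le_of_card_ge (St_le (E := E) (Submodule.span (KK p) {v}))
        (by rw [h27, hj]; exact Nat.pow_le_pow_right (n := 3) (by norm_num) (by omega : 3 ≤ j))
      exact (b4.ge hy).2 v (Submodule.mem_span_singleton_self v)
    have a3 := Lin.three (ad D p) (cast_ne_zero Nat.prime_three h.ne) (n := n) (h.pow e he) (AA E n)
      (fun v hv y hy => by rw [← ad_mul, ← ad_mul, h.comm _ (hn y hy) e he, h.comm y hy e he, ad_mul e, ad_mul e, hv y hy])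
      (fun v hv => by
        have b1 := hv _ (hn' e he)
        rw [show n⁻¹ * (n * e * n⁻¹) * n = e by group] at b1
        rw [b1, ← ad_mul, ← ad_mul]
        congr 2
        group) h1
    have a4 : ∃ i : Fin 3, 3 * finrank (KK p) ↥(Module.End.eigenspace (ad D p (n * e ^ (i : ℕ))) 1 ⊓ AA E n) ≤ δ := by
      by_contra a4
      push Not at a4
      have b0 := a4 0
      have b1 := a4 1
      have b2 := a4 2
      rw [Fin.sum_univ_three] at a3
      omega
    obtain ⟨i, hi⟩ := a4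
    have he' := pow_mem he (i : ℕ)
    have a5 := fr_AA h (c4 _ he') Nat.prime_three h.ne (c3 _ he')
    have a6 : AA E (n * e ^ (i : ℕ)) = AA E n := Submodule.ext fun v =>
      forall₂_congr fun y hy => by rw [c1 _ he' y hy]
    rw [a6] at a5
    refine Or.inr ⟨_, he', fun h5 => hE ?_, by omega⟩
    rw [cube_eq] at h5
    exact (Subgroup.mul_mem_cancel_right _ (c2 _ he')).1 h5

/-- **The Jordan subgroup `2⁵`.** -/
theorem odd_Y (hp : IsType D l M) (hN : l + D.nroots = 248) (h : EL p 2 E) (hd : ∀ e ∈ E, e ≠ 1 → dd p e = 120)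
    (h32 : Nat.card E = 32) {a : YY D p} (ha : ∀ e ∈ E, a⁻¹ * e * a ∈ E) {s : ℕ} (hs : s.Prime) (h2 : s ≠ 2) (hsp : s ≠ p)
    (has : a ^ s = 1) {x : YY D p} (hx : x ∈ E) (hc : a * x ≠ x * a) : ∃ e ∈ E, Commute a e ∧ dd p (a * e) ≤ 68 := by
  classical
  have := h.fin
  have hs3 : 3 ≤ s := lt_of_le_of_ne hs.two_le h2.symm
  have hc' : ¬ Commute a (a⁻¹ * x * a * x⁻¹) := fun h1 => hc (Commute.inv_left_iff.1 (comm_of_cen (u := a⁻¹) (a := s) (b := 2)
    (by rw [inv_inv]) h1.inv_left (by rw [inv_pow, has, inv_one, one_mul, mul_one]) (h.pow _ (mul_mem (ha x hx) (inv_mem hx)))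
    ((Nat.coprime_primes hs Nat.prime_two).2 h2)))
  have hW : ∀ W ≤ E, Nat.card W * (finrank (KK p) (Fx p (W : Set (YY D p))) + 8) = 256 := fun W h1 => by
    have h3 := pure_eq hp (EL.mono' h h1) fun e he => hd e (h1 he)
    rw [hN] at h3
    zify
    push_cast at h3
    linear_combination h3
  by_cases h0 : ∃ e ∈ E, e ≠ 1 ∧ Commute a e
  · obtain ⟨e, he, h1, h3⟩ := h0
    have c1 : ∀ y ∈ E, (a * e)⁻¹ * y * (a * e) = a⁻¹ * y * a := fun y hy => by
      calc (a * e)⁻¹ * y * (a * e) = e⁻¹ * (a⁻¹ * y * a * e) := by group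
        _ = _ := by rw [h.comm _ (ha y hy) e he, inv_mul_cancel_left]
    have c2 : (a * e) ^ s = e := by
      obtain ⟨k, hk⟩ := hs.odd_of_ne_two h2
      rw [h3.mul_pow, has, one_mul, hk, pow_succ, pow_mul, h.pow e he, one_pow, one_mul]
    obtain ⟨W, a1, -, a2, a3⟩ := fr_St h (g := a * e) (fun y hy => c1 y hy ▸ ha y hy) hs hsp h2
      (fun y hy => by rw [c2, h.comm e he y hy]) hx (fun h4 => hc' (by
        rw [c1 x hx] at h4
        have h5 := h4.mul_left (show Commute e⁻¹ _ from h.comm _ (inv_mem he) _ (mul_mem (ha x hx) (inv_mem hx)))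
        rwa [mul_inv_cancel_right] at h5)) (c2.symm ▸ he)
    rw [c2] at a2 a3
    rw [hd e he h1] at a3
    have a4 := hW W a1
    have a5 := Nat.mul_le_mul_right (finrank (KK p) (Fx p (W : Set (YY D p))) + 8) (a2 h1)
    refine ⟨e, he, h3, ?_⟩
    generalize finrank (KK p) (Fx p (W : Set (YY D p))) = δ at a3 a4 a5
    have a6 : δ ≤ 43 := by omega
    nlinarith
  · have := Fintype.ofFinite E
    have := Fact.mk hs
    let τ : Function.End E := fun e => ⟨a⁻¹ * e * a, ha e e.2⟩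
    have hτ : ∀ (i : ℕ) (e : E), (((τ ^ i) e : E) : YY D p) = (a ^ i)⁻¹ * e * a ^ i := fun i e => by
      induction i with
      | zero => rw [pow_zero, pow_zero, inv_one, one_mul, mul_one]; rfl
      | succ i ih =>
        rw [pow_succ']
        show a⁻¹ * ((τ ^ i) e : E) * a = _
        rw [ih, pow_succ]
        group
    have b1 := Equiv.Perm.card_fixedPoints_modEq (f := τ) (p := s) (n := 1) (funext fun e => Subtype.ext (by
      rw [pow_one, hτ, has, inv_one, one_mul, mul_one]; rfl))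
    have b2 : ∃ x : τ.fixedPoints, ∀ y, y = x :=
      ⟨⟨1, Subtype.ext (show a⁻¹ * 1 * a = 1 by group)⟩, fun e => Subtype.ext (Subtype.ext (by
        by_contra b2
        exact h0 ⟨_, e.1.2, b2, comm_of_conj' (congrArg Subtype.val e.2)⟩))⟩
    replace b1 : 32 ≡ 1 [MOD s] := by
      rw [← h32, Nat.card_eq_fintype_card]
      refine b1.trans (Eq.mpr (congrArg (· ≡ 1 [MOD s]) ?_) Nat.ModEq.rfl)
      exact (@Fintype.card_eq_one_iff _ (_)).2 b2
    obtain rfl : s = 31 := (Nat.prime_dvd_prime_iff_eq hs (by norm_num)).1 ((Nat.modEq_iff_dvd' (by norm_num)).1 b1.symm)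
    obtain ⟨W, a1, a2, -, a3⟩ := fr_St h ha hs hsp h2 (fun y _ => by rw [has, one_mul, mul_one]) hx hc' (has ▸ one_mem _)
    rw [has, dd_one hp, hN] at a3
    have a4 := hW W a1
    have a5 := Nat.mul_le_mul_right (finrank (KK p) (Fx p (W : Set (YY D p))) + 8) a2
    exact ⟨1, one_mem _, Commute.one_right a, by rw [mul_one]; omega⟩

end Cfsg.Agent.N2.Ex.Loc
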