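import Cfsg.Agent.TH.Ex.Ab.NT
import Cfsg.Agent.TH.Ex.Ab.ZCMain
import Cfsg.Agent.N2.Ex.Cb.Cen

/-!
# N2, exceptional groups, the local case: boxes (helper75)

Frame of `DS/Nt` (`Ctx L H`, `Loc T H E r`).  Paper proofs: `notes/N2/exloc59.md` and the task texts.
-/

set_option autoImplicit false
set_option linter.unusedSectionVars false

namespace Cfsg.Agent.N2.Ex.Loc

open CoxeterSystem Cfsg Cfsg.Lie Cfsg.Lie.ChevalleyDatum
open Cfsg.Agent.ChevalleyStructure Cfsg.Agent.Nodes.RGDChev Cfsg.Agent.KFacts.RgdChevCoord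
open Cfsg.Agent.H469.Exc Cfsg.Agent.H316.U6 Cfsg.Agent.DS.Ex
open Cfsg.Agent.DS.Nt
open Cfsg.Agent.SB.Exc (XF)
open scoped commutatorElement

/-- [FixT] the finite group fixes only the centre of the Lie algebra -/
def BoxFixT : Prop := ∀ (D : ChevalleyDatum) (l : ℕ) (M : CoxeterMatrix (Fin l)) (hp : IsType D l M), Typ D →
  ∀ (p : ℕ) [Fact p.Prime], (D = chevF4 → p ≠ 2) → ∀ (q : ℕ) (K : Type) [Group K] (m : MData hp p q K),
    Module.finrank (KK p) (Fx p (Set.range m.ι)) ≤ 1 ∧ (D = chevE8 → Fx p (Set.range m.ι) = ⊥)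

/-- the vectors fixed by `E` are fixed by `J z` -/
def FJ {D : ChevalleyDatum} {l : ℕ} {M : CoxeterMatrix (Fin l)} (hp : IsType D l M) (p : ℕ) [Fact p.Prime] (r : ℕ)
    (i : Fin l) (J : YY D p → Subgroup (YY D p)) : Prop :=
  ∀ s, Lp p s → ∀ E : Subgroup (YY D p), EA p r E → NoL p E s → ∀ z ∈ E, z ∈ Om hp p r i →
    ¬ E ≤ Subgroup.centralizer (J z : Set (YY D p)) → ∀ j ∈ J z, ∀ v ∈ Fx p (E : Set (YY D p)), ad D p j v = v

/-- [FJ2] `BoxJ2` with `FJ` -/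
def BoxFJ2 : Prop := ∀ (D : ChevalleyDatum) (l : ℕ) (M : CoxeterMatrix (Fin l)) (hp : IsType D l M) (p : ℕ)
  [Fact p.Prime], p ≠ 2 → ∀ i : Fin l, (D = chevF4 ∧ i.val = 3 ∨ D = chevE6 ∧ i.val = 1 ∨ D = chevE7 ∧ i.val = 0 ∨
    D = chevE8 ∧ i.val = 7) → ∃ J, JS hp p 2 i J ∧ FJ hp p 2 i J

/-- [FJ3] `BoxJ3` with `FJ` -/
def BoxFJ3 : Prop := ∀ (D : ChevalleyDatum) (l : ℕ) (M : CoxeterMatrix (Fin l)) (hp : IsType D l M) (p : ℕ)
  [Fact p.Prime], p ≠ 3 → ∀ i : Fin l, (D = chevE7 ∧ i.val = 2 ∨ D = chevE8 ∧ i.val = 6) →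
    ∃ J, JS hp p 3 i J ∧ FJ hp p 3 i J

/-- [E83] `E₈`: the quadratic form on the elements of order `3` of a torus -/
def BoxE83 : Prop := ∀ (p : ℕ) [Fact p.Prime], p ≠ 3 → ∀ x z : YY chevE8 p, Tp p x z → x ^ 3 = 1 → z ^ 3 = 1 →
  dd p x = 86 → dd p z = 86 → dd p (x * z) = 80 → dd p (x * z ^ 2) = 92

/-- [C7] `E₇`: the product of two involutions of a torus whose lifts have order `4` -/
def BoxC7 : Prop := ∀ (p : ℕ) [Fact p.Prime], p ≠ 2 → ∀ x y : YY chevE7 p, Tp p x y → x ^ 2 = 1 → y ^ 2 = 1 →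
  (dd p x = 63 ∨ dd p x = 79) → (dd p y = 63 ∨ dd p y = 79) → dd p (x * y) ≠ 63 ∧ dd p (x * y) ≠ 79

/-- [D4T] `E₆`: commuting elements of order `3` of `D₄ T₂` are toral -/
def BoxD4T : Prop := ∀ (p : ℕ) [Fact p.Prime], p ≠ 3 → ∀ x y y' : YY chevE6 p, x ^ 3 = 1 → y ^ 3 = 1 → y' ^ 3 = 1 →
  dd p x = 30 → y * y' = y' * y → Tp p x y → Tp p x y' → Tp p y y'

/-- `K` has an elementary abelian subgroup of order at least `n` -/
def HasEl (K : Type) [Group K] (r n : ℕ) : Prop :=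
  ∃ B : Subgroup K, (∀ x ∈ B, ∀ y ∈ B, x * y = y * x) ∧ (∀ x ∈ B, x ^ r = 1) ∧ n ≤ Nat.card B

/-- [Rk] toral subgroups of the finite group: `E₇`, `r = 2`, and `E₆`, `r = 3` in the split case -/
def BoxRk : Prop := ∀ (D : ChevalleyDatum) (l : ℕ) (M : CoxeterMatrix (Fin l)) (hp : IsType D l M) (p : ℕ) [Fact p.Prime]
  (q : ℕ) (G : Type) [Group G] [Finite G] (T : Subgroup G) (F : XF hp p q T),
    (D = chevE7 → p ≠ 2 → HasEl T 2 8) ∧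
    (D = chevE6 → p ≠ 3 → (∃ x y : T, x ^ 3 = 1 ∧ y ^ 3 = 1 ∧ x * y = y * x ∧ ¬ Tp p (F.L.ι x) (F.L.ι y)) →
      HasEl T 3 81 ∧ ∃ x : T, x ^ 3 = 1 ∧ dd p (F.L.ι x) = 36)

/-- `E` is a minimal normal elementary abelian `r`-subgroup for `H`, `A ≤ H` is normalised by `H`, and an element of `A`
induces an automorphism of order `r` on `E` -/
structure Irr {G : Type} [Group G] (H A E : Subgroup G) (r : ℕ) : Prop where
  pow : ∀ x ∈ E, x ^ r = 1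
  comm : ∀ x ∈ E, ∀ y ∈ E, x * y = y * x
  norm : H ≤ Subgroup.normalizer (E : Set G)
  min : ∀ E' : Subgroup G, E' ≤ E → H ≤ Subgroup.normalizer (E' : Set G) → E' = ⊥ ∨ E' = E
  le : A ≤ H
  nrm : ∀ h ∈ H, ∀ a ∈ A, h * a * h⁻¹ ∈ A
  ex : ∃ n ∈ A, n ∉ Subgroup.centralizer (E : Set G) ∧ n ^ r ∈ Subgroup.centralizer (E : Set G)

/-- [Reg] a regular unipotent element of `GL₃(3)` -/
def BoxReg : Prop := ∀ (G : Type) [Group G] [Finite G] (H A E : Subgroup G), Irr H A E 3 → Nat.card E = 27 →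
  ∃ n ∈ A, n ^ 3 ∈ Subgroup.centralizer (E : Set G) ∧ ∃ e ∈ E, ⁅n, ⁅n, e⁆⁆ ≠ 1

/-- [Odd] an element of odd prime order `≠ p` of `GL₅(2)` -/
def BoxOdd : Prop := ∀ (G : Type) [Group G] [Finite G] (H A E : Subgroup G), Irr H A E 2 → Nat.card E = 32 →
  ∀ p : ℕ, p.Prime → ∃ a ∈ A, ∃ s : ℕ, s.Prime ∧ s ≠ 2 ∧ s ≠ p ∧ a ∉ Subgroup.centralizer (E : Set G) ∧
    a ^ s ∈ Subgroup.centralizer (E : Set G)

end Cfsg.Agent.N2.Ex.Loc
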