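import Cfsg.Agent.DS.NT.Dim

/-!
# N2, exceptional groups, the local case: counting lemmas (helper75)

* `sum_le` : independent subspaces;
* `av` : the average of the fixed dimensions over a coset `n E`, `n` centralising `E`;
* `fr` : `g` permutes the weight spaces of `E` in orbits of length `1` or `s`;
* `three` : the fixed spaces of `n`, `n e`, `n e²` are independent if `e` has order `3` and no fixed vector.
-/

set_option autoImplicit false
set_option maxHeartbeats 400000

namespace Cfsg.Agent.N2.Ex.Loc.Lin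

open Module Finset Cfsg.Agent.DS.NT

section Gen

variable {K V : Type*} [Field K] [AddCommGroup V] [Module K V] [FiniteDimensional K V]

theorem sum_le {ι : Type*} [Fintype ι] (S : ι → Submodule K V) (W : Submodule K V) (hS : ∀ i, S i ≤ W)
    (h : ∀ v : ι → V, (∀ i, v i ∈ S i) → ∑ i, v i = 0 → ∀ i, v i = 0) : ∑ i, finrank K (S i) ≤ finrank K W := by
  classical
  let Φ : ((i : ι) → S i) →ₗ[K] W := LinearMap.codRestrict W (∑ i, (S i).subtype ∘ₗ LinearMap.proj i) fun v => by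
    rw [LinearMap.sum_apply]
    exact W.sum_mem fun i _ => hS i (v i).2
  rw [← Module.finrank_pi_fintype K]
  refine LinearMap.finrank_le_finrank_of_injective (f := Φ) ((injective_iff_map_eq_zero Φ).2 fun v hv => ?_)
  have h1 : ∑ i, ((v i : S i) : V) = 0 := by
    have h2 := congrArg Subtype.val hv
    rwa [LinearMap.codRestrict_apply, LinearMap.sum_apply] at h2
  exact funext fun i => Subtype.ext (h _ (fun i => (v i).2) h1 i)

theorem split_le (π : Module.End K V) (W : Submodule K V) (hW : ∀ v ∈ W, π v ∈ W) (A B : Submodule K V)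
    (hA : ∀ v, π v ∈ A) (hB : ∀ v, v - π v ∈ B) : finrank K W ≤ finrank K ↥(W ⊓ A) + finrank K ↥(W ⊓ B) := by
  rw [← Submodule.finrank_sup_add_finrank_inf_eq]
  refine le_trans (Submodule.finrank_mono fun v hv => ?_) (Nat.le_add_right _ _)
  rw [← add_sub_cancel (π v) v]
  exact Submodule.add_mem_sup ⟨hW v hv, hA v⟩ ⟨W.sub_mem hv (hW v hv), hB v⟩

end Gen

theorem exists_lab {X : Type*} (τ : X → X) {s : ℕ} (hs : s.Prime) (h : ∀ x, τ^[s] x = x) :
    ∃ f : X → ZMod s, ∀ x, τ x ≠ x → f (τ x) = f x + 1 := by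
  classical
  let R : Setoid X := ⟨fun x y => ∃ i, τ^[i] x = y, fun x => ⟨0, rfl⟩, by
    rintro x _ ⟨i, rfl⟩
    refine ⟨(s - 1) * i, ?_⟩
    rw [← Function.iterate_add_apply, show (s - 1) * i + i = s * i by
      rw [Nat.sub_one_mul, Nat.sub_add_cancel (Nat.le_mul_of_pos_left i hs.pos)], Function.iterate_mul]
    exact Function.iterate_fixed (h x) i, by
    rintro x _ _ ⟨i, rfl⟩ ⟨j, rfl⟩
    exact ⟨j + i, Function.iterate_add_apply τ j i x⟩⟩
  have hex : ∀ x, ∃ i, τ^[i] (Quotient.mk R x).out = x := fun x => Quotient.mk_out (s := R) x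
  choose i hi using hex
  refine ⟨fun x => (i x : ZMod s), fun x hx => ?_⟩
  have e : Quotient.mk R (τ x) = Quotient.mk R x := (Quotient.sound (s := R) ⟨1, rfl⟩).symm
  have h1 := hi (τ x)
  rw [e] at h1
  have h2 : τ^[i x + 1] (Quotient.mk R x).out = τ x := by rw [Function.iterate_succ_apply', hi]
  generalize (Quotient.mk R x).out = y at h1 h2 hi
  have h3 : Function.minimalPeriod τ y = s := by
    refine ((Nat.dvd_prime hs).1 (Function.IsPeriodicPt.minimalPeriod_dvd (h y))).resolve_left fun h4 => hx ?_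
    have h5 : τ y = y := Function.minimalPeriod_eq_one_iff_isFixedPt.1 h4
    have h6 : τ x = y := by rw [← h2, Function.iterate_fixed h5]
    have h7 := h x
    obtain ⟨k, rfl⟩ := Nat.exists_eq_succ_of_ne_zero hs.ne_zero
    rw [Function.iterate_succ_apply, h6, Function.iterate_fixed h5] at h7
    rw [h6, h7]
  have h4 : i (τ x) % s = (i x + 1) % s := by
    have h5 := h1.trans h2.symm
    rw [← Function.iterate_mod_minimalPeriod_eq, ← Function.iterate_mod_minimalPeriod_eq (n := i x + 1), h3] at h5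
    exact (Function.iterate_eq_iterate_iff_of_lt_minimalPeriod ((Nat.mod_lt _ hs.pos).trans_eq h3.symm)
      ((Nat.mod_lt _ hs.pos).trans_eq h3.symm)).1 h5
  show ((i (τ x) : ℕ) : ZMod s) = (i x : ZMod s) + 1
  rw [← Nat.cast_succ]
  exact (ZMod.natCast_eq_natCast_iff' _ _ _).2 h4

section Wt

variable {K V P κ : Type*} [Field K] [AddCommGroup V] [Module K V] [Fintype κ] (b : Basis κ K V)

theorem repr_diag {f : Module.End K V} {c : κ → K} (h : ∀ j, f (b j) = c j • b j) (v : V) (j : κ) :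
    b.repr (f v) j = c j * b.repr v j := by
  classical
  conv_lhs => rw [← b.sum_repr v]
  simp only [map_sum, map_smul, h, Basis.repr_self, Finsupp.smul_single, smul_eq_mul, mul_one, Finsupp.finsetSum_apply,
    Finsupp.single_apply]
  rw [sum_ite_eq', if_pos (mem_univ j), mul_comm]

theorem diag_eq {f f' : Module.End K V} {c c' : κ → K} (h : ∀ j, f (b j) = c j • b j) (h' : ∀ j, f' (b j) = c' j • b j)
    (v : V) : f v = f' v ↔ ∀ j, c j ≠ c' j → b.repr v j = 0 := by
  rw [← b.repr.injective.eq_iff, Finsupp.ext_iff]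
  refine forall_congr' fun j => ?_
  rw [repr_diag b h, repr_diag b h', mul_eq_mul_right_iff, or_iff_not_imp_left]

theorem diag_smul {f : Module.End K V} {c : κ → K} (h : ∀ j, f (b j) = c j • b j) (a : K) (v : V) :
    f v = a • v ↔ ∀ j, c j ≠ a → b.repr v j = 0 :=
  diag_eq b (f' := a • LinearMap.id) h (fun _ => rfl) v

end Wt

variable {K V G : Type*} [Field K] [IsAlgClosed K] [AddCommGroup V] [Module K V] [FiniteDimensional K V] [Group G]
  (ρ : G →* Module.End K V) {E : Subgroup G} {r : ℕ}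

open Classical in
/-- **(AV)** -/
theorem av [Fintype E] (hr : r.Prime) (hK : (r : K) ≠ 0) (hc : ∀ x ∈ E, ∀ y ∈ E, x * y = y * x) (hx : ∀ x ∈ E, x ^ r = 1)
    {n : G} (hn : ∀ e ∈ E, n * e = e * n) {N : ℕ} (hN : (N : K) ≠ 0) (hnN : n ^ N = 1) (F : Submodule K V)
    (hF : ∀ v, v ∈ F ↔ ρ n v = v ∧ ∀ e ∈ E, ρ e v = v) :
    r * ∑ e : E, ev ρ (n * e) 1 + Fintype.card E * finrank K F ≤
      Fintype.card E * (ev ρ (n ^ r) 1 + r * finrank K F) := by
  let n' : Subgroup.zpowers n := ⟨n, Subgroup.mem_zpowers n⟩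
  let φ : ↥(Subgroup.zpowers n) × ↥E →* G := MonoidHom.noncommCoprod (Subgroup.subtype _) E.subtype (by
    rintro ⟨_, k, rfl⟩ e
    exact (show Commute n e from hn e e.2).zpow_left k)
  have hcm : ∀ x y : ↥(Subgroup.zpowers n) × ↥E, x * y = y * x := fun x y =>
    Prod.ext (mul_comm' _ _) (Subtype.ext (hc _ x.2.2 _ y.2.2))
  obtain ⟨κ, _, b, χ, hχ⟩ := H234.HT.exists_basis (ρ.comp φ) (fun x y => by rw [← map_mul, hcm, map_mul])
    (N := N * r) (by rw [Nat.cast_mul]; exact mul_ne_zero hN hK) (by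
      rintro ⟨⟨_, k, rfl⟩, e⟩
      refine Prod.ext (Subtype.ext ?_) (Subtype.ext ?_)
      · show (n ^ k) ^ (N * r) = 1
        rw [← zpow_natCast, ← zpow_mul, mul_comm, zpow_mul, zpow_natCast, pow_mul, hnN, one_pow, one_zpow]
      · show (e : G) ^ (N * r) = 1
        rw [mul_comm, pow_mul, hx e e.2, one_pow])
  have h1 : ∀ j, ρ n (b j) = χ j (n', 1) • b j := fun j => by
    rw [← hχ]
    show _ = ρ (n * 1) (b j)
    rw [mul_one]
  have h2 : ∀ (e : E) j, ρ e (b j) = χ j (1, e) • b j := fun e j => by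
    rw [← hχ]
    show _ = ρ (1 * e) (b j)
    rw [one_mul]
  let χ' : κ → E →* K := fun j =>
    { toFun := fun e => χ j (1, e)
      map_one' := smul_left_injective K (b.ne_zero j) (by
        change χ j (1, 1) • b j = (1 : K) • b j
        rw [← h2, Subgroup.coe_one, map_one, one_smul, Module.End.one_apply])
      map_mul' := fun x y => smul_left_injective K (b.ne_zero j) (by
        change χ j (1, x * y) • b j = (χ j (1, x) * χ j (1, y)) • b j
        rw [← h2, Subgroup.coe_mul, map_mul, Module.End.mul_apply, h2, map_smul, h2, smul_smul, mul_comm]) }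
  have e1 : ∀ e : E, ev ρ (n * e) 1 = #{j | χ j (n', 1) * χ' j e = 1} := fun e =>
    finrank_eq_card_of_basis b _ _ fun v => Module.End.mem_eigenspace_iff.trans (diag_smul b (fun j => by
      rw [map_mul, Module.End.mul_apply, h2, map_smul, h1, smul_smul, mul_comm]
      rfl) 1 v)
  have e2 : ev ρ (n ^ r) 1 = #{j | χ j (n', 1) ^ r = 1} :=
    finrank_eq_card_of_basis b _ _ fun v => Module.End.mem_eigenspace_iff.trans (diag_smul b (fun j => by
      rw [map_pow]
      exact Module.End.HasEigenvector.pow_apply ⟨Module.End.mem_eigenspace_iff.2 (h1 j), b.ne_zero j⟩ r) 1 v)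
  have e3 : finrank K F = #{j | χ j (n', 1) = 1 ∧ ∀ e, χ' j e = 1} := by
    refine finrank_eq_card_of_basis b _ _ fun v => ?_
    rw [hF]
    constructor
    · rintro ⟨a1, a2⟩ j hj
      by_cases h3 : χ j (n', 1) = 1
      · obtain ⟨e, he⟩ := not_forall.1 fun h => hj ⟨h3, h⟩
        exact (diag_smul b (h2 e) 1 v).1 (by rw [one_smul, a2 e e.2]) j he
      · exact (diag_smul b h1 1 v).1 (by rw [one_smul, a1]) j h3
    · intro h
      exact ⟨((diag_smul b h1 1 v).2 fun j hj => h j fun h3 => hj h3.1).trans (one_smul K v), fun e he =>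
        ((diag_smul b (h2 ⟨e, he⟩) 1 v).2 fun j hj => h j fun h3 => hj (h3.2 _)).trans (one_smul K v)⟩
  simp only [e1, e2, e3, card_filter]
  rw [sum_comm, mul_sum, mul_sum, mul_sum, ← sum_add_distrib, ← sum_add_distrib, mul_sum]
  refine sum_le_sum fun j _ => ?_
  rw [← card_filter]
  by_cases h3 : ∀ e, χ' j e = 1
  · by_cases h4 : χ j (n', 1) = 1
    · simp only [h3, h4, mul_one, one_pow, implies_true, and_self, if_true, filter_true, card_univ]
      nlinarith
    · simp [h3, h4]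
  · rw [if_neg fun h : _ ∧ _ => h3 h.2, mul_zero, mul_zero, add_zero, add_zero]
    rcases (univ.filter fun e : E => χ j (n', 1) * χ' j e = 1).eq_empty_or_nonempty with h4 | ⟨e₀, h4⟩
    · rw [h4, card_empty, mul_zero]
      exact Nat.zero_le _
    · have h5 := (mem_filter.1 h4).2
      have h6 : χ j (n', 1) ^ r = 1 := by
        have h7 := congrArg (· ^ r) h5
        simp only [mul_pow, one_pow] at h7
        rwa [← map_pow, show e₀ ^ r = 1 from Subtype.ext (hx _ e₀.2), map_one, mul_one] at h7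
      rw [if_pos h6, mul_one, ← card_ker_char hr (fun x : E => Subtype.ext (hx _ x.2)) (χ' j).toHomUnits fun h =>
        h3 fun e => congrArg (fun f : E →* Kˣ => (f e : K)) h]
      refine Nat.mul_le_mul_left _ ?_
      rw [Nat.card_eq_fintype_card, Fintype.card_subtype]
      refine card_le_card_of_injOn (fun e => e₀⁻¹ * e) (fun e he => ?_) fun a _ a' _ h => mul_left_cancel h
      simp only [coe_filter, mem_univ, true_and, Set.mem_ofPred_eq, MonoidHom.mem_ker] at he ⊢
      refine Units.ext ?_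
      have h7 : χ' j e₀ = χ' j e := mul_left_cancel₀ (left_ne_zero_of_mul_eq_one h5) (h5.trans he.symm)
      have h8 : χ' j e₀ * χ' j (e₀⁻¹ * e) = χ' j e₀ * 1 := by rw [← map_mul, mul_inv_cancel_left, h7, mul_one]
      exact mul_left_cancel₀ (right_ne_zero_of_mul_eq_one h5) h8

open Classical in
/-- **(FR)** -/
theorem fr (hK : (r : K) ≠ 0) (hc : ∀ x ∈ E, ∀ y ∈ E, x * y = y * x) (hx : ∀ x ∈ E, x ^ r = 1) {g : G}
    (hg : ∀ e ∈ E, g⁻¹ * e * g ∈ E) {s : ℕ} (hs : s.Prime) (hsK : (s : K) ≠ 0) (hgs : ∀ e ∈ E, g ^ s * e = e * g ^ s)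
    (A : Submodule K V) (hA : ∀ v, v ∈ A ↔ ∀ e ∈ E, ρ (g⁻¹ * e * g) v = ρ e v) :
    s * ev ρ g 1 + finrank K ↥(Module.End.eigenspace (ρ (g ^ s)) 1 ⊓ A) ≤
      ev ρ (g ^ s) 1 + s * finrank K ↥(Module.End.eigenspace (ρ g) 1 ⊓ A) := by
  obtain ⟨κ, _, b, χ, hχ⟩ := H234.HT.exists_basis (ρ.comp E.subtype) (fun x y => by
    rw [← map_mul, show x * y = y * x from Subtype.ext (hc _ x.2 _ y.2), map_mul]) hK fun x => Subtype.ext (hx _ x.2)
  replace hχ : ∀ (e : E) j, ρ e (b j) = χ j e • b j := hχ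
  let c : E → E := fun e => ⟨g⁻¹ * e * g, hg e e.2⟩
  let τ : (E → K) → (E → K) := fun x e => x (c e)
  have hci : ∀ (i : ℕ) (e : E), ((c^[i] e : E) : G) = (g ^ i)⁻¹ * e * g ^ i := fun i e => by
    induction i with
    | zero => simp
    | succ i ih =>
      rw [Function.iterate_succ_apply']
      show g⁻¹ * ((c^[i] e : E) : G) * g = _
      rw [ih, pow_succ]
      group
  have hτi : ∀ (i : ℕ) (x : E → K) e, τ^[i] x e = x (c^[i] e) := fun i => by
    induction i with
    | zero => exact fun _ _ => rfl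
    | succ i ih => exact fun x e => by rw [Function.iterate_succ_apply', Function.iterate_succ_apply]; exact ih x (c e)
  have hτ : ∀ x, τ^[s] x = x := fun x => funext fun e => by
    rw [hτi, show c^[s] e = e from Subtype.ext (by rw [hci, mul_assoc, ← hgs e e.2, inv_mul_cancel_left])]
  have hτj : ∀ x, τ (τ x) = τ x ↔ τ x = x := fun x => ⟨fun h => by
    obtain ⟨k, rfl⟩ := Nat.exists_eq_succ_of_ne_zero hs.ne_zero
    have h1 := hτ x
    rw [Function.iterate_succ_apply, Function.iterate_fixed h] at h1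
    exact h1, fun h => by rw [h, h]⟩
  obtain ⟨f, hf⟩ := exists_lab τ hs hτ
  have : NeZero (s : K) := ⟨hsK⟩
  have : NeZero s := ⟨hs.ne_zero⟩
  obtain ⟨ζ, hζ⟩ := HasEnoughRootsOfUnity.exists_primitiveRoot K s
  have hζ0 : ζ ≠ 0 := hζ.ne_zero hs.ne_zero
  -- diagonal maps given by functions of the weight
  obtain ⟨dg, hdg⟩ : ∃ dg : ((E → K) → K) → Module.End K V, ∀ d j, dg d (b j) = d (χ j) • b j :=
    ⟨fun d => b.constr K fun j => d (χ j) • b j, fun d j => b.constr_basis K _ j⟩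
  have hwt : ∀ d (x : E → K) v, (∀ e : E, ρ e v = x e • v) → dg d v = d x • v := fun d x v hv =>
    (diag_smul b (hdg d) _ v).2 fun j hj => by
      obtain ⟨e, he⟩ := Function.ne_iff.1 fun h : χ j = x => hj (by rw [h])
      exact (diag_smul b (hχ e) _ v).1 (hv e) j he
  have hgb : ∀ d j, dg d (ρ g (b j)) = d (τ (χ j)) • ρ g (b j) := fun d j => hwt d _ _ fun e => by
    have h1 := congrArg (ρ g) (hχ (c e) j)
    rw [map_smul, ← Module.End.mul_apply, ← map_mul] at h1
    rw [← h1, ← Module.End.mul_apply, ← map_mul]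
    congr 2
    show (e : G) * g = g * (g⁻¹ * e * g)
    group
  have hτc : ∀ x e, τ x e = x (c e) := fun _ _ => rfl
  have hcc : ∀ e, ((c e : E) : G) = g⁻¹ * e * g := fun _ => rfl
  clear_value τ c
  obtain ⟨π, hπ1, hπ2⟩ : ∃ π : Module.End K V, (∀ j, π (b j) = (if τ (χ j) = χ j then (1 : K) else 0) • b j) ∧
      ∀ j, π (ρ g (b j)) = (if τ (χ j) = χ j then (1 : K) else 0) • ρ g (b j) :=
    ⟨dg fun x => if τ x = x then 1 else 0, hdg _, fun j => by simp only [hgb, hτj]⟩
  obtain ⟨Dm, hD1, hD2⟩ : ∃ Dm : Module.End K V,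
      (∀ j, Dm (b j) = (if τ (χ j) = χ j then (1 : K) else ζ⁻¹ ^ (f (χ j)).val) • b j) ∧
      ∀ j, Dm (ρ g (b j)) = (if τ (χ j) = χ j then (1 : K) else ζ⁻¹ ^ (f (τ (χ j))).val) • ρ g (b j) :=
    ⟨dg fun x => if τ x = x then 1 else ζ⁻¹ ^ (f x).val, hdg _, fun j => by simp only [hgb, hτj]⟩
  clear hgb hwt hdg dg
  have hπg : ∀ v, π (ρ g v) = ρ g (π v) := fun v => by
    refine LinearMap.congr_fun (f := π ∘ₗ ρ g) (g := ρ g ∘ₗ π) (b.ext fun j => ?_) v
    simp only [LinearMap.comp_apply, hπ1, hπ2, map_smul]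
  have hAr : ∀ v, v ∈ A ↔ ∀ j, τ (χ j) ≠ χ j → b.repr v j = 0 := fun v => by
    rw [hA]
    constructor
    · intro h j hj
      obtain ⟨e, he⟩ := Function.ne_iff.1 hj
      exact (diag_eq b (hχ (c e)) (hχ e) v).1 (by rw [hcc, h e e.2]) j (by rwa [hτc] at he)
    · intro h e he
      have h2 := (diag_eq b (hχ (c ⟨e, he⟩)) (hχ ⟨e, he⟩) v).2 fun j hj => h j fun h1 => hj ((hτc _ _).symm.trans (congrFun h1 _))
      rwa [hcc] at h2
  obtain ⟨U, hU⟩ : ∃ U : Submodule K V, ∀ v, v ∈ U ↔ π v = 0 := ⟨LinearMap.ker π, fun _ => Iff.rfl⟩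
  have hUr : ∀ v, v ∈ U ↔ ∀ j, τ (χ j) = χ j → b.repr v j = 0 := fun v => by
    rw [hU, ← zero_smul K v, diag_smul b hπ1]
    exact forall_congr' fun j => by by_cases h : τ (χ j) = χ j <;> simp [h]
  have hπA : ∀ v, π v ∈ A := fun v => (hAr _).2 fun j hj => by rw [repr_diag b hπ1, if_neg hj, zero_mul]
  have hπU : ∀ v, v - π v ∈ U := fun v => (hUr _).2 fun j hj => by
    rw [map_sub, Finsupp.sub_apply, repr_diag b hπ1, if_pos hj, one_mul, sub_self]
  have hDU : ∀ v ∈ U, Dm v ∈ U := fun v hv => (hUr _).2 fun j hj => by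
    rw [repr_diag b hD1, (hUr v).1 hv j hj, mul_zero]
  have hDi : Function.Injective Dm := (injective_iff_map_eq_zero Dm).2 fun v hv => b.repr.injective (Finsupp.ext fun j => by
    have h1 := repr_diag b hD1 v j
    rw [hv, map_zero] at h1
    rw [map_zero]
    refine (mul_eq_zero.1 h1.symm).resolve_left ?_
    split_ifs
    exacts [one_ne_zero, pow_ne_zero _ (inv_ne_zero hζ0)])
  have hDg : ∀ v ∈ U, ρ g (Dm v) = ζ • Dm (ρ g v) := fun v hv => by
    have h1 : (ρ g ∘ₗ Dm) ∘ₗ (1 - π) = ζ • (Dm ∘ₗ ρ g) ∘ₗ (1 - π) := b.ext fun j => by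
      by_cases h : τ (χ j) = χ j
      · simp only [LinearMap.comp_apply, LinearMap.smul_apply, LinearMap.sub_apply, Module.End.one_apply, hπ1, if_pos h,
          one_smul, sub_self, map_zero, smul_zero]
      · simp only [LinearMap.comp_apply, LinearMap.smul_apply, LinearMap.sub_apply, Module.End.one_apply, hπ1, hD1, hD2,
          if_neg h, zero_smul, sub_zero, map_smul, smul_smul, hf _ h]
        congr 1
        have h2 : ζ⁻¹ ^ s = 1 := hζ.inv.pow_eq_one
        have : Fact (1 < s) := ⟨hs.one_lt⟩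
        rw [ZMod.val_add, ← pow_eq_pow_mod _ h2, ZMod.val_one, pow_succ', mul_inv_cancel_left₀ hζ0]
    have h2 := LinearMap.congr_fun h1 v
    simpa only [LinearMap.comp_apply, LinearMap.smul_apply, LinearMap.sub_apply, Module.End.one_apply,
      (hU v).1 hv, sub_zero] using h2
  have hpow : ∀ (i : ℕ), ∀ v ∈ Module.End.eigenspace (ρ g) 1 ⊓ U, (Dm ^ i) v ∈ Module.End.eigenspace (ρ g) (ζ ^ i) ⊓ U := by
    intro i v hv
    induction i with
    | zero => rwa [pow_zero, pow_zero]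
    | succ i ih =>
      rw [pow_succ' Dm, Module.End.mul_apply]
      refine ⟨Module.End.mem_eigenspace_iff.2 ?_, hDU _ ih.2⟩
      rw [hDg _ ih.2, Module.End.mem_eigenspace_iff.1 ih.1, map_smul, smul_smul, pow_succ']
  have hgp : ∀ (a : K) (v : V), ρ g v = a • v → ∀ i : ℕ, ρ (g ^ i) v = a ^ i • v := fun a v hv i => by
    induction i with
    | zero => rw [pow_zero, pow_zero, map_one, one_smul, Module.End.one_apply]
    | succ i ih => rw [pow_succ, map_mul, Module.End.mul_apply, hv, map_smul, ih, smul_smul, pow_succ']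
  have a1 := split_le π (Module.End.eigenspace (ρ g) 1) (fun v hv => Module.End.mem_eigenspace_iff.2 (by
    rw [← hπg, Module.End.mem_eigenspace_iff.1 hv, map_smul])) A U hπA hπU
  have a2 := sum_le (fun i : Fin s => (Module.End.eigenspace (ρ g) 1 ⊓ U).map (Dm ^ (i : ℕ)))
    (Module.End.eigenspace (ρ (g ^ s)) 1 ⊓ U) (by
      rintro i _ ⟨v, hv, rfl⟩
      refine ⟨Module.End.mem_eigenspace_iff.2 ?_, (hpow i v hv).2⟩
      rw [hgp _ _ (Module.End.mem_eigenspace_iff.1 (hpow i v hv).1), ← pow_mul, mul_comm, pow_mul, hζ.pow_eq_one, one_pow])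
    fun v hv h0 i => (iSupIndep_iff_finsetSum_eq_zero_imp_eq_zero _).1
      ((ρ g).eigenspaces_iSupIndep.comp (f := fun i : Fin s => ζ ^ (i : ℕ)) fun i j h =>
        Fin.ext (hζ.pow_inj i.2 j.2 h)) univ v (fun i _ => by
          obtain ⟨w, hw, h1⟩ := hv i
          exact h1 ▸ (hpow i w hw).1) h0 i (mem_univ i)
  have a3 : ∀ i : Fin s, finrank K ↥((Module.End.eigenspace (ρ g) 1 ⊓ U).map (Dm ^ (i : ℕ))) =
      finrank K ↥(Module.End.eigenspace (ρ g) 1 ⊓ U) := fun i =>
    (Submodule.equivMapOfInjective _ (by rw [Module.End.coe_pow]; exact hDi.iterate i) _).finrank_eq.symm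
  simp only [a3, sum_const, card_univ, Fintype.card_fin, smul_eq_mul] at a2
  have a4 : finrank K ↥(Module.End.eigenspace (ρ (g ^ s)) 1 ⊓ U) + finrank K ↥(Module.End.eigenspace (ρ (g ^ s)) 1 ⊓ A) ≤
      ev ρ (g ^ s) 1 := by
    rw [← Submodule.finrank_sup_add_finrank_inf_eq, Submodule.finrank_eq_zero.2 (eq_bot_iff.2 fun v hv =>
      b.repr.injective (Finsupp.ext fun j => by
        rw [map_zero]
        by_cases h : τ (χ j) = χ j
        exacts [(hUr v).1 hv.1.2 j h, (hAr v).1 hv.2.2 j h]) : _ ⊓ _ = ⊥), add_zero]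
    exact Submodule.finrank_mono (sup_le inf_le_left inf_le_left)
  have a5 := Nat.mul_le_mul_left s a1
  rw [mul_add] at a5
  unfold ev at a4 ⊢
  omega

omit [IsAlgClosed K] in
/-- the fixed spaces of `n`, `n e`, `n e²` on a subspace on which `n` and `e` commute -/
theorem three (h3 : (3 : K) ≠ 0) {n e : G} (he : e ^ 3 = 1) (A : Submodule K V)
    (hA : ∀ v ∈ A, ρ e v ∈ A) (hc : ∀ v ∈ A, ρ n⁻¹ (ρ e v) = ρ e (ρ n⁻¹ v)) (h0 : ∀ v ∈ A, ρ e v = v → v = 0) :
    ∑ i : Fin 3, finrank K ↥(Module.End.eigenspace (ρ (n * e ^ (i : ℕ))) 1 ⊓ A) ≤ finrank K A := by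
  refine sum_le _ A (fun _ => inf_le_right) fun v hv h1 => ?_
  have a : ∀ i : Fin 3, ρ n⁻¹ (v i) = ρ (e ^ (i : ℕ)) (v i) := fun i => by
    conv_lhs => rw [← one_smul K (v i), ← Module.End.mem_eigenspace_iff.1 (hv i).1]
    rw [← Module.End.mul_apply, ← map_mul, inv_mul_cancel_left]
  have e3 : ∀ w, ρ e (ρ e (ρ e w)) = w := fun w => by
    rw [← Module.End.mul_apply, ← Module.End.mul_apply, ← map_mul, ← map_mul, ← pow_three', he, map_one,
      Module.End.one_apply]
  have nm : ∀ w ∈ A, w + ρ e w + ρ e (ρ e w) = 0 := fun w hw =>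
    h0 _ (A.add_mem (A.add_mem hw (hA _ hw)) (hA _ (hA _ hw))) (by rw [map_add, map_add, e3]; abel)
  have a0 : ρ n⁻¹ (v 0) = v 0 := by simpa using a 0
  have a1 : ρ n⁻¹ (v 1) = ρ e (v 1) := by simpa using a 1
  have a2 : ρ n⁻¹ (v 2) = ρ e (ρ e (v 2)) := by simpa [pow_two] using a 2
  rw [Fin.sum_univ_three] at h1
  have b1 := congrArg (ρ n⁻¹) h1
  rw [map_add, map_add, map_zero, a0, a1, a2] at b1
  have b2 := congrArg (ρ n⁻¹) b1
  rw [map_add, map_add, map_zero, a0, hc _ (hv 1).2, a1, hc _ (hA _ (hv 2).2), hc _ (hv 2).2, a2, e3] at b2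
  have c0 : v 0 = 0 := by
    refine (smul_eq_zero.1 (show (3 : K) • v 0 = 0 from ?_)).resolve_left h3
    have d1 := nm _ (hv 1).2
    have d2 := nm _ (hv 2).2
    linear_combination (norm := module) h1 + b1 + b2 - d1 - d2
  rw [c0, zero_add] at h1 b1
  have c1 : v 2 = -v 1 := eq_neg_of_add_eq_zero_right h1
  rw [c1, map_neg, map_neg, ← sub_eq_add_neg, sub_eq_zero] at b1
  have c2 := h0 _ (hA _ (hv 1).2) b1.symm
  have c3 : v 1 = 0 := by rw [← e3 (v 1), c2, map_zero, map_zero]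
  intro i
  fin_cases i
  exacts [c0, c3, c1.trans (by rw [c3, neg_zero])]

end Cfsg.Agent.N2.Ex.Loc.Lin
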