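import Cfsg.Agent.N2.Ex.Defs
import Cfsg.Agent.N2.Ex.Loc.Defs
import Cfsg.Agent.N2.Ex.Loc.Lin

/-!
# N2, exceptional groups, the local case: tools (helper75)

* `sy` : an element of `H ⊓ T` induces an automorphism of order `r` on `E`, or `C_T(E)` is a Sylow subgroup of `T`;
* `dvd81`, `dvd14` : the orders; `gd_num` : the numerical criterion for all `q ≥ q₀`;
* `sum_dd`, `exists_av` : sums of `dd` over `E` and over its cosets.
-/

set_option autoImplicit false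
set_option linter.unusedSectionVars false

namespace Cfsg.Agent.N2.Ex.Loc

open CoxeterSystem Cfsg Cfsg.Lie Cfsg.Lie.ChevalleyDatum
open Cfsg.Agent.ChevalleyStructure Cfsg.Agent.Nodes.RGDChev Cfsg.Agent.KFacts.RgdChevCoord
open Cfsg.Agent.H469.Exc Cfsg.Agent.H316.U6 Cfsg.Agent.DS.Ex
open Cfsg.Agent.DS.Nt
open Cfsg.Agent.H931.KC (nmk)
open Cfsg.Agent.SB.Exc (XF nP dM ordU degs)
open Cfsg.Agent.SB.Exc.NT (exists_rp isPGroup_of_prime scale)
open Cfsg.Agent.H902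

section Grp

variable {G : Type} [Group G] [Finite G] {T H E : Subgroup G} {r : ℕ}

/-- the centraliser of `E` in `T` -/
abbrev CT (T E : Subgroup G) : Subgroup G := Subgroup.centralizer (E : Set G) ⊓ T

theorem le_CT (hL : DS.Loc T H E r) : E ≤ CT T E :=
  le_inf (fun c hc => Subgroup.mem_centralizer_iff.2 fun x hx => hL.comm x hx c hc) hL.le_S

theorem conj_E (hL : DS.Loc T H E r) {h e : G} (hh : h ∈ H) (he : e ∈ E) : h * e * h⁻¹ ∈ E :=
  (Subgroup.mem_normalizer_iff.1 (hL.norm.ge hh) e).1 he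

theorem conj_CT (hL : DS.Loc T H E r) {s x : G} (hs : s ∈ H) (hx : x ∈ CT T E) : s * x * s⁻¹ ∈ CT T E := by
  refine ⟨Subgroup.mem_centralizer_iff.2 fun e he => ?_, hL.normal.conj_mem _ hx.2 s⟩
  have h1 := Subgroup.mem_centralizer_iff.1 hx.1 _ (conj_E hL (inv_mem hs) he)
  calc e * (s * x * s⁻¹) = s * (s⁻¹ * e * s⁻¹⁻¹ * x) * s⁻¹ := by group
    _ = _ := by rw [h1]; group

theorem norm_CT (hL : DS.Loc T H E r) : Subgroup.normalizer (CT T E : Set G) = H := by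
  refine DS.Gen.normalizer_eq_of_setup hL.toSetup inf_le_right (fun h => hL.ne_bot (eq_bot_iff.2 (h ▸ le_CT hL)))
    (fun h => hL.ne_bot (eq_bot_iff.2 fun x hx => ?_)) (DS.Red.le_normalizer_of_conj fun s hs x hx => conj_CT hL hs hx)
  rw [← hL.cent]
  exact Subgroup.mem_centralizer_iff.2 fun y hy => (Subgroup.mem_centralizer_iff.1 (h.ge hy).1 x hx).symm

theorem CT_le (hL : DS.Loc T H E r) : CT T E ≤ H := norm_CT hL ▸ Subgroup.le_normalizer

theorem E_le (hL : DS.Loc T H E r) : E ≤ H := (le_CT hL).trans (CT_le hL)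

theorem irr_of (hL : DS.Loc T H E r)
    (h : ∃ n ∈ H ⊓ T, n ∉ Subgroup.centralizer (E : Set G) ∧ n ^ r ∈ Subgroup.centralizer (E : Set G)) :
    Irr H (H ⊓ T) E r :=
  ⟨hL.pow, hL.comm, hL.norm.ge, hL.min, inf_le_left,
    fun a ha _ hb => ⟨H.mul_mem (H.mul_mem ha hb.1) (H.inv_mem ha), hL.normal.conj_mem _ hb.2 a⟩, h⟩

/-- **(SY)** -/
theorem sy (hL : DS.Loc T H E r) (hP : IsPGroup r ↥(CT T E)) : Irr H (H ⊓ T) E r ∨
    ((∀ k, r ^ k ∣ Nat.card T → r ^ k ≤ Nat.card ↥(CT T E)) ∧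
      ∀ x : T, x ^ r = 1 → ∃ g : T, ((g * x * g⁻¹ : T) : G) ∈ CT T E) := by
  classical
  have := Fact.mk hL.prime
  have hR : IsPGroup r ((CT T E).subgroupOf T) := hP.of_equiv (Subgroup.subgroupOfEquivOfLe inf_le_right).symm
  obtain ⟨P, hP'⟩ := hR.exists_le_sylow
  by_cases h : (P : Subgroup T) ≤ (CT T E).subgroupOf T
  · refine Or.inr ⟨fun k hk => ?_, fun x hx => ?_⟩
    · rw [← Nat.card_congr (Subgroup.subgroupOfEquivOfLe (inf_le_right : CT T E ≤ T)).toEquiv]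
      exact (Nat.le_of_dvd Nat.card_pos (P.pow_dvd_card_of_pow_dvd_card hk)).trans (Subgroup.card_le_of_le h)
    · have h1 : IsPGroup r (Subgroup.zpowers x) := by
        rintro ⟨_, j, rfl⟩
        exact ⟨1, Subtype.ext (by
          show (x ^ j) ^ r ^ 1 = 1
          rw [pow_one, ← zpow_natCast, ← zpow_mul, mul_comm, zpow_mul, zpow_natCast, hx, one_zpow])⟩
      obtain ⟨Q, hQ⟩ := h1.exists_le_sylow
      obtain ⟨g, hg⟩ := MulAction.exists_smul_eq T Q P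
      refine ⟨g, Subgroup.mem_subgroupOf.1 (h ?_)⟩
      rw [← hg, Sylow.coe_subgroup_smul]
      exact Subgroup.smul_mem_pointwise_smul _ _ _ (hQ (Subgroup.mem_zpowers x))
  · have hnil := P.isPGroup'.isNilpotent
    have h1 := Group.normalizerCondition_of_isNilpotent (G := P) (((CT T E).subgroupOf T).subgroupOf P)
      (lt_top_iff_ne_top.2 fun e => h (Subgroup.subgroupOf_eq_top.1 e))
    obtain ⟨x, hx1, hx2⟩ := SetLike.exists_of_lt h1
    have hxH : ((x : T) : G) ∈ H := by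
      rw [← norm_CT hL]
      refine Subgroup.mem_normalizer_iff.2 fun y => ⟨fun hy => ?_, fun hy => ?_⟩
      · exact (Subgroup.mem_normalizer_iff.1 hx1 ⟨⟨y, hy.2⟩, hP' hy⟩).1 hy
      · have h2 := (Subgroup.mem_normalizer_iff.1 (inv_mem hx1) ⟨⟨_, hy.2⟩, hP' hy⟩).1 hy
        have h3 : ((x : T) : G)⁻¹ * (((x : T) : G) * y * ((x : T) : G)⁻¹) * ((x : T) : G)⁻¹⁻¹ ∈ CT T E := h2
        rwa [show ((x : T) : G)⁻¹ * (((x : T) : G) * y * ((x : T) : G)⁻¹) * ((x : T) : G)⁻¹⁻¹ = y by group] at h3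
    have hex : ∃ j, ((x : T) : G) ^ r ^ j ∈ Subgroup.centralizer (E : Set G) := by
      obtain ⟨j, hj⟩ := P.isPGroup' x
      refine ⟨j, ?_⟩
      have h2 : ((x : T) : G) ^ r ^ j = 1 := congrArg (fun y : P => ((y : T) : G)) hj
      rw [h2]
      exact one_mem _
    have h0 : Nat.find hex ≠ 0 := fun e => by
      have h2 := Nat.find_spec hex
      rw [e, pow_zero, pow_one] at h2
      exact hx2 ⟨h2, (x : T).2⟩
    obtain ⟨j, hj⟩ := Nat.exists_eq_succ_of_ne_zero h0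
    refine Or.inl (irr_of hL ⟨((x : T) : G) ^ r ^ j, pow_mem (Subgroup.mem_inf.2 ⟨hxH, (x : T).2⟩) _,
      Nat.find_min hex (by omega), ?_⟩)
    rw [← pow_mul, ← pow_succ, ← Nat.succ_eq_add_one, ← hj]
    exact Nat.find_spec hex

end Grp

/-! ### orders -/

theorem dvd_ev {a q : ℕ} (h : a ∣ q ^ 2 - 1) (k : ℕ) : a ∣ q ^ (2 * k) - 1 := by
  have h1 := Nat.sub_dvd_pow_sub_pow (q ^ 2) 1 k
  rw [one_pow, ← pow_mul] at h1
  exact h.trans h1

theorem three_dvd {q : ℕ} (h : ¬ 3 ∣ q) : 3 ∣ q ^ 2 - 1 ∧ 9 ∣ q ^ 6 - 1 := by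
  have h1 : q % 9 = 1 ∨ q % 9 = 2 ∨ q % 9 = 4 ∨ q % 9 = 5 ∨ q % 9 = 7 ∨ q % 9 = 8 := by omega
  have h2 : q ^ 6 % 9 = 1 := by rcases h1 with h | h | h | h | h | h <;> rw [Nat.pow_mod, h]
  have h3 : q % 3 = 1 ∨ q % 3 = 2 := by omega
  have h4 : q ^ 2 % 3 = 1 := by rcases h3 with h | h <;> rw [Nat.pow_mod, h]
  omega

theorem four_dvd {q : ℕ} (h : ¬ 2 ∣ q) : 4 ∣ q ^ 2 - 1 := by
  have h1 : q % 4 = 1 ∨ q % 4 = 3 := by omega
  have h2 : q ^ 2 % 4 = 1 := by rcases h1 with h | h <;> rw [Nat.pow_mod, h]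
  omega

variable {D : ChevalleyDatum} {l : ℕ} {M : CoxeterMatrix (Fin l)} {hp : IsType D l M} {p : ℕ} [Fact p.Prime]
  {G : Type} [Group G] [Finite G] {T H E : Subgroup G} {r f : ℕ} {tw : Bool}

theorem not_dvd_q (hr : r.Prime) (h : r ≠ p) : ¬ r ∣ p ^ f := fun h1 =>
  h ((Nat.prime_dvd_prime_iff_eq hr Fact.out).1 (hr.dvd_of_dvd_pow h1))

theorem as_of (h : DS.Setup T H) : TH.AS T := ⟨h.normal, h.simple, h.noncomm, h.cent⟩

theorem dvd81 {F : XF hp p (p ^ f) T} (C : NC tw f F H) (h3 : 3 ≠ p) (hD : D = chevF4 ∨ D = chevE6) :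
    3 ^ 4 ∣ Nat.card T := by
  obtain ⟨Y, hY, hd, -⟩ := TH.Ab.NT.exists_dat C.typ (as_of C.cx.setup) C.iso
  have h := hd.real.eq
  obtain ⟨a2, a6⟩ := three_dvd (not_dvd_q (f := f) Nat.prime_three h3)
  have a8 := dvd_ev a2 4
  have a12 := dvd_ev a2 6
  generalize p ^ f = q at h a2 a6 a8 a12
  have key : ∀ d, d ∣ 3 → 3 ^ 5 ∣ d * Nat.card T → 3 ^ 4 ∣ Nat.card T := fun d h1 h2 =>
    Nat.dvd_of_mul_dvd_mul_left (k := 3) (by norm_num) (h2.trans (Nat.mul_dvd_mul_right h1 _))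
  have a : 3 ^ 5 ∣ (q ^ 2 - 1) * (q ^ 6 - 1) * (q ^ 8 - 1) * (q ^ 12 - 1) :=
    (show 3 ^ 5 ∣ 3 * 9 * 3 * 3 by norm_num).trans (Nat.mul_dvd_mul (Nat.mul_dvd_mul (Nat.mul_dvd_mul a2 a6) a8) a12)
  rcases hD with e | e
  · obtain rfl := hY.1 e
    have h' : 1 * Nat.card T = q ^ 24 * ((q ^ 2 - 1) * (q ^ 6 - 1) * (q ^ 8 - 1) * (q ^ 12 - 1)) := h
    exact key 1 (one_dvd _) (h' ▸ a.mul_left _)
  · rcases hY.2.1 e with rfl | rfl
    · have h' : Nat.gcd 3 (q - 1) * Nat.card T = q ^ 36 * ((q ^ 2 - 1) * (q ^ 5 - 1) * (q ^ 6 - 1) * (q ^ 8 - 1) *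
        (q ^ 9 - 1) * (q ^ 12 - 1)) := h
      refine key _ (Nat.gcd_dvd_left 3 (q - 1)) ?_
      rw [h']
      exact a.trans ⟨q ^ 36 * (q ^ 5 - 1) * (q ^ 9 - 1), by ring⟩
    · have h' : Nat.gcd 3 (q + 1) * Nat.card T = q ^ 36 * ((q ^ 2 - 1) * (q ^ 5 + 1) * (q ^ 6 - 1) * (q ^ 8 - 1) *
        (q ^ 9 + 1) * (q ^ 12 - 1)) := h
      refine key _ (Nat.gcd_dvd_left 3 (q + 1)) ?_
      rw [h']
      exact a.trans ⟨q ^ 36 * (q ^ 5 + 1) * (q ^ 9 + 1), by ring⟩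

theorem dvd14 {F : XF hp p (p ^ f) T} (C : NC tw f F H) (h2 : 2 ≠ p) (hD : D = chevE8) : 2 ^ 14 ∣ Nat.card T := by
  obtain ⟨Y, hY, hd, -⟩ := TH.Ab.NT.exists_dat C.typ (as_of C.cx.setup) C.iso
  have h := hd.real.eq
  have a := dvd_ev (four_dvd (not_dvd_q (f := f) Nat.prime_two h2))
  generalize p ^ f = q at h a
  obtain rfl := hY.2.2.2 hD
  have h' : 1 * Nat.card T = q ^ 120 * ((q ^ 2 - 1) * (q ^ 8 - 1) * (q ^ 12 - 1) * (q ^ 14 - 1) * (q ^ 18 - 1) *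
    (q ^ 20 - 1) * (q ^ 24 - 1) * (q ^ 30 - 1)) := h
  rw [one_mul] at h'
  rw [h']
  exact Dvd.dvd.mul_left (Dvd.dvd.mul_right (Nat.mul_dvd_mul (Nat.mul_dvd_mul (Nat.mul_dvd_mul (Nat.mul_dvd_mul
    (Nat.mul_dvd_mul (Nat.mul_dvd_mul (a 1) (a 4)) (a 6)) (a 7)) (a 9)) (a 10)) (a 12)) _) _

theorem le_q {F : XF hp p (p ^ f) T} (C : NC tw f F H) : p ≤ p ^ f :=
  Nat.le_self_pow C.iso.1.ne' p

/-- the numerical criterion for all `q ≥ q₀` -/
theorem gd_num {q : ℕ} (F : XF hp p q T) {a : T} (ha : (a : G) ∈ H) (ho : (orderOf a).Coprime p) {k n c q₀ : ℕ}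
    (hk : dd p (F.L.ι a) ≤ l + k) (hn : Nat.card ↥(H ⊓ T) ≤ n) (hc : nmk D l ≤ c) (h0 : 0 < q₀) (hq : q₀ ≤ q)
    (hd : 3 * k + 3 * l ≤ nP l + (degs l).sum)
    (h : dM l * c ^ 3 * n * (q₀ ^ (3 * k) * (q₀ + 1) ^ (3 * l)) ≤ ordU l q₀) : Gd T H := by
  refine gd_of_dd F ha ho hk hn (le_trans ?_ (scale h0 hq hd h))
  calc dM l * ((nmk D l * (q ^ k * (q + 1) ^ l)) ^ 3 * n) ≤ dM l * ((c * (q ^ k * (q + 1) ^ l)) ^ 3 * n) := by gcongr
    _ = _ := by ring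

variable {L : Lift hp p T}

theorem cen0 (N : DS.Nt.Ctx L H) (hL : DS.Loc T H E r) (hE : EA p r (im L E)) (h : OutA L E r) :
    ∀ y : YY D p, (∀ e ∈ im L E, y * e = e * y) → ∀ m : ℕ, r.Coprime m → y ^ m = 1 → y = 1 := by
  obtain ⟨⟨A, hA, hT, hF⟩, -⟩ := h
  have hI : L.Inv H (im L E) := inv_im hL.normal hL.norm.ge
  obtain ⟨B, h1, h2⟩ := exists_rp hp (hE.mono hA).el hA hT hF
  have h3 := N.noT B h1 fun φ hφ y hy => by
    obtain ⟨a1, m, a2, a3⟩ := (h2 y).1 hy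
    exact (h2 _).2 ⟨fun e he => comm_app φ (a1 _ (hI φ⁻¹ (π_inv hφ) e he)), m, a2, by rw [← map_pow, a3, map_one]⟩
  exact fun y a1 m a2 a3 => Subgroup.mem_bot.1 (h3.le ((h2 y).2 ⟨a1, m, a2, a3⟩))

theorem cen_p (N : DS.Nt.Ctx L H) (hL : DS.Loc T H E r) (hE : EA p r (im L E)) (h : OutA L E r) :
    IsPGroup r ↥(CT T E) := by
  have h0 := cen0 N hL hE h
  refine isPGroup_of_prime fun x hx => ?_
  by_contra h7
  obtain ⟨y, hy⟩ : ∃ y : T, (y : G) = (x : G) := ⟨⟨x.1, x.2.2⟩, rfl⟩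
  have h9 : (x : G) ^ orderOf x = 1 := congrArg Subtype.val (pow_orderOf_eq_one x)
  have h8 := h0 (L.ι y) (fun e he => ι_comm (hy ▸ x.2.1) he) _ ((Nat.coprime_primes hL.prime hx).2 (Ne.symm h7)) (by
    rw [← map_pow, show y ^ orderOf x = 1 from Subtype.ext (by rw [Subgroup.coe_pow, hy]; exact h9), map_one])
  rw [← map_one L.ι] at h8
  rw [show x = 1 from Subtype.ext (hy.symm.trans (congrArg Subtype.val (L.inj h8))), orderOf_one] at hx
  exact Nat.not_prime_one hx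

theorem cop_of_pow {X : Type*} [Group X] {x : X} {n : ℕ} (hx : x ^ n = 1) (h : n.Coprime p) : (orderOf x).Coprime p :=
  h.coprime_dvd_left (orderOf_dvd_of_pow_eq_one hx)

/-- **(D1)** for a subgroup of `Y` with two kinds of elements -/
theorem two_eq (hp : IsType D l M) {A : Subgroup (YY D p)} (h : EL p r A) {d d' : ℕ} (hd : ∀ e ∈ A, e ≠ 1 →
    dd p e = d ∨ dd p e = d') (h1 : l + D.nroots ≠ d) (h2 : d ≠ d') :
    ((r : ℤ) - 1) * Nat.card A * Module.finrank (KK p) (Fx p (A : Set (YY D p))) + Nat.card A * (l + D.nroots : ℕ) =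
      r * ((l + D.nroots : ℕ) + (Nat.card A - 1) * d' +
        (Nat.card {e : A // dd p (e : YY D p) = d} : ℤ) * (d - d')) := by
  classical
  have := h.fin
  have := Fintype.ofFinite A
  have h3 := DS.NT.dim_one' ((ad D p).comp A.subtype) h.prime (cast_ne_zero h.prime h.ne)
    (fun x y => Subtype.ext (h.comm x x.2 y y.2)) (fun x => Subtype.ext (h.pow x x.2)) (Fx p (A : Set (YY D p)))
    fun v => ⟨fun h e => h e e.2, fun h e he => h ⟨e, he⟩⟩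
  have h4 : ∀ e : A, (DS.NT.ev ((ad D p).comp A.subtype) e 1 : ℤ) = d' + (if e = 1 then ((l + D.nroots : ℕ) : ℤ) - d' else 0) +
      if dd p (e : YY D p) = d then (d : ℤ) - d' else 0 := fun e => by
    show (dd p (e : YY D p) : ℤ) = _
    by_cases h5 : e = 1
    · rw [if_pos h5, h5, Subgroup.coe_one, dd_one hp, if_neg h1]
      ring
    · rw [if_neg h5]
      rcases hd e e.2 (fun h6 => h5 (Subtype.ext h6)) with h6 | h6
      · rw [if_pos h6, h6]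
        ring
      · rw [if_neg (by rw [h6]; exact h2.symm), h6]
        ring
  rw [Finset.sum_congr rfl fun e _ => h4 e, Finset.sum_add_distrib, Finset.sum_add_distrib, Finset.sum_ite_eq',
    if_pos (Finset.mem_univ _), Finset.sum_const, ← Finset.sum_filter, Finset.sum_const, finrank_ad hp,
    Finset.card_univ, ← Fintype.card_subtype, ← Nat.card_eq_fintype_card, ← Nat.card_eq_fintype_card] at h3
  simp only [nsmul_eq_mul] at h3
  linear_combination -h3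

/-- **(AV)** -/
theorem exists_av {A : Subgroup (YY D p)} (h : EL p r A) (h0 : Fx p (A : Set (YY D p)) = ⊥) {n : YY D p}
    (hn : ∀ e ∈ A, n * e = e * n) {k : ℕ} (hk : n ^ r ^ k = 1) : ∃ e ∈ A, r * dd p (n * e) ≤ dd p (n ^ r) := by
  classical
  have := h.fin
  have := Fintype.ofFinite A
  have h1 := Lin.av (ad D p) h.prime (cast_ne_zero h.prime h.ne) h.comm h.pow hn (N := r ^ k)
    (by rw [Nat.cast_pow]; exact pow_ne_zero _ (cast_ne_zero h.prime h.ne)) hk ⊥ fun v =>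
      ⟨fun hv => by rw [(Submodule.mem_bot _).1 hv]; exact ⟨map_zero _, fun _ _ => map_zero _⟩,
        fun hv => h0 ▸ hv.2⟩
  rw [finrank_bot, mul_zero, mul_zero, add_zero, add_zero, Finset.mul_sum] at h1
  by_contra h2
  push Not at h2
  have h3 : ∑ _e : A, dd p (n ^ r) < ∑ e : A, r * dd p (n * (e : YY D p)) :=
    Finset.sum_lt_sum_of_nonempty ⟨1, Finset.mem_univ _⟩ fun e _ => h2 e e.2
  rw [Finset.sum_const, Finset.card_univ, smul_eq_mul] at h3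
  exact absurd h1 (not_le.2 h3)

end Cfsg.Agent.N2.Ex.Loc
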