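import Cfsg.Agent.N2.Ex.Loc.Jor
import Cfsg.Agent.N2.Ex.K.Glue
import Cfsg.Agent.T44.Ex.Nt
import Cfsg.Agent.S0112
import Cfsg.Agent.S4144

/-!
# N2, exceptional groups, the local case: trivial radical, and the assembly (helper75)

`cc_of` : an invariant `r`-subgroup with trivial radical has order `r²` and is not self-centralising; `boxLoc_of`.
-/

set_option autoImplicit false
set_option linter.unusedSectionVars false

namespace Cfsg.Agent.N2.Ex.Loc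

open CoxeterSystem Cfsg Cfsg.Lie Cfsg.Lie.ChevalleyDatum
open Cfsg.Agent.ChevalleyStructure Cfsg.Agent.Nodes.RGDChev Cfsg.Agent.KFacts.RgdChevCoord
open Cfsg.Agent.H469.Exc Cfsg.Agent.H316.U6 Cfsg.Agent.DS.Ex
open Cfsg.Agent.DS.Nt
open Cfsg.Agent.SB.Exc (XF)
open Module (finrank)

section Grp

variable {X : Type*} [Group X]

theorem card_le_mul {R K : Subgroup X} [Finite R] {r : ℕ} (hr : 0 < r) {y : X} (hy : y ∈ R) (hyr : y ^ r = 1)
    (h : ∀ c ∈ R, ∃ j : ℕ, c * y ^ j ∈ K) : Nat.card R ≤ r * Nat.card ↥(R ⊓ K) := by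
  have : Finite ↥(R ⊓ K) := Finite.of_injective _ (Subgroup.inclusion_injective inf_le_left)
  rw [← Nat.card_fin r, ← Nat.card_prod]
  refine Nat.card_le_card_of_surjective (fun a => ⟨a.2 * (y ^ (a.1 : ℕ))⁻¹, mul_mem a.2.2.1 (inv_mem (pow_mem hy _))⟩)
    fun c => ?_
  obtain ⟨j, hj⟩ := h c c.2
  rw [pow_eq_pow_mod j hyr] at hj
  exact ⟨(⟨j % r, Nat.mod_lt _ hr⟩, ⟨_, mul_mem c.2 (pow_mem hy _), hj⟩), Subtype.ext (mul_inv_cancel_right _ _)⟩

/-- a self-centralising subgroup of order `r²` bounds the rank -/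
theorem rank_le [Finite X] {r : ℕ} (hr : r.Prime) {R B : Subgroup X} (hR : Nat.card R = r ^ 2)
    (hc : ∀ x ∈ R, ∀ y ∈ R, x * y = y * x) (hC : Subgroup.centralizer (R : Set X) ≤ R) (hB : ∀ x ∈ B, x ^ r = 1) :
    Nat.card B ≤ r ^ r := by
  have := Fact.mk hr
  obtain ⟨P, hP⟩ := (IsPGroup.of_card hR).exists_le_sylow
  obtain ⟨Q, hQ⟩ := (show IsPGroup r B from fun x => ⟨1, Subtype.ext (by rw [pow_one]; exact hB x x.2)⟩).exists_le_sylow
  obtain ⟨g, hg⟩ := MulAction.exists_smul_eq X Q P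
  obtain ⟨n, hn⟩ := IsPGroup.iff_card.1 P.isPGroup'
  have h1 : Nat.card (R.subgroupOf P) = r ^ 2 := (Nat.card_congr (Subgroup.subgroupOfEquivOfLe hP).toEquiv).trans hR
  have h2 := S0112.result n hn (R.subgroupOf P) h1 (le_antisymm
    (fun x hx => hC (Subgroup.mem_centralizer_iff.2 fun y hy =>
      congrArg Subtype.val (Subgroup.mem_centralizer_iff.1 hx ⟨y, hP hy⟩ hy)))
    fun x hx => Subgroup.mem_centralizer_iff.2 fun y hy => Subtype.ext (hc y hy x hx))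
  have h3 : 2 ≤ n := by
    rw [← Nat.pow_le_pow_iff_right hr.one_lt, ← h1, ← hn]
    exact Subgroup.card_le_card_group _
  have h4 : B.map (MulAut.conj g).toMonoidHom ≤ P := by
    rintro _ ⟨b, hb, rfl⟩
    rw [← hg, Sylow.coe_subgroup_smul]
    exact Subgroup.smul_mem_pointwise_smul _ _ _ (hQ hb)
  have h5 := S4144.result n h3 hn h2 ((B.map (MulAut.conj g).toMonoidHom).subgroupOf P)
  rwa [(Subgroup.closure_eq_bot_iff).2 (by
    rintro _ ⟨⟨_, h⟩, ⟨b, hb, rfl⟩, rfl⟩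
    exact Subtype.ext (by
      show ((MulAut.conj g).toMonoidHom b) ^ r = 1
      rw [← map_pow, hB b hb, map_one])), Subgroup.relIndex_bot_left,
    Nat.card_congr (Subgroup.subgroupOfEquivOfLe h4).toEquiv,
    Subgroup.card_map_of_injective (MulAut.conj g).injective] at h5

end Grp

variable {D : ChevalleyDatum} {l : ℕ} {M : CoxeterMatrix (Fin l)} {hp : IsType D l M} {p : ℕ} [Fact p.Prime] {r : ℕ}

theorem pow_lt_step {R : Subgroup (YY D p)} (h : EL p r R) {k : ℕ} (hk : r ^ k < Nat.card R) :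
    r ^ (k + 1) ≤ Nat.card R := by
  obtain ⟨j, hj⟩ := h.exists_card
  rw [hj, Nat.pow_lt_pow_iff_right h.prime.one_lt] at hk
  rw [hj]
  exact Nat.pow_le_pow_right h.prime.pos hk

/-- the order of a subgroup with trivial radical -/
theorem card_sq (hC : BoxC7) (hD4 : BoxD4T) (hp : IsType D l M) (hD : Typ D) {R : Subgroup (YY D p)} (h : EL p r R)
    (h0 : R ≠ ⊥) (hrad : ∀ x ∈ R, (∀ z ∈ R, Tp p z x) → x = 1) :
    Nat.card R = r ^ 2 ∧ ∃ x ∈ R, ∃ y ∈ R, ¬ Tp p x y := by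
  have := h.fin
  have := Fact.mk h.prime
  choose K hK hK' using fun z (hz : z ∈ R) => T44.Ex.exists_cyc hp hD h.prime h.ne (h.pow z hz)
  have hm : ∀ z hz, ∀ y ∈ R, y ∈ K z hz ↔ Tp p z y := fun z hz y hy => hK z hz y (h.pow y hy)
  have hex : ∀ x ∈ R, x ≠ 1 → ∃ y ∈ R, ¬ Tp p x y := fun x hx h1 => by
    by_contra h2
    exact h1 (hrad x hx fun z hz => (not_not.1 fun h3 => h2 ⟨z, hz, h3⟩).symm)
  have hcyc : ∀ x hx, ∀ y ∈ R, ¬ Tp p x y → ∀ c ∈ R, ∃ j : ℕ, c * y ^ j ∈ K x hx := fun x hx y hy h1 c hc =>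
    hK' x hx y c (h.comm y hy x hx) (fun h2 => h1 ((hm x hx y hy).1 h2)) (h.comm c hc x hx)
  have hself : ∀ x ∈ R, Tp p x x := fun x hx => by
    obtain ⟨g, hg⟩ := exists_conj_T hp h.prime h.ne (n := 1) (by rw [pow_one, h.pow x hx])
    exact ⟨g, hg, hg⟩
  have hdd : ∀ x ∈ R, x ≠ 1 → (D = chevE6 ∧ r = 3 ∧ (dd p x = 24 ∨ dd p x = 30)) ∨
      (D = chevE7 ∧ r = 2 ∧ (dd p x = 79 ∨ dd p x = 63)) := fun x hx hx1 => by
    obtain ⟨K, h1, -, h2⟩ := exists_DD hp hD h.prime h.ne (h.pow x hx)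
    refine h2.resolve_left fun h3 => hx1 (hrad x hx fun z hz => Tp.symm ?_)
    exact (h1 z (h.comm z hz x hx) ⟨1, by rw [pow_one, h.pow z hz]⟩).2 (h3 z (h.comm z hz x hx))
  have hz : ∀ x ∈ R, x ≠ 1 → Nat.card (Subgroup.zpowers x) = r := fun x hx h1 => by
    rw [Nat.card_zpowers, orderOf_eq_prime (h.pow x hx) h1]
  have hlt : ∀ x ∈ R, x ≠ 1 → ∀ Q ≤ R, x ∈ Q → ∀ y ∈ Q, y ∉ Subgroup.zpowers x → r ^ 2 ≤ Nat.card Q :=
    fun x hx h1 Q hQ h2 y h3 h4 => by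
      have := (EL.mono' h hQ).fin
      refine pow_lt_step (EL.mono' h hQ) (k := 1) ?_
      rw [pow_one, ← hz x hx h1]
      exact lt_of_le_of_ne (Subgroup.card_le_of_le (Subgroup.zpowers_le.2 h2)) fun e =>
        h4 ((Subgroup.eq_of_le_of_card_ge (Subgroup.zpowers_le.2 h2) e.ge).ge h3)
  obtain ⟨⟨x, hx⟩, hx1⟩ := (Subgroup.ne_bot_iff_exists_ne_one).1 h0
  replace hx1 : x ≠ 1 := fun e => hx1 (Subtype.ext e)
  obtain ⟨y, hy, hxy⟩ := hex x hx hx1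
  refine ⟨le_antisymm ?_ (hlt x hx hx1 R le_rfl hx y hy fun h1 => hxy ((hm x hx y hy).1
    (Subgroup.zpowers_le.2 ((hm x hx x hx).2 (hself x hx)) h1))), x, hx, y, hy, hxy⟩
  by_contra hc
  have h3 := pow_lt_step h (not_le.1 hc)
  -- an element of the radical
  have key : ∀ x hx, ∀ y ∈ R, ¬ Tp p x y → (∀ u ∈ R ⊓ K x hx, u ≠ 1 → Tp p y u → ∀ w ∈ R ⊓ K x hx, Tp p u w) → False := by
    intro x hx y hy hxy h1
    have a1 := card_le_mul h.prime.pos hy (h.pow y hy) (hcyc x hx y hy hxy)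
    have := (EL.mono' h (inf_le_left : R ⊓ K x hx ≤ R)).fin
    have a2 := card_le_mul (R := R ⊓ K x hx) h.prime.pos ⟨hx, (hm x hx x hx).2 (hself x hx)⟩ (h.pow x hx)
      fun c hc => hcyc y hy x hx (fun h => hxy h.symm) c hc.1
    have a3 : R ⊓ K x hx ⊓ K y hy ≠ ⊥ := fun e => by
      rw [e, Subgroup.card_bot, mul_one] at a2
      have a4 := Nat.mul_le_mul_left r a2
      rw [← pow_two] at a4
      omega
    obtain ⟨⟨u, hu⟩, hu1⟩ := (Subgroup.ne_bot_iff_exists_ne_one).1 a3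
    replace hu1 : u ≠ 1 := fun e => hu1 (Subtype.ext e)
    have a4 := (hm y hy u hu.1.1).1 hu.2
    refine hu1 (hrad u hu.1.1 fun c hc => ((hm u hu.1.1 c hc).1 ?_).symm)
    obtain ⟨j, hj⟩ := hcyc x hx y hy hxy c hc
    have a5 := mul_mem hc (pow_mem hy j)
    exact (Subgroup.mul_mem_cancel_right _ (pow_mem ((hm u hu.1.1 y hy).2 a4.symm) j)).1
      ((hm u hu.1.1 _ a5).2 (h1 u hu.1 hu1 a4 _ ⟨a5, hj⟩))
  rcases hdd x hx hx1 with ⟨rfl, rfl, -⟩ | ⟨rfl, rfl, -⟩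
  · have hdd' := fun e he h1 => ((hdd e he h1).resolve_right fun h => absurd h.2.1 (by norm_num)).2.2
    obtain rfl := (typ_l hp).2.1 rfl
    by_cases h30 : ∃ z ∈ R, dd p z = 30
    · obtain ⟨z, hz, h1⟩ := h30
      obtain ⟨w, hw, h2⟩ := hex z hz fun e => by
        rw [e, dd_one hp, nrE6] at h1
        omega
      exact key z hz w hw h2 fun u hu _ _ v hv => hD4 p h.ne.symm z u v (h.pow z hz) (h.pow u hu.1) (h.pow v hv.1) h1
        (h.comm u hu.1 v hv.1) ((hm z hz u hu.1).1 hu.2) ((hm z hz v hv.1).1 hv.2)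
    · have h1 := pure3 hp (by rw [nrE6]) h fun e he h1 => (hdd' e he h1).resolve_right fun h => h30 ⟨e, he, h⟩
      have h2 : Nat.card R ≤ 27 := by
        have := Nat.mul_le_mul_left (Nat.card R) (Nat.le_add_left 6 (2 * finrank (KK p) (Fx p (R : Set (YY chevE6 p)))))
        omega
      refine key x hx y hy hxy fun u hu hu1 h4 v hv => (hm u hu.1 v hv.1).1 ?_
      have := (EL.mono' h (inf_le_left : R ⊓ K x hx ≤ R)).fin
      have a1 := hlt u hu.1 hu1 (R ⊓ K x hx ⊓ K u hu.1) (inf_le_left.trans inf_le_left) ⟨hu, (hm u hu.1 u hu.1).2 (hself u hu.1)⟩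
        x ⟨⟨hx, (hm x hx x hx).2 (hself x hx)⟩, (hm u hu.1 x hx).2 ((hm x hx u hu.1).1 hu.2).symm⟩ fun h5 =>
          hxy ((hm y hy x hx).1 (Subgroup.zpowers_le.2 ((hm y hy u hu.1).2 h4) h5)).symm
      have a2 : Nat.card ↥(R ⊓ K x hx) ≤ 3 ^ 2 := by
        by_contra a2
        have a3 := pow_lt_step (EL.mono' h (inf_le_left : R ⊓ K x hx ≤ R)) (not_le.1 a2)
        exact hxy ((hm x hx y hy).1 ((Subgroup.eq_of_le_of_card_ge (inf_le_left : R ⊓ K x hx ≤ R) (h2.trans a3)).ge hy).2)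
      exact ((Subgroup.eq_of_le_of_card_ge (inf_le_left : R ⊓ K x hx ⊓ K u hu.1 ≤ R ⊓ K x hx) (a2.trans a1)).ge hv).2
  · have hdd' := fun e he h1 => ((hdd e he h1).resolve_left fun h => absurd h.2.1 (by norm_num)).2.2.symm
    refine key x hx y hy hxy fun u hu hu1 h4 => absurd (Tp.symm ?_) hxy
    have a1 : x * u = 1 := by
      by_contra a1
      have a2 := hC p h.ne.symm x u ((hm x hx u hu.1).1 hu.2) (h.pow x hx) (h.pow u hu.1) (hdd' x hx hx1) (hdd' u hu.1 hu1)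
      exact (hdd' _ (mul_mem hx hu.1) a1).elim a2.1 a2.2
    rw [eq_inv_of_mul_eq_one_left a1]
    exact (hm y hy _ (inv_mem hu.1)).1 (inv_mem ((hm y hy u hu.1).2 h4))

theorem fixT {tw : Bool} {f : ℕ} {G : Type} [Group G] [Finite G] {T H : Subgroup G} {F : XF hp p (p ^ f) T}
    (C : NC tw f F H) : FixT F.L := fun h2 => by
  have S := C.cx.setup
  have := S.normal
  have hI : K.Iv (K.Gm F H) (im F.L T) := (K.iv_iff S).2 (inv_im S.normal (Subgroup.normalizer_eq_top T ▸ le_top))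
  have e : (im F.L T : Set (YY D p)) = Set.range F.L.ι := Set.ext fun y =>
    ⟨fun ⟨x, _, h⟩ => ⟨x, h⟩, fun ⟨x, h⟩ => h ▸ ι_mem_im.2 x.2⟩
  have k1 : K.Irr hp p (im F.L T) := K.boxIrr_of K.boxEnd D l M hp p _ _ _ (K.kf S) (finite_im _ _) hI
    (K.boxC D l M hp p _ _ _ (K.kf S) (finite_im _ _) hI (fun x hx => by
      obtain ⟨y, -, rfl⟩ := mem_im.1 hx
      exact F.L.fix y) (fun c _ h => F.L.cent c fun x => h _ (ι_mem_im.2 x.2)) (K.noT C.nt)) (K.noP C.nt)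
  have k3 := K.boxMx hp (K.kf S) ⟨_, F.L.frob⟩ (K.ev S h2) hI
    (K.boxTor D l M hp C.typ p _ (K.boxSS D l M hp C.typ p _ k1)) fun h' => C.nmr (K.invMR S h')
  rw [e] at k3
  refine ⟨(Submodule.finrank_mono k3).trans (K.cen_le_one hp C.typ), fun h => eq_bot_iff.2 (k3.trans (K.cen_eq_bot hp C.typ ?_).le)⟩
  subst h
  rw [(typ_l hp).2.2.2 rfl]
  exact (Fact.out : p.Prime).not_dvd_one

/-- **The local case** from the boxes. -/
theorem boxLoc_of (hJ2 : BoxFJ2) (hJ3 : BoxFJ3) (h83 : BoxE83) (hC : BoxC7) (hD4 : BoxD4T) (hRk : BoxRk) :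
    BoxLoc := by
  intro D l M hp p _ tw f G _ _ T H F C R r hr h0 hRT hH hR
  rcases rad_cases C.nt hr h0 hRT hH hR with ⟨E, -, hL, hE, -⟩ | ⟨h1, h2, h3, h4⟩
  · exact Or.inl (gd_of_jor hRk C hL hE (jor hJ2 hJ3 h83 (fixT C) C.nt hL hE))
  have hrp : r ≠ p := by
    rintro rfl
    exact h0 (C.nt.noP R hRT hR hH)
  have hE : EL p r (im F.L R) := ⟨hr, hrp, finite_im _ _, by
    rintro _ ⟨x, hx, rfl⟩ _ ⟨y, hy, rfl⟩
    rw [← map_mul, ← map_mul, show x * y = y * x from Subtype.ext (h2 x hx y hy)], by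
    rintro _ ⟨x, hx, rfl⟩
    rw [← map_pow, show x ^ r = 1 from Subtype.ext (h3 x hx), map_one]⟩
  obtain ⟨a1, _, ⟨x, hx, rfl⟩, _, ⟨y, hy, rfl⟩, a2⟩ := card_sq hC hD4 hp C.typ hE (im_ne_bot hRT h0) fun x hx h =>
    h1 x ⟨hx, hE.pow x hx, fun y hy => hE.comm y hy x hx⟩ fun z hz => h z hz.1
  rw [card_im hRT] at a1
  refine Or.inr ⟨h4.imp (fun h => ⟨h.1, h.2.1⟩) fun h => ⟨h.1, h.2.1⟩, h3, h2, a1, fun ⟨g, hg⟩ =>
    a2 ⟨g, hg _ ⟨x, hx, rfl⟩, hg _ ⟨y, hy, rfl⟩⟩, fun h5 => ?_⟩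
  have key : ∀ n, HasEl T r n → n ≤ r ^ r := fun n ⟨B, _, b1, b2⟩ => b2.trans (rank_le hr (R := R.subgroupOf T)
    ((Nat.card_congr (Subgroup.subgroupOfEquivOfLe hRT).toEquiv).trans a1) (fun a ha b hb => Subtype.ext (h2 a ha b hb))
    (fun c hc => h5 ⟨c.2, Subgroup.mem_centralizer_iff.2 fun z hz =>
      congrArg Subtype.val (Subgroup.mem_centralizer_iff.1 hc ⟨z, hRT hz⟩ hz)⟩) b1)
  obtain ⟨b1, b2⟩ := hRk D l M hp p _ G T F
  rcases h4 with ⟨e, rfl, -⟩ | ⟨e, rfl, -⟩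
  · exact absurd (key _ (b2 e hrp.symm ⟨x, y, Subtype.ext (h3 x hx), Subtype.ext (h3 y hy), Subtype.ext (h2 x hx y hy),
      a2⟩).1) (by norm_num)
  · exact absurd (key _ (b1 e hrp.symm)) (by norm_num)

end Cfsg.Agent.N2.Ex.Loc
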