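import Cfsg.Agent.N2.Ex.Loc.Defs
import Cfsg.Agent.S0144

/-!
# N2, exceptional groups, the local case: box Odd (helper42)
-/

set_option autoImplicit false
set_option linter.unusedSectionVars false

namespace Cfsg.Agent.N2.Ex.Loc

open Subgroup MulAction

namespace Od

theorem exists_min {G : Type*} [Group G] [Finite G] (C : Subgroup G) [C.Normal] (hC : C ≠ ⊥) :
    ∃ M : Subgroup G, M.Normal ∧ M ≤ C ∧ M ≠ ⊥ ∧ ∀ M' : Subgroup G, M'.Normal → M' ≤ M → M' = ⊥ ∨ M' = M := by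
  have hfin : {M : Subgroup G | M.Normal ∧ M ≤ C ∧ M ≠ ⊥}.Finite := Set.toFinite _
  obtain ⟨M, ⟨h1, h2, h3⟩, h4⟩ := hfin.exists_minimal ⟨C, inferInstance, le_rfl, hC⟩
  refine ⟨M, h1, h2, h3, fun M' hM' hle => ?_⟩
  by_cases h : M' = ⊥
  · exact Or.inl h
  · exact Or.inr (le_antisymm hle (h4 ⟨hM', hle.trans h2, h⟩ hle))

/-- a non-trivial soluble normal subgroup contains a non-trivial normal subgroup of prime exponent -/
theorem exists_exp {G : Type*} [Group G] [Finite G] (B : Subgroup G) [B.Normal] [Group.IsSolvable B] (hB : B ≠ ⊥) :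
    ∃ (M : Subgroup G) (p : ℕ), M.Normal ∧ M ≤ B ∧ M ≠ ⊥ ∧ p.Prime ∧ ∀ x ∈ M, x ^ p = 1 := by
  obtain ⟨N, hN, h1, h0, hm⟩ := exists_min B hB
  have h2 : ⁅N, N⁆ = ⊥ := by
    refine (hm _ inferInstance (commutator_le_left N N)).resolve_right fun h => ?_
    have h3 : N.subgroupOf B ≠ ⊥ := fun h3 => h0 (by rw [← map_subgroupOf_eq_of_le h1, h3, Subgroup.map_bot])
    refine (Group.IsSolvable.commutator_lt_of_ne_bot h3).ne (map_injective B.subtype_injective ?_)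
    rw [map_commutator, map_subgroupOf_eq_of_le h1, h]
  have hc : ∀ x ∈ N, ∀ y ∈ N, Commute x y := fun x hx y hy =>
    commutatorElement_eq_one_iff_commute.1 (mem_bot.1 (h2 ▸ commutator_mem_commutator hx hy))
  obtain ⟨p, hp, h3⟩ := Nat.exists_prime_and_dvd (fun h => h0 (card_eq_one.1 h))
  have : Fact p.Prime := ⟨hp⟩
  obtain ⟨z, hz⟩ := exists_prime_orderOf_dvd_card' p h3
  let M : Subgroup G :=
    { carrier := {x | x ∈ N ∧ x ^ p = 1}
      mul_mem' := fun {a b} ha hb => ⟨N.mul_mem ha.1 hb.1, by rw [(hc a ha.1 b hb.1).mul_pow, ha.2, hb.2, one_mul]⟩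
      one_mem' := ⟨N.one_mem, one_pow p⟩
      inv_mem' := fun {a} ha => ⟨N.inv_mem ha.1, by rw [inv_pow, ha.2, inv_one]⟩ }
  refine ⟨M, p, ⟨fun a ha g => ⟨hN.conj_mem a ha.1 g, by rw [conj_pow, ha.2]; simp⟩⟩, fun a ha => h1 ha.1, fun h => ?_, hp,
    fun x hx => hx.2⟩
  have h4 : z.1 ∈ M := ⟨z.2, by rw [← hz, ← Subgroup.coe_pow, pow_orderOf_eq_one]; rfl⟩
  rw [h, mem_bot, OneMemClass.coe_eq_one] at h4
  exact absurd (by rw [← hz, h4, orderOf_one]) hp.ne_one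

variable {V : Type} [CommGroup V] [Finite V]

/-- an automorphism of order 31 is a cycle on the non-identity elements -/
theorem cyc (hc : Nat.card V = 32) {m : MulAut V} (h1 : m ≠ 1) (h2 : m ^ 31 = 1) :
    (∀ x, x ≠ 1 → m x ≠ x) ∧ ∀ x y, x ≠ 1 → y ≠ 1 → ∃ i : ℕ, (m ^ i) x = y := by
  classical
  have := Fintype.ofFinite V
  have : Fact (Nat.Prime 31) := ⟨by norm_num⟩
  rw [Nat.card_eq_fintype_card] at hc
  let σ := toPermHom (MulAut V) V m
  have h3 : orderOf σ = 31 := (orderOf_injective _ toPerm_injective m).trans (orderOf_eq_prime h2 h1)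
  have h4 := Equiv.Perm.isCycle_of_prime_order' (σ := σ) (by rw [h3]; norm_num) (by omega)
  have h5 : σ.support = Finset.univ.erase 1 := Finset.eq_of_subset_of_card_le (fun x hx => Finset.mem_erase.2
    ⟨fun h => Equiv.Perm.mem_support.1 hx (h ▸ map_one m), Finset.mem_univ x⟩) (by
      rw [← h4.orderOf, h3, Finset.card_erase_of_mem (Finset.mem_univ _), Finset.card_univ, hc])
  have h6 : ∀ x, x ≠ 1 → σ x ≠ x := fun x hx => Equiv.Perm.mem_support.1 (h5 ▸ Finset.mem_erase.2 ⟨hx, Finset.mem_univ x⟩)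
  refine ⟨h6, fun x y hx hy => ?_⟩
  obtain ⟨i, hi⟩ := h4.exists_pow_eq (h6 x hx) (h6 y hy)
  exact ⟨i, by rw [← map_pow] at hi; exact hi⟩

/-- an involution fixes two non-identity elements -/
theorem two_fix (hc : Nat.card V = 32) (h2 : ∀ x : V, x ^ 2 = 1) {t : MulAut V} (ht : t ^ 2 = 1) :
    ∃ x y, x ≠ 1 ∧ y ≠ 1 ∧ x ≠ y ∧ t x = x ∧ t y = y := by
  let f : V →* V := MonoidHom.id V * t.toMonoidHom
  have h1 : ∀ x, f x = x * t x := fun _ => rfl
  have h3 : ∀ x, x ∈ f.ker ↔ t x = x := fun x => by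
    rw [MonoidHom.mem_ker, h1, mul_eq_one_iff_inv_eq, inv_eq_of_mul_eq_one_right (by rw [← sq, h2]), eq_comm]
  have h4 : f.range ≤ f.ker := by
    rintro _ ⟨x, rfl⟩
    rw [h3, h1, map_mul, mul_comm, ← MulAut.mul_apply, ← sq, ht]
    rfl
  have h5 := f.ker.index_mul_card
  rw [index_ker, hc] at h5
  have h6 := card_le_of_le h4
  have h7 : 3 ≤ Nat.card f.ker := by
    by_contra h8
    have := Nat.mul_le_mul (by omega : Nat.card f.range ≤ 2) (by omega : Nat.card f.ker ≤ 2)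
    omega
  have := Fintype.ofFinite f.ker
  classical
  have h8 : 1 < (Finset.univ.erase (1 : f.ker)).card := by
    rw [Finset.card_erase_of_mem (Finset.mem_univ _), Finset.card_univ, ← Nat.card_eq_fintype_card]
    omega
  obtain ⟨x, hx, y, hy, hxy⟩ := Finset.one_lt_card.1 h8
  exact ⟨x, y, fun h => (Finset.mem_erase.1 hx).1 (Subtype.ext h), fun h => (Finset.mem_erase.1 hy).1 (Subtype.ext h),
    fun h => hxy (Subtype.ext h), (h3 _).1 x.2, (h3 _).1 y.2⟩

theorem odd (hc : Nat.card V = 32) (h2 : ∀ x : V, x ^ 2 = 1) {Γ : Subgroup (MulAut V)} (B : Subgroup Γ) [B.Normal]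
    (irr : ∀ W : Subgroup V, (∀ g ∈ Γ, ∀ w ∈ W, g w ∈ W) → W = ⊥ ∨ W = ⊤) {t : Γ} (ht : t ∈ B) (h1 : t ≠ 1) (ht2 : t ^ 2 = 1)
    {p : ℕ} (hp : p.Prime) : ∃ a ∈ B, ∃ s : ℕ, s.Prime ∧ s ≠ 2 ∧ s ≠ p ∧ a ≠ 1 ∧ a ^ s = 1 := by
  have : Finite (MulAut V) := Finite.of_injective (fun f => f.toEquiv) MulEquiv.toEquiv_injective
  by_contra h
  have h3 : ∀ s, s.Prime → s ∣ Nat.card B → s = 2 ∨ s = p := fun s hs hd => by
    by_contra h4
    have : Fact s.Prime := ⟨hs⟩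
    obtain ⟨a, ha⟩ := exists_prime_orderOf_dvd_card' s hd
    exact h ⟨a, a.2, s, hs, fun k => h4 (Or.inl k), fun k => h4 (Or.inr k),
      fun k => hs.ne_one (by rw [← ha, Subtype.ext (a1 := a) (a2 := 1) k, orderOf_one]),
      by rw [← ha, ← Subgroup.coe_pow, pow_orderOf_eq_one]; rfl⟩
  obtain ⟨a, n, h4, h5⟩ := Nat.exists_eq_pow_mul_and_not_dvd (n := Nat.card B) Nat.card_pos.ne' 2 (by norm_num)
  have h6 : n = p ^ n.primeFactorsList.length := Nat.eq_prime_pow_of_unique_prime_dvd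
    (fun k => h4 (k ▸ dvd_zero 2)) fun {s} hs hd => (h3 s hs (h5 ▸ hd.mul_left _)).resolve_left fun k => h4 (k ▸ hd)
  have : Group.IsSolvable B := S0144.result 2 p a _ Nat.prime_two hp (h6 ▸ h5)
  obtain ⟨M, s, hM, h7, h8, hs, h9⟩ := exists_exp B fun k => h1 (mem_bot.1 (k ▸ ht))
  have : Fact s.Prime := ⟨hs⟩
  obtain ⟨⟨m, hm⟩, hm1⟩ := ne_bot_iff_exists_ne_one.1 h8
  have hm2 : m.1 ≠ 1 := fun k => hm1 (Subtype.ext (Subtype.ext k))
  let W : Subgroup V :=
    { carrier := {x | ∀ z ∈ M, z.1 x = x}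
      mul_mem' := fun {a b} ha hb z hz => by rw [map_mul, ha z hz, hb z hz]
      one_mem' := fun z _ => map_one _
      inv_mem' := fun {a} ha z hz => by rw [map_inv, ha z hz] }
  have h10 : W = ⊥ := (irr W fun g hg w hw z hz => by
    have := hw _ (hM.conj_mem' z hz ⟨g, hg⟩)
    exact (MulEquiv.symm_apply_eq g).1 this).resolve_right fun k => hm2 (MulEquiv.ext fun x => (k.ge (mem_top x)) m hm)
  have h11 : s = 31 := by
    have h12 := (show IsPGroup s M from fun x => ⟨1, Subtype.ext (by simpa using h9 x x.2)⟩).card_modEq_card_fixedPoints V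
    have h13 : Nat.card (fixedPoints M V) = Nat.card W :=
      Nat.card_congr (Equiv.subtypeEquivRight fun x => ⟨fun k z hz => k ⟨z, hz⟩, fun k z => k z.1 z.2⟩)
    rw [h13, h10, card_bot, hc] at h12
    exact (Nat.prime_dvd_prime_iff_eq hs (by norm_num)).1 ((Nat.modEq_iff_dvd' (by norm_num)).1 h12.symm)
  subst h11
  have h12 : ∀ z ∈ M, z.1 ^ 31 = 1 := fun z hz => congrArg Subtype.val (h9 z hz)
  obtain ⟨x, y, hx, hy, hxy, h13, h14⟩ := two_fix hc h2 (t := t.1) (congrArg Subtype.val ht2)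
  obtain ⟨i, hi⟩ := (cyc hc hm2 (h12 m hm)).2 x y hx hy
  have h15 : m ^ i ∈ M := M.pow_mem hm i
  have h16 : (m ^ i).1 x = y := hi
  generalize m ^ i = u at h15 h16
  have h17 : u⁻¹ * (t⁻¹ * u * t) = 1 := by
    by_contra k
    have h18 := M.mul_mem (M.inv_mem h15) (hM.conj_mem' u h15 t)
    refine (cyc hc (fun k' => k (Subtype.ext k')) (h12 _ h18)).1 x hx ?_
    change u.1.symm (t.1.symm (u.1 (t.1 x))) = x
    rw [h13, h16, MulEquiv.symm_apply_eq, MulEquiv.symm_apply_eq, h16, h14]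
  have h18 : Commute t u := by
    have := inv_mul_eq_one.1 h17
    calc t * u = t * (t⁻¹ * u * t) := by rw [← this]
      _ = u * t := by group
  refine h1 (Subtype.ext (MulEquiv.ext fun z => ?_))
  by_cases hz : z = 1
  · rw [hz, map_one, map_one]
  obtain ⟨j, rfl⟩ := (cyc hc (fun k => hxy (by rw [← h16, k]; rfl)) (h12 u h15)).2 x z hx hz
  have h19 := congrArg (fun g : Γ => g.1 x) (h18.pow_right j).eq
  change t.1 ((u.1 ^ j) x) = (u.1 ^ j) (t.1 x) at h19
  rw [h19, h13]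
  rfl

end Od

section

variable {G : Type} [Group G] {H A E : Subgroup G} {r : ℕ}

/-- the action of `H` on `E` -/
def Irr.act (h : Irr H A E r) : H →* MulAut E := E.normalizerMonoidHom.comp (inclusion h.norm)

theorem Irr.act_coe (h : Irr H A E r) (g : H) (e : E) : (h.act g e : G) = g * e * (g : G)⁻¹ := rfl

theorem Irr.act_eq_one (h : Irr H A E r) (g : H) : h.act g = 1 ↔ (g : G) ∈ centralizer (E : Set G) :=
  ⟨fun k e he => (mul_inv_eq_iff_eq_mul.1 (congrArg (fun f : MulAut E => (f ⟨e, he⟩).1) k)).symm,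
    fun k => MulEquiv.ext fun e => Subtype.ext (mul_inv_eq_iff_eq_mul.2 (k e e.2).symm)⟩

theorem Irr.normal (h : Irr H A E r) : (A.subgroupOf H).Normal := ⟨fun a ha g => h.nrm g g.2 a ha⟩

theorem Irr.irr (h : Irr H A E r) [Finite G] (W : Subgroup E) (hW : ∀ g, ∀ w ∈ W, h.act g w ∈ W) : W = ⊥ ∨ W = ⊤ := by
  rcases h.min (W.map E.subtype) (map_subtype_le W) (le_normalizer_iff.2 (by
    rintro g hg _ ⟨w, hw, rfl⟩
    exact ⟨_, hW ⟨g, hg⟩ w hw, rfl⟩)) with k | k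
  · exact Or.inl ((map_eq_bot_iff_of_injective _ E.subtype_injective).1 k)
  · exact Or.inr (map_injective E.subtype_injective (by rw [k, ← MonoidHom.range_eq_map, range_subtype]))

end

theorem boxOdd : BoxOdd := by
  intro G _ _ H A E h hc p hp
  let _ : CommGroup E := { (inferInstance : Group E) with mul_comm := fun a b => Subtype.ext (h.comm a a.2 b b.2) }
  obtain ⟨n, h1, h2, h3⟩ := h.ex
  have := h.normal.map h.act.rangeRestrict h.act.rangeRestrict_surjective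
  obtain ⟨_, ⟨a, ha, rfl⟩, s, h4, h5, h6, h7, h8⟩ := Od.odd hc (fun x => Subtype.ext (h.pow x x.2))
    ((A.subgroupOf H).map h.act.rangeRestrict) (fun W hW => h.irr W fun g => hW _ ⟨g, rfl⟩)
    (t := h.act.rangeRestrict ⟨n, h.le h1⟩) ⟨_, h1, rfl⟩ (fun k => h2 ((h.act_eq_one ⟨n, h.le h1⟩).1 (congrArg Subtype.val k)))
    (by rw [← map_pow]; exact Subtype.ext ((h.act_eq_one _).2 h3)) hp
  refine ⟨a, ha, s, h4, h5, h6, fun k => h7 (Subtype.ext ((h.act_eq_one a).2 k)), (h.act_eq_one (a ^ s)).1 ?_⟩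
  rw [map_pow]
  exact congrArg Subtype.val h8

end Cfsg.Agent.N2.Ex.Loc
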