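import Cfsg.Agent.N2.Ex.Loc.Odd

/-!
# N2, exceptional groups, the local case: box Reg (helper42)
-/

set_option autoImplicit false
set_option linter.unusedSectionVars false

namespace Cfsg.Agent.N2.Ex.Loc

open Subgroup Module
open scoped commutatorElement

namespace Rg

/-- coordinates -/
abbrev P := ZMod 3 × ZMod 3 × ZMod 3

/-- three transvections whose centres are the basis vectors -/
def st (a b c d e f : ZMod 3) (i : Fin 3) (x : P) : P :=
  if i = 0 then (x.1 + (x.2.1 * a + x.2.2 * b), x.2.1, x.2.2)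
  else if i = 1 then (x.1, x.2.1 + (x.1 * c + x.2.2 * d), x.2.2) else (x.1, x.2.1, x.2.2 + (x.1 * e + x.2.1 * f))

/-- a word in the transvections -/
def ev (a b c d e f : ZMod 3) (w : List (Fin 3)) (x : P) : P := w.foldr (st a b c d e f) x

/-- the words -/
def ws : List (List (Fin 3)) := [[0, 1], [0, 2], [1, 2], [0, 1, 2], [0, 0, 1, 0, 2], [0, 0, 1, 2], [0, 1, 1, 2], [0, 0, 2, 1]]

/-- the basis -/
def bs : List P := [(1, 0, 0), (0, 1, 0), (0, 0, 1)]

set_option synthInstance.maxSize 2000 in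
theorem tab : ∀ a b c d e f : ZMod 3, ¬ (a = 0 ∧ b = 0) → ¬ (c = 0 ∧ d = 0) → ¬ (e = 0 ∧ f = 0) → ∃ w ∈ ws,
    (∀ x ∈ bs, ev a b c d e f w (ev a b c d e f w (ev a b c d e f w x)) = x) ∧
      ∃ x ∈ bs, ev a b c d e f w (ev a b c d e f w x) + ev a b c d e f w x + x ≠ 0 := by
  decide +kernel

variable {V Γ : Type} [AddCommGroup V] [Module (ZMod 3) V] [Group Γ]

theorem rank_one (h3 : finrank (ZMod 3) V = 3) {N : End (ZMod 3) V} (h : ∀ v, N (N v) = 0) {u : V} (hu : N u ≠ 0) (v : V) :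
    ∃ c : ZMod 3, c • N u = N v := by
  have : Module.Finite (ZMod 3) V := finite_of_finrank_pos (by omega)
  have h1 := N.finrank_range_add_finrank_ker
  have h2 : LinearMap.range N ≤ LinearMap.ker N := by
    rintro _ ⟨x, rfl⟩
    exact h x
  have h4 := Submodule.finrank_mono h2
  have h5 : (⟨N u, u, rfl⟩ : LinearMap.range N) ≠ 0 := fun k => hu (congrArg Subtype.val k)
  have h6 : 0 < finrank (ZMod 3) (LinearMap.range N) := finrank_pos_iff_exists_ne_zero.2 ⟨_, h5⟩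
  have h7 : finrank (ZMod 3) (LinearMap.range N) = 1 := by omega
  obtain ⟨c, hc⟩ := (finrank_eq_one_iff_of_nonzero' _ h5).1 h7 ⟨N v, v, rfl⟩
  exact ⟨c, congrArg Subtype.val hc⟩

theorem reg_lin (ρ : Γ →* End (ZMod 3) V) (h3 : finrank (ZMod 3) V = 3) (B : Subgroup Γ) [hB : B.Normal]
    (irr : ∀ W : Submodule (ZMod 3) V, (∀ g, ∀ w ∈ W, ρ g w ∈ W) → W = ⊥ ∨ W = ⊤) {t : Γ} (ht : t ∈ B) (h1 : ρ t ≠ 1)
    (h2 : ρ t ^ 3 = 1) : ∃ n ∈ B, ρ n ^ 3 = 1 ∧ ∃ v, (ρ n - 1) ((ρ n - 1) v) ≠ 0 := by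
  by_contra hQ
  push Not at hQ
  let C : Set V := {a | ∃ s ∈ B, ρ s ^ 3 = 1 ∧ ∃ v, (ρ s - 1) v = a}
  have hC : Submodule.span (ZMod 3) C = ⊤ := by
    refine (irr _ fun g w hw => ?_).resolve_left fun k => h1 (LinearMap.ext fun v => ?_)
    · refine (Submodule.span_le.2 ?_ : Submodule.span (ZMod 3) C ≤ (Submodule.span (ZMod 3) C).comap (ρ g)) hw
      rintro _ ⟨s, h4, h5, v, rfl⟩
      refine Submodule.subset_span ⟨g * s * g⁻¹, hB.conj_mem s h4 g, ?_, ρ g v, ?_⟩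
      · rw [← map_pow, conj_pow, map_mul, map_mul, map_pow, h5, mul_one, ← map_mul, mul_inv_cancel, map_one]
      · rw [LinearMap.sub_apply, LinearMap.sub_apply, map_sub, ← End.mul_apply, ← map_mul, inv_mul_cancel_right, map_mul]
        rfl
    · have h4 : (ρ t - 1) v ∈ Submodule.span (ZMod 3) C := Submodule.subset_span ⟨t, ht, h2, v, rfl⟩
      rw [k, Submodule.mem_bot, LinearMap.sub_apply] at h4
      exact sub_eq_zero.1 h4
  obtain ⟨S, h4, h5, h6⟩ := exists_linearIndependent (ZMod 3) C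
  let b0 := Basis.mk h6 (by rw [Subtype.range_coe, h5, hC])
  have h7 : Nat.card S = 3 := (finrank_eq_nat_card_basis b0).symm.trans h3
  have : Finite S := Nat.finite_of_card_ne_zero (by omega)
  let b := b0.reindex (Finite.equivFinOfCardEq h7)
  have h8 : ∀ i, ∃ s ∈ B, ∃ r : Fin 3 → ZMod 3, (∀ j, ρ s (b j) = b j + r j • b i) ∧ r i = 0 ∧ ¬ ∀ j, r j = 0 := fun i => by
    have h9 : b i ∈ C := h4 (by
      rw [Basis.reindex_apply, Basis.mk_apply]
      exact Subtype.property _)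
    obtain ⟨s, h10, h11, v, h12⟩ := h9
    choose r hr using rank_one h3 (hQ s h10 h11) (h12 ▸ b.ne_zero i)
    rw [h12] at hr
    refine ⟨s, h10, fun j => r (b j), fun j => by rw [hr, LinearMap.sub_apply]; simp, ?_, fun k => b.ne_zero i ?_⟩
    · have h13 := hr (b i)
      rw [← h12, hQ s h10 h11, h12] at h13
      exact (smul_eq_zero.1 h13).resolve_right (b.ne_zero i)
    · rw [← h12, b.ext (f₁ := ρ s - 1) (f₂ := 0) fun j => by rw [← hr, show r (b j) = 0 from k j, zero_smul]; rfl]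
      rfl
  choose s hs r hr hr0 hr1 using h8
  let cmb : P → V := fun x => x.1 • b 0 + x.2.1 • b 1 + x.2.2 • b 2
  have h9 : ∀ i x, ρ (s i) (cmb x) = cmb (st (r 0 1) (r 0 2) (r 1 0) (r 1 2) (r 2 0) (r 2 1) i x) := fun i x => by
    have h10 := hr0 i
    obtain rfl | rfl | rfl : i = 0 ∨ i = 1 ∨ i = 2 := by omega
    all_goals
      simp only [cmb, st, map_add, map_smul, hr, h10, Fin.isValue, Fin.reduceEq, if_true, if_false]
      module
  have h10 : ∀ (w : List (Fin 3)) x, ρ (w.map s).prod (cmb x) =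
      cmb (ev (r 0 1) (r 0 2) (r 1 0) (r 1 2) (r 2 0) (r 2 1) w x) := fun w x => by
    induction w with
    | nil => simp [ev]
    | cons i w ih => rw [List.map_cons, List.prod_cons, map_mul, End.mul_apply, ih, h9]; rfl
  have h11 : ∀ i j k : Fin 3, (∀ l, l = i ∨ l = j ∨ l = k) → ¬ (r i j = 0 ∧ r i k = 0) := fun i j k h h' => hr1 i fun l => by
    rcases h l with rfl | rfl | rfl
    exacts [hr0 _, h'.1, h'.2]
  obtain ⟨w, -, h12, x, -, h13⟩ := tab _ _ _ _ _ _ (h11 0 1 2 (by omega)) (h11 1 0 2 (by omega)) (h11 2 0 1 (by omega))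
  have h14 : (w.map s).prod ∈ B := list_prod_mem fun y hy => by
    obtain ⟨i, -, rfl⟩ := List.mem_map.1 hy
    exact hs i
  have h16 := h10 w
  generalize (w.map s).prod = n at h14 h16
  have h15 := hQ _ h14 (b.ext fun j => by
    obtain ⟨y, h15, h17⟩ : ∃ y ∈ bs, cmb y = b j := by
      obtain rfl | rfl | rfl : j = 0 ∨ j = 1 ∨ j = 2 := by omega
      exacts [⟨(1, 0, 0), by simp [bs], by simp [cmb]⟩, ⟨(0, 1, 0), by simp [bs], by simp [cmb]⟩,
        ⟨(0, 0, 1), by simp [bs], by simp [cmb]⟩]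
    rw [← h17, pow_three, End.mul_apply, End.mul_apply, h16, h16, h16, h12 y h15]
    rfl) (cmb x)
  simp only [LinearMap.sub_apply, map_sub, End.one_apply, h16] at h15
  generalize ev _ _ _ _ _ _ w (ev _ _ _ _ _ _ w x) = z at h13 h15
  generalize ev _ _ _ _ _ _ w x = y at h13 h15
  have h17 := Fintype.linearIndependent_iff.1 b.linearIndependent
    ![z.1 - y.1 - (y.1 - x.1), z.2.1 - y.2.1 - (y.2.1 - x.2.1), z.2.2 - y.2.2 - (y.2.2 - x.2.2)] (by
      rw [← h15, Fin.sum_univ_three]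
      simp only [cmb, Matrix.cons_val_zero, Matrix.cons_val_one, Matrix.cons_val]
      module)
  have h18 : ∀ a b c : ZMod 3, a - b - (b - c) = 0 → a + b + c = 0 := by decide
  exact h13 (Prod.ext (h18 _ _ _ (h17 0)) (Prod.ext (h18 _ _ _ (h17 1)) (h18 _ _ _ (h17 2))))

theorem reg {V : Type} [CommGroup V] [Finite V] (hc : Nat.card V = 27) (h3 : ∀ x : V, x ^ 3 = 1) (φ : Γ →* MulAut V)
    (B : Subgroup Γ) [B.Normal] (irr : ∀ W : Subgroup V, (∀ g, ∀ w ∈ W, φ g w ∈ W) → W = ⊥ ∨ W = ⊤) {t : Γ} (ht : t ∈ B)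
    (h1 : φ t ≠ 1) (h2 : φ (t ^ 3) = 1) :
    ∃ n ∈ B, φ (n ^ 3) = 1 ∧ ∃ e, φ n (φ n e * e⁻¹) * (φ n e * e⁻¹)⁻¹ ≠ 1 := by
  let _ : Module (ZMod 3) (Additive V) := AddCommGroup.zmodModule (n := 3) fun x => h3 x.toMul
  let ρ : Γ →* End (ZMod 3) (Additive V) :=
    { toFun := fun g => AddMonoidHom.toZModLinearMap 3 (MonoidHom.toAdditive (φ g).toMonoidHom)
      map_one' := LinearMap.ext fun x => by rw [map_one]; rfl
      map_mul' := fun g h => LinearMap.ext fun x => by rw [map_mul]; rfl }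
  have h4 : ∀ g, ρ g = 1 ↔ φ g = 1 := fun g => ⟨fun k => MulEquiv.ext fun x => LinearMap.congr_fun k (Additive.ofMul x),
    fun k => LinearMap.ext fun x => MulEquiv.congr_fun k x.toMul⟩
  have h5 : finrank (ZMod 3) (Additive V) = 3 := by
    have h6 := natCard_eq_pow_finrank (K := ZMod 3) (V := Additive V)
    rw [Nat.card_zmod, Nat.card_congr Additive.toMul, hc] at h6
    exact Nat.pow_right_injective (by norm_num : 2 ≤ 3) (h6.symm.trans (by norm_num))
  obtain ⟨n, h6, h7, v, h8⟩ := reg_lin ρ h5 B (fun W hW => by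
    rcases irr (AddSubgroup.toSubgroup' W.toAddSubgroup) (fun g w hw => hW g _ hw) with k | k
    · exact Or.inl (eq_bot_iff.2 fun x hx => k.le (x := x.toMul) hx)
    · exact Or.inr (eq_top_iff.2 fun x _ => k.ge (mem_top x.toMul))) ht (fun k => h1 ((h4 t).1 k))
    (by rw [← map_pow]; exact (h4 _).2 h2)
  refine ⟨n, h6, (h4 _).1 (by rw [map_pow, h7]), v.toMul, fun k => h8 ?_⟩
  rw [LinearMap.sub_apply, LinearMap.sub_apply, sub_eq_add_neg, sub_eq_add_neg]
  exact k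

end Rg

theorem boxReg : BoxReg := by
  intro G _ _ H A E h hc
  let _ : CommGroup E := { (inferInstance : Group E) with mul_comm := fun a b => Subtype.ext (h.comm a a.2 b b.2) }
  obtain ⟨n, h1, h2, h3⟩ := h.ex
  have := h.normal
  obtain ⟨a, ha, h4, e, h5⟩ := Rg.reg hc (fun x => Subtype.ext (h.pow x x.2)) h.act (A.subgroupOf H) h.irr
    (t := ⟨n, h.le h1⟩) h1 (fun k => h2 ((h.act_eq_one _).1 k)) ((h.act_eq_one _).2 h3)
  exact ⟨a, ha, (h.act_eq_one _).1 h4, e, e.2, fun k => h5 (Subtype.ext k)⟩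

end Cfsg.Agent.N2.Ex.Loc
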