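import Cfsg.Agent.N2.Ex.Loc.Act
import Cfsg.Agent.N2.Ex.Loc.Reg
import Cfsg.Agent.N2.Ex.Loc.Odd

/-!
# N2, exceptional groups, the local case: the Jordan subgroups (helper75)

`gd_of_jor` : the normalisers of `3³ < F₄`, `3³ < E₆`, `5³ < E₈`, `2⁵ < E₈` are good.
-/

set_option autoImplicit false
set_option linter.unusedSectionVars false

namespace Cfsg.Agent.N2.Ex.Loc

open CoxeterSystem Cfsg Cfsg.Lie Cfsg.Lie.ChevalleyDatum
open Cfsg.Agent.ChevalleyStructure Cfsg.Agent.Nodes.RGDChev Cfsg.Agent.KFacts.RgdChevCoord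
open Cfsg.Agent.H469.Exc Cfsg.Agent.H316.U6 Cfsg.Agent.DS.Ex
open Cfsg.Agent.DS.Nt
open Cfsg.Agent.H931.KC (nmk hr)
open Cfsg.Agent.SB.Exc (XF nP dM ordU degs)
open Cfsg.Agent.SB.Exc.NT (ea_of_el neE6_F4 neE6_E7 neE6_E8 neE7_E8 three_le)
open Cfsg.Agent.TH.Ab.NT (Bd caseA)
open Module (finrank)

theorem bd_le {D : ChevalleyDatum} {r a : ℕ} (h : Bd D r a) : (D = chevF4 → r = 3 → a ≤ 909792) ∧
    (D = chevE6 → r = 3 → a ≤ 24564384) ∧ (D = chevE8 → r = 5 → a ≤ 2 ^ 48) ∧ (D = chevE8 → r = 2 → a ≤ 2 ^ 48) := by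
  have k : ∀ {n m : ℕ}, a ∣ n → 0 < n ∧ n ≤ m → a ≤ m := fun h1 h2 => (Nat.le_of_dvd h2.1 h1).trans h2.2
  rcases h with ⟨rfl, h⟩ | ⟨rfl, h⟩ | ⟨rfl, h⟩ | ⟨rfl, h⟩
  · exact ⟨fun _ e => k (h.resolve_right fun h => by omega).2 (by decide +kernel), fun e => absurd e neE6_F4,
      fun e => absurd e.symm neF4_E8, fun e => absurd e.symm neF4_E8⟩
  · exact ⟨fun e => absurd e.symm neE6_F4, fun _ e => k (h.resolve_right fun h => by omega).2 (by decide +kernel),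
      fun e => absurd e.symm neE6_E8, fun e => absurd e.symm neE6_E8⟩
  · exact ⟨fun e => absurd e neF4_E7, fun e => absurd e neE6_E7, fun e => absurd e.symm neE7_E8,
      fun e => absurd e.symm neE7_E8⟩
  · refine ⟨fun e => absurd e neF4_E8, fun e => absurd e neE6_E8, fun _ e => ?_, fun _ e => ?_⟩ <;>
      rcases h with h | h | h | h
    exacts [k h.2 (by decide +kernel), by omega, by omega, by omega,
      by omega, k h.2 (by decide +kernel), k h.2 (by decide +kernel), by omega]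

variable {D : ChevalleyDatum} {l : ℕ} {M : CoxeterMatrix (Fin l)} {hp : IsType D l M} {p : ℕ} [Fact p.Prime]
  {G : Type} [Group G] [Finite G] {T H E : Subgroup G} {r f : ℕ} {tw : Bool}

theorem gd_Y {q : ℕ} (F : XF hp p q T) {y : YY D p} (hy : y ∈ im F.L H) {m : ℕ} (hm : y ^ m = 1) (ho : m.Coprime p)
    {k n c q₀ : ℕ} (hk : dd p y ≤ l + k) (hn : Nat.card ↥(H ⊓ T) ≤ n) (hc : nmk D l ≤ c) (h0 : 0 < q₀) (hq : q₀ ≤ q)
    (hd : 3 * k + 3 * l ≤ nP l + (degs l).sum)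
    (h : dM l * c ^ 3 * n * (q₀ ^ (3 * k) * (q₀ + 1) ^ (3 * l)) ≤ ordU l q₀) : Gd T H := by
  obtain ⟨a, ha, rfl⟩ := hy
  exact gd_num F ha (cop_of_pow (F.L.inj (by rw [map_pow, hm, map_one])) ho) hk hn hc h0 hq hd h

section L

variable {L : Lift hp p T}

theorem im_mono {A B : Subgroup G} (h : A ≤ B) : im L A ≤ im L B := fun _ ⟨x, hx, e⟩ => ⟨x, h hx, e⟩

theorem comm_CT {y : YY D p} (hy : y ∈ im L (CT T E)) : ∀ e ∈ im L E, y * e = e * y := by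
  obtain ⟨x, hx, rfl⟩ := hy
  exact fun e he => ι_comm hx.1 he

theorem conj_im (hL : DS.Loc T H E r) {y : YY D p} (hy : y ∈ im L H) : ∀ e ∈ im L E, y * e * y⁻¹ ∈ im L E := by
  obtain ⟨a, ha, rfl⟩ := hy
  rintro _ ⟨x, hx, rfl⟩
  rw [← map_inv, ← map_mul, ← map_mul]
  exact ι_mem_im.2 (conj_E hL ha hx)

theorem conj_im' (hL : DS.Loc T H E r) {y : YY D p} (hy : y ∈ im L H) : ∀ e ∈ im L E, y⁻¹ * e * y ∈ im L E :=
  fun e he => by simpa using conj_im hL (inv_mem hy) e he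

theorem over_CT (N : DS.Nt.Ctx L H) (hL : DS.Loc T H E r) (hE : EA p r (im L E)) (h : OutA L E r) {x : YY D p}
    (hx : x ∈ im L (CT T E)) (hxr : x ^ r = 1) (ht : ∀ e ∈ im L E, Tp p e x) : ∃ B : Subgroup (YY D p), EA p r B ∧
      im L E ≤ B ∧ x ∈ B ∧ ∀ e ∈ B, e ≠ 1 → ∃ i, hr D l i = r ∧ e ∈ Om hp p r i :=
  have := finite_im L (CT T E)
  exists_over hp N.typ hE (cen0 N hL hE h) (im_mono (le_CT hL)) hx (comm_CT hx) hxr ht

/-- an element of order `r²` of the centraliser -/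
theorem exists_low (hE : EA p r (im L E)) (hP : IsPGroup r ↥(CT T E)) (h0 : Fx p (im L E : Set (YY D p)) = ⊥)
    (hL : DS.Loc T H E r) (h : ¬ ∀ x ∈ im L (CT T E), x ^ r = 1) : ∃ g ∈ im L (CT T E), g ^ r ≠ 1 ∧ (g ^ r) ^ r = 1 ∧
      ∃ y ∈ im L H, y ^ r ^ 2 = 1 ∧ r * dd p y ≤ dd p (g ^ r) := by
  push Not at h
  obtain ⟨x, hx, h1⟩ := h
  obtain ⟨j, h2, h3⟩ := exists_sq h1 (by
    obtain ⟨k, hk⟩ := isPGroup_im (L := L) hP ⟨x, hx⟩
    exact ⟨k, congrArg Subtype.val hk⟩)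
  have hg := pow_mem hx j
  obtain ⟨e, he, h4⟩ := exists_av hE.el h0 (comm_CT hg) h3
  refine ⟨_, hg, h2, by rw [← pow_mul, ← pow_two, h3], _, mul_mem (im_mono (CT_le hL) hg) (im_mono (E_le hL) he), ?_, h4⟩
  rw [(show Commute _ e from comm_CT hg e he).mul_pow, h3, pow_two, pow_mul e, hE.pow e he, one_pow, one_mul]

theorem card_gt (N : DS.Nt.Ctx L H) (hL : DS.Loc T H E r) (hE : EA p r (im L E)) : r ^ 3 ≤ Nat.card (im L E) := by
  obtain ⟨k, hk⟩ := hE.el.exists_card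
  have h1 : ¬ Nat.card (im L E) ≤ r ^ 2 := fun h => N.not_toral hL (hE.toral_of_card h)
  rw [hk, Nat.pow_le_pow_iff_right hE.prime.one_lt] at h1 ⊢
  omega

end L

theorem pure3 (hp : IsType D l M) (hN : l + D.nroots = 13 * l) {B : Subgroup (YY D p)} (h : EL p 3 B)
    (hd : ∀ e ∈ B, e ≠ 1 → dd p e = 4 * l) :
    Nat.card B * (2 * finrank (KK p) (Fx p (B : Set (YY D p))) + l) = 27 * l := by
  have h3 := pure_eq hp h hd
  rw [hN] at h3
  zify
  push_cast at h3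
  linear_combination h3

variable {F : XF hp p (p ^ f) T}

theorem jor3 (hRk : BoxRk) (C : NC tw f F H) (hL : DS.Loc T H E 3) (hE : EA p 3 (im F.L E)) (hA : OutA F.L E 3)
    (hD : D = chevF4 ∨ D = chevE6) (hN : l + D.nroots = 13 * l) (hl : 0 < l)
    (hi : ∀ e : YY D p, (∃ i, hr D l i = (3 : ℕ) ∧ e ∈ Om hp p 3 i) → dd p e = 4 * l) :
    ∃ y ∈ im F.L H, y ^ 3 ^ 2 = 1 ∧ dd p y ≤ l + l := by
  have N := C.nt
  have hd : ∀ e ∈ im F.L E, e ≠ 1 → dd p e = 4 * l := fun e he h1 => hi e (N.iso hL hE he h1)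
  have hP := cen_p N hL hE hA
  have a1 := pure3 hp hN hE.el hd
  have a2 := card_gt N hL hE
  have hle : ∀ {n δ : ℕ}, n * (2 * δ + l) = 27 * l → n ≤ 27 := fun h =>
    Nat.le_of_mul_le_mul_right (h ▸ Nat.mul_le_mul_left _ (Nat.le_add_left _ _)) hl
  have h27 : Nat.card (im F.L E) = 27 := le_antisymm (hle a1) a2
  have h0 : Fx p (im F.L E : Set (YY D p)) = ⊥ := Submodule.finrank_eq_zero.1 (by rw [h27] at a1; omega)
  have := hE.fin
  have hmem : ∀ x ∈ im F.L (CT T E), x ^ 3 = 1 → (∀ e ∈ im F.L E, Tp p e x) → x ∈ im F.L E := fun x hx h1 h2 => by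
    obtain ⟨B, b1, b2, b3, b4⟩ := over_CT N hL hE hA hx h1 h2
    have := b1.fin
    rwa [Subgroup.eq_of_le_of_card_ge b2 (h27 ▸ hle (pure3 hp hN b1.el fun e he h => hi e (b4 e he h)))]
  have hout : ∀ x ∈ im F.L (CT T E), x ^ 3 = 1 → x ∉ im F.L E →
      D = chevE6 ∧ (dd p x = 24 ∨ dd p x = 30) ∧ ∃ e ∈ im F.L E, ¬ Tp p x e := fun x hx h1 h2 => by
    have h3 : ∃ e ∈ im F.L E, ¬ Tp p x e := by
      by_contra h3
      exact h2 (hmem x hx h1 fun e he => (not_not.1 fun h4 => h3 ⟨e, he, h4⟩).symm)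
    obtain ⟨K, k1, -, k2 | k2 | k2⟩ := exists_DD hp N.typ hE.prime hE.ne h1
    · obtain ⟨e, he, h4⟩ := h3
      exact absurd ((k1 e (comm_CT hx e he).symm ⟨1, by rw [pow_one, hE.pow e he]⟩).2 (k2 e (comm_CT hx e he).symm)) h4
    · exact ⟨k2.1, k2.2.2, h3⟩
    · omega
  by_cases h3 : ∀ x ∈ im F.L (CT T E), x ^ 3 = 1
  swap
  · obtain ⟨g, hg, b1, b2, y, hy, b3, b4⟩ := exists_low hE hP h0 hL h3
    rw [hd _ (hmem _ (pow_mem hg 3) b2 fun e he => by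
      obtain ⟨K, k1, k2, -⟩ := exists_DD hp N.typ hE.prime hE.ne (hE.pow e he)
      exact (k1 _ (comm_CT (pow_mem hg 3) e he) ⟨1, by rw [pow_one, b2]⟩).2
        (k2 g g (comm_CT hg e he) (comm_CT hg e he)).2) b1] at b4
    exact ⟨y, hy, b3, by omega⟩
  rcases sy hL hP with hI | ⟨b1, b2⟩
  swap
  · exfalso
    have b3 := b1 4 (dvd81 C hE.ne hD)
    rw [← card_im (L := F.L) (E := CT T E) inf_le_right] at b3
    obtain ⟨x, hx, b4⟩ : ∃ x ∈ im F.L (CT T E), x ∉ im F.L E := by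
      by_contra b4
      have := Subgroup.card_le_of_le (H := im F.L (CT T E)) (K := im F.L E) fun x hx => not_not.1 fun h => b4 ⟨x, hx, h⟩
      omega
    obtain ⟨rfl, -, e, he, b5⟩ := hout x hx (h3 x hx) b4
    have b6 := comm_CT hx e he
    have b7 := h3 x hx
    have b8 := hE.pow e he
    obtain ⟨x, -, rfl⟩ := hx
    obtain ⟨e, -, rfl⟩ := he
    obtain ⟨-, y, c1, c2⟩ := (hRk _ l M hp p _ G T F).2 rfl hE.ne.symm ⟨x, e, F.L.inj (by rw [map_pow, b7, map_one]),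
      F.L.inj (by rw [map_pow, b8, map_one]), F.L.inj (by rw [map_mul, map_mul, b6]), b5⟩
    obtain ⟨g, hg⟩ := b2 y c1
    have c3 := (ι_mem_im (L := F.L)).2 hg
    have c4 : dd p (F.L.ι (g * y * g⁻¹)) = 36 := by rw [map_mul, map_mul, map_inv, dd_conj, c2]
    obtain rfl := (typ_l hp).2.1 rfl
    by_cases c5 : F.L.ι (g * y * g⁻¹) ∈ im F.L E
    · have := hd _ c5 fun h => by
        rw [h, dd_one hp] at c4
        omega
      omega
    · have := (hout _ c3 (h3 _ c3) c5).2.1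
      omega
  obtain ⟨n, hn, b1, x, hx, b2⟩ := boxReg G H (H ⊓ T) E hI (by rw [← card_im (L := F.L) hL.le_S, h27])
  have c1 : (F.L.ι ⟨n, hn.2⟩)⁻¹ ∈ im F.L H := inv_mem (ι_mem_im.2 hn.1)
  have c2 : (F.L.ι ⟨n, hn.2⟩)⁻¹ ^ 3 ∈ im F.L (CT T E) := by
    rw [inv_pow, ← map_pow]
    exact inv_mem (ι_mem_im.2 ⟨b1, pow_mem hn.2 3⟩)
  have c3 : ∀ e ∈ im F.L E, ((F.L.ι ⟨n, hn.2⟩)⁻¹ * e) ^ 3 ∈ im F.L (CT T E) := fun e he => by
    rw [cube_eq]
    exact mul_mem c2 (im_mono (le_CT hL) (mul_mem (mul_mem (conj_im' hL c1 _ (conj_im' hL c1 e he)) (conj_im' hL c1 e he)) he))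
  have c4 : ∀ e ∈ im F.L E, dd p ((F.L.ι ⟨n, hn.2⟩)⁻¹ * e) ≤ l + l → ∃ y ∈ im F.L H, y ^ 3 ^ 2 = 1 ∧ dd p y ≤ l + l :=
    fun e he h => ⟨_, mul_mem c1 (im_mono (E_le hL) he), by rw [pow_two, pow_mul, h3 _ (c3 e he)], h⟩
  rcases reg_Y hE.el hd h27 h0 (δ := l) (fun W h1 h2 => by
      have d1 := pure3 hp hN (EL.mono' hE.el h1) fun e he => hd e (h1 he)
      obtain ⟨k, hk⟩ := (EL.mono' hE.el h1).exists_card
      have d2 : 3 ^ 2 ≤ Nat.card W := by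
        rw [hk] at h2 ⊢
        refine Nat.pow_le_pow_right (by norm_num) ?_
        by_contra d2
        have : k = 0 ∨ k = 1 := by omega
        rcases this with rfl | rfl <;> omega
      have d3 := Nat.mul_le_mul_right (2 * finrank (KK p) (Fx p (W : Set (YY D p))) + l) d2
      omega)
    (conj_im' hL c1) (conj_im hL c1) (comm_CT c2) ((ι_mem_im (x := ⟨x, hL.le_S hx⟩)).2 hx) (fun h => b2 (by
      have d1 := h.inv_left
      rw [inv_inv, ← map_inv, ← map_inv, ← map_mul, ← map_mul, ← map_mul] at d1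
      exact commutatorElement_eq_one_iff_commute.2 (congrArg Subtype.val
        (F.L.inj ((map_mul _ _ _).trans (d1.eq.trans (map_mul _ _ _).symm)))))) with ⟨e, he, h⟩ | ⟨e, he, h1, h⟩
  · exact c4 e he (by omega)
  · obtain ⟨rfl, d1, -⟩ := hout _ (c3 e he) (h3 _ (c3 e he)) h1
    obtain rfl := (typ_l hp).2.1 rfl
    exact c4 e he (by omega)

theorem jor2 {M : CoxeterMatrix (Fin 8)} {hp : IsType chevE8 8 M} {F : XF hp p (p ^ f) T} (C : NC tw f F H)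
    (hL : DS.Loc T H E 2) (hE : EA p 2 (im F.L E)) (hA : OutA F.L E 2) (hd : ∀ e ∈ im F.L E, e ≠ 1 → dd p e = 120) :
    ∃ y ∈ im F.L H, ∃ m, y ^ m = 1 ∧ m.Coprime p ∧ dd p y ≤ 8 + 60 := by
  have N := C.nt
  have hP := cen_p N hL hE hA
  have hN : 8 + chevE8.nroots = 248 := by rw [nrE8]
  have h2p : Nat.Coprime 2 p := (Nat.coprime_primes Nat.prime_two Fact.out).2 hE.ne
  have := hE.fin
  have hi : ∀ e : YY chevE8 p, (∃ i, hr chevE8 8 i = (2 : ℕ) ∧ e ∈ Om hp p 2 i) → dd p e = 120 ∨ dd p e = 136 :=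
    fun e h => ((iso_E8 Nat.prime_two h).resolve_right fun h =>
      h.elim (fun h => absurd h.1 (by norm_num)) fun h => absurd h.1 (by norm_num)).2.imp_right And.left
  obtain ⟨k, δ, a1, a2, a3⟩ := pure_eq' hp nrE8 hE.el hd
  have a4 : 2 ^ k * (δ + 8) = 256 := by zify; push_cast at a3; linear_combination a3
  have hk : k = 5 := by
    obtain ⟨⟨A, b1, b2, b3⟩, -⟩ := hA
    obtain ⟨j, δ', c1, c2, c3⟩ := pure_eq' hp nrE8 (hE.mono b1).el fun e he => hd e (b1 he)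
    rw [b3] at c2
    subst c2
    have c4 : 2 ^ j = 16 := by zify; push_cast at c3; linarith
    have c5 : ¬ 2 ^ k ≤ 2 ^ 4 := fun h => N.not_toral hL (Subgroup.eq_of_le_of_card_ge b1 (by omega) ▸ b2)
    have c6 : 2 ^ k < 2 ^ 6 := by
      have := Nat.mul_le_mul_left (2 ^ k) (Nat.le_add_left 8 δ)
      omega
    rw [Nat.pow_le_pow_iff_right (by norm_num)] at c5
    rw [Nat.pow_lt_pow_iff_right (by norm_num)] at c6
    omega
  subst hk
  have h0 : Fx p (im F.L E : Set (YY chevE8 p)) = ⊥ := Submodule.finrank_eq_zero.1 (by omega)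
  have hc : ∀ x ∈ im F.L (CT T E), x ^ 2 = 1 → x ≠ 1 → dd p x = 120 ∨ dd p x = 136 := fun x hx h1 h2 => by
    obtain ⟨B, -, -, b3, b4⟩ := over_CT N hL hE hA hx h1 fun e he => by
      obtain ⟨K, k1, -, k2 | k2 | k2⟩ := exists_DD hp N.typ hE.prime hE.ne (hE.pow e he)
      · exact (k1 x (comm_CT hx e he) ⟨1, by rw [pow_one, h1]⟩).2 (k2 x (comm_CT hx e he))
      · omega
      · exact absurd k2.1 neE7_E8
    exact hi x (b4 x b3 h2)
  by_cases h2 : ∀ x ∈ im F.L (CT T E), x ^ 2 = 1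
  swap
  · obtain ⟨g, hg, b1, b2, y, hy, b3, b4⟩ := exists_low hE hP h0 hL h2
    have := hc _ (pow_mem hg 2) b2 b1
    exact ⟨y, hy, _, b3, h2p.pow_left 2, by omega⟩
  rcases sy hL hP with hI | ⟨b1, -⟩
  swap
  · exfalso
    have b3 := b1 14 (dvd14 C hE.ne rfl)
    rw [← card_im (L := F.L) (E := CT T E) inf_le_right] at b3
    have hB : EL p 2 (im F.L (CT T E)) := ⟨hE.prime, hE.ne, finite_im _ _, fun x hx y hy => by
      have k : ∀ z ∈ im F.L (CT T E), z⁻¹ = z := fun z hz => inv_eq_of_mul_eq_one_left (by rw [← pow_two, h2 z hz])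
      rw [← k _ (mul_mem hx hy), mul_inv_rev, k x hx, k y hy], h2⟩
    have b4 := card_le_of_dvd hB (k := 13) (dvd_two hp hB {-8, 24} fun e he h1 => by
      rw [nrE8]
      rcases hc e he (h2 e he) h1 with h | h <;> rw [h] <;> decide) (by rw [nrE8]; decide)
    omega
  obtain ⟨a, ha, s, hs, b1, b2, b3, b4⟩ := boxOdd G H (H ⊓ T) E hI ((card_im (L := F.L) hL.le_S).symm.trans a1) p Fact.out
  have hs2 : Nat.Coprime 2 s := (Nat.coprime_primes Nat.prime_two hs).2 b1.symm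
  have c1 : F.L.ι ⟨a, ha.2⟩ ^ 2 ∈ im F.L H := pow_mem (ι_mem_im.2 ha.1) 2
  have c2 : (F.L.ι ⟨a, ha.2⟩ ^ 2) ^ s = 1 := by
    rw [← pow_mul, mul_comm, pow_mul, ← map_pow]
    exact h2 _ (ι_mem_im.2 ⟨b4, pow_mem ha.2 s⟩)
  obtain ⟨x, hx, c3⟩ : ∃ x ∈ im F.L E, F.L.ι ⟨a, ha.2⟩ ^ 2 * x ≠ x * F.L.ι ⟨a, ha.2⟩ ^ 2 := by
    by_contra c3
    push Not at c3
    refine b3 (mem_of_pow_coprime (Subgroup.mem_centralizer_iff.2 fun x hx => ?_) b4 hs2)
    have c4 := c3 _ ((ι_mem_im (x := ⟨x, hL.le_S hx⟩)).2 hx)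
    rw [← map_pow, ← map_mul, ← map_mul] at c4
    exact (congrArg Subtype.val (F.L.inj c4)).symm
  obtain ⟨e, he, c4, c5⟩ := odd_Y hp hN hE.el hd a1 (conj_im' hL c1) hs b1 b2 c2 hx c3
  refine ⟨_, mul_mem c1 (im_mono (E_le hL) he), 2 * s, ?_, h2p.mul_left ((Nat.coprime_primes hs Fact.out).2 b2), c5⟩
  rw [c4.mul_pow, pow_mul e, hE.pow e he, one_pow, mul_one, mul_comm, pow_mul, c2, one_pow]

theorem gd_of_jor (hRk : BoxRk) (C : NC tw f F H) (hL : DS.Loc T H E r) (hE : EA p r (im F.L E)) (h : Jor F.L E r) :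
    Gd T H := by
  obtain ⟨hA, d, hd, h⟩ := h
  have hB := bd_le (caseA C.nt hL hE hA)
  have hm := nmk_le hp C.typ
  have hq := le_q C
  have hq2 := (Fact.out : p.Prime).two_le.trans hq
  have hrp : r.Coprime p := (Nat.coprime_primes hE.prime Fact.out).2 hE.ne
  have hl := typ_l hp
  rcases h with ⟨rfl, rfl, rfl⟩ | ⟨rfl, rfl, rfl⟩ | ⟨rfl, rfl, rfl⟩ | ⟨rfl, rfl, rfl⟩
  · obtain rfl := hl.1 rfl
    obtain ⟨y, hy, h1, h2⟩ := jor3 hRk C hL hE hA (Or.inl rfl) (by rw [nrF4]) (by norm_num) fun e h =>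
      ((iso_F4 Nat.prime_three h).resolve_left fun h => absurd h.1 (by norm_num)).2
    exact gd_Y F hy h1 (hrp.pow_left 2) h2 (hB.1 rfl rfl) (hm.2.1 (Or.inl rfl)).le two_pos hq2 (by decide) (by decide +kernel)
  · obtain rfl := hl.2.1 rfl
    obtain ⟨y, hy, h1, h2⟩ := jor3 hRk C hL hE hA (Or.inr rfl) (by rw [nrE6]) (by norm_num) fun e h =>
      ((iso_E6 Nat.prime_three h).resolve_left fun h => absurd h.1 (by norm_num)).2
    exact gd_Y F hy h1 (hrp.pow_left 2) h2 (hB.2.1 rfl rfl) hm.1 two_pos hq2 (by decide) (by decide +kernel)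
  · obtain rfl := hl.2.2.2 rfl
    obtain ⟨e, he, h1⟩ := exists_ne_im F.L hL
    exact gd_Y F (im_mono (E_le hL) he) (hE.pow e he) hrp (k := 40) (hd e he h1).le (hB.2.2.1 rfl rfl)
      (hm.2.1 (Or.inr rfl)).le two_pos hq2 (by decide) (by decide +kernel)
  · obtain rfl := hl.2.2.2 rfl
    obtain ⟨y, hy, m, h1, h2, h3⟩ := jor2 C hL hE hA hd
    exact gd_Y F hy h1 h2 h3 (hB.2.2.2 rfl rfl) (hm.2.1 (Or.inr rfl)).le three_pos ((three_le hE.ne).trans hq)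
      (by decide) (by decide +kernel)

end Cfsg.Agent.N2.Ex.Loc
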