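import Cfsg.Agent.N2.Ex.Loc.Base
import Cfsg.Agent.DS.Nt.Box

/-!
# N2, exceptional groups, the local case: `E` is a Jordan subgroup (helper75)

* `fx_le` : if `E` contains elements with a subgroup `J z`, then the vectors fixed by `E` are fixed by `T`;
* `jor` : the four remaining cases `Jor`.
-/

set_option autoImplicit false
set_option linter.unusedSectionVars false

namespace Cfsg.Agent.N2.Ex.Loc

open CoxeterSystem Cfsg Cfsg.Lie Cfsg.Lie.ChevalleyDatum
open Cfsg.Agent.ChevalleyStructure Cfsg.Agent.Nodes.RGDChev Cfsg.Agent.KFacts.RgdChevCoord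
open Cfsg.Agent.H469.Exc Cfsg.Agent.H316.U6 Cfsg.Agent.DS.Ex
open Cfsg.Agent.DS.Nt
open Cfsg.Agent.SB.Exc (XF)
open Cfsg.Agent.SB.Exc.NT (f4_mul neE6_F4 neE6_E7 neE6_E8 neE7_E8)

section Gen

variable {D : ChevalleyDatum} {l : ℕ} {M : CoxeterMatrix (Fin l)} {hp : IsType D l M} {p : ℕ} [Fact p.Prime]
  {G : Type} [Group G] [Finite G] {T H E : Subgroup G} {r : ℕ} {L : Lift hp p T}

theorem comm_of_cen {X : Type*} [Group X] {u e k : X} {a b : ℕ} (hk : k = u * e * u⁻¹ * e⁻¹) (h : Commute u k)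
    (hu : u ^ a * e = e * u ^ a) (hb : k ^ b = 1) (hab : a.Coprime b) : u * e = e * u := by
  have h8 : ∀ j : ℕ, u ^ j * e = k ^ j * e * u ^ j := by
    intro j
    induction j with
    | zero => rw [pow_zero, pow_zero, one_mul, mul_one]
    | succ j ih =>
      have e2 : u * e = k * e * u := by
        rw [hk]
        group
      rw [pow_succ', mul_assoc, ih, ← mul_assoc, ← mul_assoc, (h.pow_right j).eq, mul_assoc (k ^ j), e2, pow_succ]
      group
  have h9 := h8 a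
  rw [hu] at h9
  have h10 : k ∈ (⊥ : Subgroup X) := mem_of_pow_coprime (a := a) (b := b)
    (Subgroup.mem_bot.2 (mul_right_cancel ((mul_right_cancel h9).symm.trans (one_mul e).symm))) (Subgroup.mem_bot.2 hb) hab
  rwa [Subgroup.mem_bot, hk, mul_inv_eq_one, mul_inv_eq_iff_eq_mul] at h10

theorem fx_le (C : DS.Nt.Ctx L H) (hL : DS.Loc T H E r) (hE : EA p r (im L E)) (h2 : D = chevF4 → p ≠ 2) {i : Fin l}
    {J : YY D p → Subgroup (YY D p)} (hJ : JS hp p r i J) (hF : FJ hp p r i J) {d : ℕ}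
    (hd : ∀ e ∈ im L E, e ∈ Om hp p r i ↔ dd p e = d) (hne : ∃ e ∈ im L E, dd p e = d) :
    Fx p (im L E : Set (YY D p)) ≤ Fx p (Set.range L.ι) := by
  have hD := stepD C hL hE h2 hJ hd hne
  have hS := hL.normal
  have hI : L.Inv H (im L E) := inv_im hS hL.norm.ge
  obtain ⟨s, hs, -⟩ := exists_Lp' p r
  have hN := C.noL hI hs
  have hnc : ∀ z ∈ im L E, dd p z = d → ¬ im L E ≤ Subgroup.centralizer (J z : Set (YY D p)) := fun z hz hz' h => by
    have h1 := hD.idx z hz hz'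
    rw [Subgroup.relIndex_eq_one.2 h] at h1
    exact absurd h1 (Nat.one_lt_pow two_ne_zero hE.prime.one_lt).ne
  let O : Set (YY D p) := {j | ∃ z ∈ im L E, dd p z = d ∧ j ∈ J z}
  have hK : L.Inv H (Subgroup.closure O) := inv_closure fun φ hφ j ⟨z, hz, hz', hj⟩ => by
    have h3 : dd p ((φ : MulAut (YY D p)) z) = d := by rw [dd_app h2 hE φ hz, hz']
    exact ⟨_, hI φ hφ z hz, h3, hJ.inv _ (L.sfr h2 φ φ.2) z ((hd z hz).2 hz') ((hd _ (hI φ hφ z hz)).2 h3) j hj⟩
  by_cases hT : pb L (Subgroup.closure O) = T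
  · rintro v hv _ ⟨x, rfl⟩
    have h3 : L.ι x ∈ Subgroup.closure O := coe_mem_pb.1 (hT.ge x.2)
    generalize L.ι x = y at h3
    induction h3 using Subgroup.closure_induction with
    | mem j hj =>
      obtain ⟨z, hz, hz', hj⟩ := hj
      exact hF s hs _ hE hN z hz ((hd z hz).2 hz') (hnc z hz hz') j hj v hv
    | one => exact ad_one v
    | mul x y _ _ hx hy => rw [ad_mul, hy, hx]
    | inv x _ hx =>
      conv_lhs => rw [← hx]
      rw [← ad_mul, inv_mul_cancel, ad_one]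
  exfalso
  obtain ⟨z, hz, hz'⟩ := hne
  have hzO := (hd z hz).2 hz'
  have hH : pb L (Subgroup.closure O) ≤ H := by
    rw [← DS.Gen.normalizer_eq_of_setup hL.toSetup (pb_le _) (fun h => ?_) hT (norm_pb hS hK)]
    · exact Subgroup.le_normalizer
    obtain ⟨x, hx, rfl⟩ := id hz
    have h3 := (coe_mem_pb (L := L)).2 (Subgroup.subset_closure (k := O) ⟨_, hz, hz', hJ.mem _ hzO⟩)
    rw [h, Subgroup.mem_bot] at h3
    rw [show x = 1 from Subtype.ext h3, map_one] at hzO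
    exact one_not_mem_Om hE.prime hzO
  obtain ⟨g, hg⟩ := C.fr
  obtain ⟨u, huJ, hu, ⟨n, hn⟩, huc⟩ := hJ.fix L.σ L.e g L.he L.frob hg z hzO (by
    obtain ⟨x, -, rfl⟩ := hz
    exact L.fix x)
  obtain ⟨v, rfl⟩ := L.pel u hu ⟨n, hn⟩
  have hv : (v : G) ∈ H := hH (coe_mem_pb.2 (Subgroup.subset_closure ⟨z, hz, hz', huJ⟩))
  obtain ⟨-, d2, -⟩ := hJ.dich s hs _ hE hN z hz hzO (hnc z hz hz')
  have hco : Nat.Coprime (p ^ n) r :=
    Nat.Coprime.pow_left n ((Nat.coprime_primes Fact.out hE.prime).2 hE.ne.symm)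
  have huE : ∀ e ∈ im L E, L.ι v * e = e * L.ι v := by
    intro e he
    have h3 : L.ι v * e * (L.ι v)⁻¹ ∈ im L E := by
      obtain ⟨x, hx, rfl⟩ := he
      rw [← map_inv, ← map_mul, ← map_mul]
      exact ι_mem_im.2 (conj_E hL hv hx)
    have e1 : MulAut.conj e z = z := by
      rw [MulAut.conj_apply, hE.comm e he z hz, mul_inv_cancel_right]
    have h4 : e * (L.ι v)⁻¹ * e⁻¹ ∈ J z := by
      have h5 := hJ.inv (MulAut.conj e) (sfr_conj hp e) z hzO (by rwa [e1]) _ (inv_mem huJ)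
      rwa [e1] at h5
    have h5 := mul_mem h3 (inv_mem he)
    refine comm_of_cen rfl (Subgroup.mem_centralizer_iff.1 (d2 _ h5 ?_) _ huJ)
      (by rw [hn, one_mul, mul_one]) (hE.pow _ h5) hco
    rw [mul_assoc, mul_assoc, ← mul_assoc e]
    exact mul_mem huJ h4
  have h3 : (v : G) ^ r = 1 := hD.pow v ⟨Subgroup.mem_centralizer_iff.2 fun x hx => by
    have h4 := huE _ ((ι_mem_im (x := ⟨x, hL.le_S hx⟩)).2 hx)
    rw [← map_mul, ← map_mul] at h4
    exact (congrArg Subtype.val (L.inj h4)).symm, v.2⟩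
  refine huc (mem_of_pow_coprime (a := p ^ n) (b := r) (by rw [hn]; exact one_mem _) ?_ hco)
  rw [← map_pow, show v ^ r = 1 from Subtype.ext h3, map_one]
  exact one_mem _

theorem dd_inv (x : YY D p) : dd p x⁻¹ = dd p x := by
  have key : ∀ (y : YY D p) v, ad D p y v = v → ad D p y⁻¹ v = v := fun y v h => by
    conv_lhs => rw [← h]
    rw [← ad_mul, inv_mul_cancel, ad_one]
  refine congrArg (fun U : Submodule (KK p) (D.Idx → KK p) => Module.finrank (KK p) U) (Submodule.ext fun v => ?_)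
  rw [Module.End.mem_eigenspace_iff, Module.End.mem_eigenspace_iff, one_smul]
  exact ⟨fun h => by simpa using key _ v h, key x v⟩

/-- a class which is closed under products is empty or everything -/
theorem cls (hL : DS.Loc T H E r) (hE : EA p r (im L E)) (h2 : D = chevF4 → p ≠ 2) (d : ℕ)
    (h : ∀ x ∈ im L E, ∀ y ∈ im L E, dd p x = d → dd p y = d → x * y ≠ 1 → dd p (x * y) = d) :
    (∀ x ∈ im L E, x ≠ 1 → dd p x ≠ d) ∨ ∀ x ∈ im L E, x ≠ 1 → dd p x = d := by
  let K : Subgroup (YY D p) :=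
    { carrier := {x | x ∈ im L E ∧ (x ≠ 1 → dd p x = d)}
      one_mem' := ⟨one_mem _, fun h => absurd rfl h⟩
      mul_mem' := by
        rintro x y ⟨hx, h1⟩ ⟨hy, h2⟩
        refine ⟨mul_mem hx hy, fun h3 => ?_⟩
        by_cases a : x = 1
        · rw [a, one_mul] at h3 ⊢
          exact h2 h3
        by_cases b : y = 1
        · rw [b, mul_one]
          exact h1 a
        exact h x hx y hy (h1 a) (h2 b) h3
      inv_mem' := by
        rintro x ⟨hx, h1⟩
        exact ⟨inv_mem hx, fun h3 => by rw [dd_inv, h1 (inv_ne_one.1 h3)]⟩ }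
  rcases min_inv hL (A := K) (fun x hx => hx.1) (fun φ hφ x hx => ⟨inv_im hL.normal hL.norm.ge φ hφ x hx.1, fun h3 => by
    rw [dd_app h2 hE φ hx.1, hx.2 fun e => h3 (by rw [e, map_one])]⟩) with h1 | h1
  · exact Or.inl fun x hx h3 h4 => h3 (Subgroup.mem_bot.1 (h1.le ⟨hx, fun _ => h4⟩))
  · exact Or.inr fun x hx => (h1.ge hx).2

/-- the count in `E₈`, `r = 2` -/
theorem cnt_two {X : Type*} [Group X] {Z P : Subgroup X} [Finite Z] {q : X → Prop} {z x₀ : X} (hz : z ∈ Z) (hzP : z ∈ P)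
    (hidx : P.relIndex Z = 4) (hin : ∀ x ∈ Z, x ∈ P → ¬ q x → q (x * z)) (h0 : x₀ ∈ Z) (h1 : x₀ ∉ P) (h2 : q x₀) :
    Nat.card Z + 8 ≤ 8 * Nat.card {e : Z // q e} := by
  classical
  have := Fintype.ofFinite Z
  have a1 : (Finset.univ.filter fun e : Z => (e : X) ∈ P).card * 4 = Nat.card Z := by
    rw [← hidx, ← Fintype.card_subtype, ← Nat.card_eq_fintype_card]
    exact (P.subgroupOf Z).card_mul_index
  have a2 := Finset.card_filter_add_card_filter_not (s := Finset.univ.filter fun e : Z => (e : X) ∈ P) fun e : Z => q e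
  have a3 : ((Finset.univ.filter fun e : Z => (e : X) ∈ P).filter fun e : Z => ¬ q e).card ≤
      ((Finset.univ.filter fun e : Z => (e : X) ∈ P).filter fun e : Z => q e).card := by
    refine Finset.card_le_card_of_injOn (fun e => e * ⟨z, hz⟩) (fun e he => ?_) fun a _ b _ h => mul_right_cancel h
    simp only [Finset.coe_filter, Finset.mem_filter, Finset.mem_univ, true_and, Set.mem_ofPred_eq] at he ⊢
    exact ⟨mul_mem he.1 hzP, hin e e.2 he.1 he.2⟩
  have a4 : ((Finset.univ.filter fun e : Z => (e : X) ∈ P).filter fun e : Z => q e).card <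
      (Finset.univ.filter fun e : Z => q e).card := by
    refine Finset.card_lt_card ⟨fun e he => ?_, fun h => ?_⟩
    · exact Finset.mem_filter.2 ⟨Finset.mem_univ _, (Finset.mem_filter.1 he).2⟩
    · exact h1 (Finset.mem_filter.1 (Finset.mem_filter.1 (h (Finset.mem_filter.2
        ⟨Finset.mem_univ (⟨x₀, h0⟩ : Z), h2⟩))).1).2
  rw [Nat.card_eq_fintype_card (α := {e : Z // q e}), Fintype.card_subtype]
  omega

theorem pure_eq' (hp : IsType D l M) {N : ℕ} (hN : D.nroots = N) {A : Subgroup (YY D p)} (h : EL p r A) {d : ℕ}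
    (hd : ∀ e ∈ A, e ≠ 1 → dd p e = d) : ∃ k δ : ℕ, Nat.card A = r ^ k ∧
      Module.finrank (KK p) (Fx p (A : Set (YY D p))) = δ ∧
      ((r : ℤ) - 1) * r ^ k * δ = r ^ k * (r * d - (l + N : ℕ)) + r * ((l + N : ℕ) - d) := by
  subst hN
  obtain ⟨k, hk⟩ := h.exists_card
  have h1 := pure_eq hp h hd
  rw [hk, Nat.cast_pow] at h1
  exact ⟨k, _, hk, rfl, h1⟩

variable {q : ℕ}

/-- the finite group fixes only the centre of the Lie algebra -/
def FixT (L : Lift hp p T) : Prop := (D = chevF4 → p ≠ 2) →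
  Module.finrank (KK p) (Fx p (Set.range L.ι)) ≤ 1 ∧ (D = chevE8 → Fx p (Set.range L.ι) = ⊥)

theorem fx_one {F : XF hp p q T} (hT : FixT F.L) (C : DS.Nt.Ctx F.L H) (hL : DS.Loc T H E r) (hE : EA p r (im F.L E))
    (h2 : D = chevF4 → p ≠ 2) {i : Fin l} (hJ : ∃ J, JS hp p r i J ∧ FJ hp p r i J) {d : ℕ}
    (hd : ∀ e ∈ im F.L E, e ∈ Om hp p r i ↔ dd p e = d) (hne : ∃ e ∈ im F.L E, dd p e = d) :
    Module.finrank (KK p) (Fx p (im F.L E : Set (YY D p))) ≤ 1 ∧
      (D = chevE8 → Module.finrank (KK p) (Fx p (im F.L E : Set (YY D p))) = 0) := by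
  obtain ⟨J, hJ, hF⟩ := hJ
  have h1 := fx_le C hL hE h2 hJ hF hd hne
  obtain ⟨h3, h4⟩ := hT h2
  exact ⟨(Submodule.finrank_mono h1).trans h3, fun h => by rw [eq_bot_iff.2 (h1.trans (h4 h).le), finrank_bot]⟩

/-- the remaining cases -/
def Jor (L : Lift hp p T) (E : Subgroup G) (r : ℕ) : Prop :=
  OutA L E r ∧ ∃ d, (∀ e ∈ im L E, e ≠ 1 → dd p e = d) ∧ (D = chevF4 ∧ r = 3 ∧ d = 16 ∨ D = chevE6 ∧ r = 3 ∧ d = 24 ∨
    D = chevE8 ∧ r = 5 ∧ d = 48 ∨ D = chevE8 ∧ r = 2 ∧ d = 120)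

end Gen

theorem pow_cases (r k n : ℕ) (hr : 2 ≤ r) : (∃ j ≤ n, k = j) ∨ r ^ n ∣ r ^ k ∧ 0 < r ^ k := by
  rcases le_total k n with h | h
  · exact Or.inl ⟨k, h, rfl⟩
  · exact Or.inr ⟨pow_dvd_pow r h, pow_pos (by omega) _⟩

section Types

variable {p : ℕ} [Fact p.Prime] {G : Type} [Group G] [Finite G] {T H E : Subgroup G} {r q : ℕ}

theorem jor_F4 {M : CoxeterMatrix (Fin 4)} {hp : IsType chevF4 4 M} {F : XF hp p q T} (hT : FixT F.L) (hJ2 : BoxFJ2)
    (C : DS.Nt.Ctx F.L H) (hL : DS.Loc T H E r) (hE : EA p r (im F.L E)) : Jor F.L E r := by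
  have hi := fun e he h1 => iso_F4 hE.prime (C.iso hL hE (e := e) he h1)
  have hnt := C.not_toral hL
  obtain ⟨e0, he0, he1⟩ := exists_ne_im F.L hL
  rcases hi e0 he0 he1 with ⟨rfl, -⟩ | ⟨rfl, -⟩
  · exfalso
    have hi' := fun e he h1 => ((hi e he h1).resolve_right fun h => absurd h.1 (by norm_num)).2
    rcases cls hL hE (fun _ => hE.ne.symm) 36 fun x hx y hy h1 h2 h3 => (hi' _ (mul_mem hx hy) h3).resolve_right
      fun h => f4_mul hp hE.ne (hE.tp x hx y hy) (hE.pow x hx) (hE.pow y hy) h1 h2 h.1 with h | h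
    · have hd := fun e he h1 => (hi' e he h1).resolve_left (h e he h1)
      have h1 := (fx_one hT C hL hE (fun _ => hE.ne.symm) (hJ2 _ _ _ hp p hE.ne.symm 3 (Or.inl ⟨rfl, rfl⟩))
        (om_iff (by rw [nri_F4.2.1]) (by rw [nrF4]; norm_num) fun e he h1 _ => (hd e he h1).2)
        ⟨e0, he0, (hd e0 he0 he1).1⟩).1
      obtain ⟨k, δ, -, h2, h3⟩ := pure_eq' hp nrF4 hE.el fun e he h1 => (hd e he h1).1
      rw [h2] at h1
      have h4 : 2 ^ k * (δ + 4) = 56 := by zify; push_cast at h3; linear_combination h3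
      rcases pow_cases 2 k 4 le_rfl with ⟨j, hj, rfl⟩ | ⟨⟨c, h5⟩, -⟩
      · interval_cases k <;> omega
      · rw [h5, mul_assoc] at h4
        omega
    · exact hnt (P4.boxP4 p _ hE h)
  · have hi' := fun e he h1 => ((hi e he h1).resolve_left fun h => absurd h.1 (by norm_num)).2
    refine ⟨(loc_struct C hL hE).resolve_right fun h => ?_, 16, hi', Or.inl ⟨rfl, rfl, rfl⟩⟩
    rcases h.2 with h | h | h | h | h | h
    exacts [absurd h.2.1 (by norm_num), absurd h.2.1 (by norm_num), absurd h.2.1 (by norm_num), neF4_E7 h.1.symm,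
      absurd h.2.1 (by norm_num), neF4_E8 h.1.symm]

theorem jor_E6 {M : CoxeterMatrix (Fin 6)} {hp : IsType chevE6 6 M} {F : XF hp p q T} (hT : FixT F.L) (hJ2 : BoxFJ2)
    (C : DS.Nt.Ctx F.L H) (hL : DS.Loc T H E r) (hE : EA p r (im F.L E)) : Jor F.L E r := by
  have hi := fun e he h1 => iso_E6 hE.prime (C.iso hL hE (e := e) he h1)
  obtain ⟨e0, he0, he1⟩ := exists_ne_im F.L hL
  rcases hi e0 he0 he1 with ⟨rfl, h0, -⟩ | ⟨rfl, -⟩
  · exfalso
    have hd := fun e he h1 => ((hi e he h1).resolve_right fun h => absurd h.1 (by norm_num)).2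
    have h1 := (fx_one hT C hL hE (fun _ => hE.ne.symm) (hJ2 _ _ _ hp p hE.ne.symm 1 (Or.inr (Or.inl ⟨rfl, rfl⟩)))
      (om_iff (by rw [nri_E6.1]) (by rw [nrE6]; norm_num) fun e he h1 _ => (hd e he h1).2) ⟨e0, he0, h0⟩).1
    obtain ⟨k, δ, -, h2, h3⟩ := pure_eq' hp nrE6 hE.el fun e he h1 => (hd e he h1).1
    rw [h2] at h1
    have h4 : 2 ^ k * (δ + 2) = 80 := by zify; push_cast at h3; linear_combination h3
    rcases pow_cases 2 k 5 le_rfl with ⟨j, hj, rfl⟩ | ⟨⟨c, h5⟩, -⟩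
    · interval_cases k <;> omega
    · rw [h5, mul_assoc] at h4
      omega
  · have hi' := fun e he h1 => ((hi e he h1).resolve_left fun h => absurd h.1 (by norm_num)).2
    refine ⟨(loc_struct C hL hE).resolve_right fun h => ?_, 24, hi', Or.inr (Or.inl ⟨rfl, rfl, rfl⟩)⟩
    rcases h.2 with h | h | h | h | h | h
    exacts [absurd h.2.1 (by norm_num), absurd h.2.1 (by norm_num), absurd h.2.1 (by norm_num), neE6_E7 h.1.symm,
      absurd h.2.1 (by norm_num), neE6_E8 h.1.symm]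

theorem jor_E7 {M : CoxeterMatrix (Fin 7)} {hp : IsType chevE7 7 M} {F : XF hp p q T} (hT : FixT F.L) (hJ2 : BoxFJ2)
    (hJ3 : BoxFJ3) (C : DS.Nt.Ctx F.L H) (hL : DS.Loc T H E r) (hE : EA p r (im F.L E)) : False := by
  have hi := fun e he h1 => iso_E7 hE.prime (C.iso hL hE (e := e) he h1)
  have hnt := C.not_toral hL
  obtain ⟨e0, he0, he1⟩ := exists_ne_im F.L hL
  rcases hi e0 he0 he1 with ⟨rfl, -⟩ | ⟨rfl, h0, -⟩
  · have hi' := fun e he h1 => ((hi e he h1).resolve_right fun h => absurd h.1 (by norm_num)).2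
    rcases cls hL hE (fun _ => hE.ne.symm) 69 fun x hx y hy h1 h2 h3 => ((hi' _ (mul_mem hx hy) h3).resolve_left
      fun h => e7_mul hp hE.ne (hE.tp x hx y hy) (hE.pow x hx) (hE.pow y hy) h1 h2 h.1).1 with h | h
    · exact hnt (hE.toral_of_card (card_le_of_dvd hE.el (pure_dvd hp hE.el fun e he h1 =>
        ((hi' e he h1).resolve_right fun h2 => h e he h1 h2.1).1) (by rw [nrE7]; decide)))
    · have h1 := (fx_one hT C hL hE (fun _ => hE.ne.symm)
        (hJ2 _ _ _ hp p hE.ne.symm 0 (Or.inr (Or.inr (Or.inl ⟨rfl, rfl⟩)))) (d := 69)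
        (om_iff (by rw [nri_E7.1]) (by rw [nrE7]; norm_num) fun e he h1 h2 =>
          ((hi' e he h1).resolve_left fun h => by omega).2) ⟨e0, he0, h e0 he0 he1⟩).1
      obtain ⟨k, δ, -, h2, h3⟩ := pure_eq' hp nrE7 hE.el h
      rw [h2] at h1
      have h4 : 2 ^ k * δ = 2 ^ k * 5 + 128 := by zify; push_cast at h3; linear_combination h3
      have h5 := Nat.mul_le_mul_left (2 ^ k) h1
      omega
  · have hd := fun e he h1 => ((hi e he h1).resolve_left fun h => absurd h.1 (by norm_num)).2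
    have h1 := (fx_one hT C hL hE (fun h => absurd h neF4_E7) (hJ3 _ _ _ hp p hE.ne.symm 2 (Or.inl ⟨rfl, rfl⟩))
      (om_iff (by rw [nri_E7.2.2.1]) (by rw [nrE7]; norm_num) fun e he h1 _ => (hd e he h1).2) ⟨e0, he0, h0⟩).1
    obtain ⟨k, δ, -, h2, h3⟩ := pure_eq' hp nrE7 hE.el fun e he h1 => (hd e he h1).1
    rw [h2] at h1
    have h4 : 3 ^ k * (2 * δ + 4) = 270 := by zify; push_cast at h3; linear_combination h3
    rcases pow_cases 3 k 4 (by norm_num) with ⟨j, hj, rfl⟩ | ⟨⟨c, h5⟩, -⟩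
    · interval_cases k <;> omega
    · rw [h5, mul_assoc] at h4
      omega

theorem jor_E8 {M : CoxeterMatrix (Fin 8)} {hp : IsType chevE8 8 M} {F : XF hp p q T} (hT : FixT F.L) (hJ2 : BoxFJ2)
    (hJ3 : BoxFJ3) (h83 : BoxE83) (C : DS.Nt.Ctx F.L H) (hL : DS.Loc T H E r) (hE : EA p r (im F.L E)) :
    Jor F.L E r := by
  have hi := fun e he h1 => iso_E8 hE.prime (C.iso hL hE (e := e) he h1)
  have hnt := C.not_toral hL
  obtain ⟨e0, he0, he1⟩ := exists_ne_im F.L hL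
  rcases hi e0 he0 he1 with ⟨rfl, -⟩ | ⟨rfl, -⟩ | ⟨rfl, -⟩
  · have hi' := fun e he h1 => ((hi e he h1).resolve_right fun h =>
      h.elim (fun h => absurd h.1 (by norm_num)) fun h => absurd h.1 (by norm_num)).2
    by_cases hne : ∃ e ∈ im F.L E, dd p e = 136
    · exfalso
      obtain ⟨J, hJ, hF⟩ := hJ2 _ _ _ hp p hE.ne.symm 7 (Or.inr (Or.inr (Or.inr ⟨rfl, rfl⟩)))
      have hd : ∀ e ∈ im F.L E, e ∈ Om hp p 2 7 ↔ dd p e = 136 := om_iff (by rw [nri_E8.2.1]) (by rw [nrE8]; norm_num)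
        fun e he h1 h2 => ((hi' e he h1).resolve_left (by omega)).2
      have hD := stepD C hL hE (fun _ => hE.ne.symm) hJ hd hne
      have h0 := (fx_one hT C hL hE (fun _ => hE.ne.symm) ⟨J, hJ, hF⟩ hd hne).2 rfl
      have := hE.fin
      have hq := fun z (hz : z ∈ im F.L E ∧ dd p z = 136) x hx =>
        hJ.q8 rfl rfl z ((hd z hz.1).2 hz.2) x (hE.pow x hx) (hE.tp z hz.1 x hx)
      have hs := fun z (hz : z ∈ im F.L E ∧ dd p z = 136) =>
        Subgroup.mem_centralizer_iff.2 fun j hj => hJ.cen z ((hd z hz.1).2 hz.2) j hj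
      have h1 : Nat.card (im F.L E) ≤ 2 ^ 6 := DS.NT.card_le_of_two (Ω := {z | z ∈ im F.L E ∧ dd p z = 136})
        (P := fun z => Subgroup.centralizer (J z : Set (YY chevE8 p))) hE.comm hE.pow
        (fun h => one_not_mem_Om hE.prime ((hd 1 h.1).2 h.2)) hD.clo hs (fun z hz => hD.idx z hz.1 hz.2)
        (fun z hz x hx hx' => ⟨fun h h1 => ((hq z hz x hx).1 hx').1 h.2 h1.2,
          fun h => ⟨mul_mem hx hz.1, ((hq z hz x hx).1 hx').2 fun h1 => h ⟨hx, h1⟩⟩⟩)
        (fun z hz x hx hx' => ⟨fun h => ⟨hx, ((hq z hz x hx).2 hx').1 h.2⟩,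
          fun h => ⟨mul_mem hx hz.1, ((hq z hz x hx).2 hx').2 h.2⟩⟩)
        fun x hx h => hD.rad hE x hx fun z hz hz' => h z ⟨hz, hz'⟩
      have h2 := two_eq hp hE.el (d := 136) (d' := 120) (fun e he h1 => (hi' e he h1).symm.imp_left And.left)
        (by rw [nrE8]; norm_num) (by norm_num)
      rw [h0, show 8 + chevE8.nroots = 248 by rw [nrE8]] at h2
      obtain ⟨z, hz, hz'⟩ := hne
      have h3 : ∃ x, (x ∈ im F.L E ∧ dd p x = 136) ∧ x ∉ Subgroup.centralizer (J z : Set (YY chevE8 p)) := by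
        by_contra h3
        have h4 := hD.idx z hz hz'
        rw [Subgroup.relIndex_eq_one.2 (hD.clo.ge.trans ((Subgroup.closure_le _).2 fun x hx =>
          not_not.1 fun h5 => h3 ⟨x, hx, h5⟩))] at h4
        omega
      obtain ⟨x, hx, hx'⟩ := h3
      have h4 := cnt_two (q := fun x => dd p x = 136) hz (hs z ⟨hz, hz'⟩) (hD.idx z hz hz')
        (fun y hy hy' h => ((hq z ⟨hz, hz'⟩ y hy).1 hy').2 h) hx.1 hx' hx.2
      push_cast at h2
      omega
    · have hd : ∀ e ∈ im F.L E, e ≠ 1 → dd p e = 120 := fun e he h1 =>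
        (hi' e he h1).resolve_right fun h => hne ⟨e, he, h.1⟩
      obtain ⟨A, hA, hT, hc⟩ := (P8.boxP8 p _ hE hd).resolve_left hnt
      refine ⟨⟨⟨A, hA, hT, noroot hp (hE.mono hA).el hc (fun e he => hd e (hA he)) (by norm_num)
        (by rw [nrE8]; norm_num)⟩, Or.inr (Or.inr (Or.inr ⟨rfl, rfl, ?_⟩))⟩, 120, hd,
        Or.inr (Or.inr (Or.inr ⟨rfl, rfl, rfl⟩))⟩
      obtain ⟨k, δ, h1, -, h3⟩ := pure_eq' hp nrE8 hE.el hd
      have h4 : 2 ^ k * δ + 2 ^ k * 8 = 256 := by zify; push_cast at h3; linear_combination h3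
      rw [← card_im (L := F.L) hL.le_S, h1]
      omega
  · exfalso
    have hi' := fun e he h1 => (((hi e he h1).resolve_left fun h => absurd h.1 (by norm_num)).resolve_right fun h =>
      absurd h.1 (by norm_num)).2
    rcases cls hL hE (fun h => absurd h neF4_E8) 86 fun x hx y hy h1 h2 h3 => ((hi' _ (mul_mem hx hy) h3).resolve_left
      fun h => by
        have h4 := h83 p hE.ne.symm x y (hE.tp x hx y hy) (hE.pow x hx) (hE.pow y hy) h1 h2 h
        have h5 := hi' _ (mul_mem hx (pow_mem hy 2)) fun e => by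
          rw [e, dd_one hp, nrE8] at h4
          omega
        omega).1 with h | h
    · exact hnt (hE.toral_of_card (card_le_of_dvd hE.el (pure_dvd hp hE.el fun e he h1 =>
        (hi' e he h1).resolve_right fun h2 => h e he h1 h2.1) (by rw [nrE8]; decide)))
    · have h1 := (fx_one hT C hL hE (fun h => absurd h neF4_E8) (hJ3 _ _ _ hp p hE.ne.symm 6 (Or.inr ⟨rfl, rfl⟩)) (d := 86)
        (om_iff (by rw [nri_E8.2.2.2.1]) (by rw [nrE8]; norm_num) fun e he h1 h2 =>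
          ((hi' e he h1).resolve_left (by omega)).2) ⟨e0, he0, h e0 he0 he1⟩).2 rfl
      obtain ⟨k, δ, -, h2, h3⟩ := pure_eq' hp nrE8 hE.el h
      rw [h2] at h1
      have h4 : 2 * (3 ^ k * δ) = 3 ^ k * 10 + 486 := by zify; push_cast at h3; linear_combination h3
      rw [h1] at h4
      omega
  · have hi' := fun e he h1 => (((hi e he h1).resolve_left fun h => absurd h.1 (by norm_num)).resolve_left fun h =>
      absurd h.1 (by norm_num)).2
    refine ⟨(loc_struct C hL hE).resolve_right fun h => ?_, 48, hi', Or.inr (Or.inr (Or.inl ⟨rfl, rfl, rfl⟩))⟩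
    rcases h.2 with h | h | h | h | h | h <;> exact absurd h.2.1 (by norm_num)

end Types

theorem jor (hJ2 : BoxFJ2) (hJ3 : BoxFJ3) (h83 : BoxE83) {D : ChevalleyDatum} {l : ℕ}
    {M : CoxeterMatrix (Fin l)} {hp : IsType D l M} {p : ℕ} [Fact p.Prime] {G : Type} [Group G] [Finite G]
    {T H E : Subgroup G} {r q : ℕ} {F : XF hp p q T} (hT : FixT F.L) (C : DS.Nt.Ctx F.L H) (hL : DS.Loc T H E r)
    (hE : EA p r (im F.L E)) : Jor F.L E r := by
  have h := typ_l hp
  rcases C.typ with rfl | rfl | rfl | rfl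
  · obtain rfl := h.1 rfl
    exact jor_F4 hT hJ2 C hL hE
  · obtain rfl := h.2.1 rfl
    exact jor_E6 hT hJ2 C hL hE
  · obtain rfl := h.2.2.1 rfl
    exact (jor_E7 hT hJ2 hJ3 C hL hE).elim
  · obtain rfl := h.2.2.2 rfl
    exact jor_E8 hT hJ2 hJ3 h83 C hL hE

end Cfsg.Agent.N2.Ex.Loc
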